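import Groth.Prelude.Def_AlgSt2
import Groth.Agent.FibBase.Slices
import Groth.Agent.FibBase.Basic

/-! Arrows in the fibres of a category fibred in groupoids between values of functors out of slices. -/

set_option autoImplicit false
set_option backward.isDefEq.respectTransparency false
set_option backward.isDefEq.respectTransparency.types false

universe v₄ u₄ v u

open CategoryTheory CategoryTheory.Functor Groth.Agent.FibBase

namespace Groth.Agent.FCov14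

variable {C : Type u} [Category.{v} C] {𝒳 : BasedCategory.{v₄, u₄} C} {U₁ U₂ U₃ U₄ : C}

/-- An arrow over the identity between values of two functors out of slices. -/
structure Arr (y₁ : FibCat.overCat U₁ ⥤ᵇ 𝒳) (y₂ : FibCat.overCat U₂ ⥤ᵇ 𝒳) (W : C) where
  u₁ : W ⟶ U₁
  u₂ : W ⟶ U₂
  m : y₁.obj (Over.mk u₁) ⟶ y₂.obj (Over.mk u₂)
  lift : 𝒳.p.IsHomLift (𝟙 W) m

variable {y₁ : FibCat.overCat U₁ ⥤ᵇ 𝒳} {y₂ : FibCat.overCat U₂ ⥤ᵇ 𝒳} {y₃ : FibCat.overCat U₃ ⥤ᵇ 𝒳}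
  {y₄ : FibCat.overCat U₄ ⥤ᵇ 𝒳}

theorem isHomLift_map (y : FibCat.overCat U₁ ⥤ᵇ 𝒳) {a b : Over U₁} (h : a ⟶ b) : 𝒳.p.IsHomLift h.left (y.map h) :=
  have : (FibCat.overCat U₁).p.IsHomLift h.left h := IsHomLift.map (FibCat.overCat U₁).p h
  y.preserves_isHomLift h.left h

/-- The identification of the values at equal structure maps. -/
def castM (y : FibCat.overCat U₁ ⥤ᵇ 𝒳) {W : C} {u u' : W ⟶ U₁} (e : u = u') :
    y.obj (Over.mk u) ⟶ y.obj (Over.mk u') :=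
  y.map (Over.homMk (𝟙 W) ((Category.id_comp u').trans e.symm))

instance (y : FibCat.overCat U₁ ⥤ᵇ 𝒳) {W : C} {u u' : W ⟶ U₁} (e : u = u') :
    𝒳.p.IsHomLift (𝟙 W) (castM y e) := by
  let h : (Over.mk u : Over U₁) ⟶ Over.mk u' := Over.homMk (𝟙 W) ((Category.id_comp u').trans e.symm)
  show 𝒳.p.IsHomLift h.left (y.map h)
  exact isHomLift_map y h

theorem castM_rfl (y : FibCat.overCat U₁ ⥤ᵇ 𝒳) {W : C} (u : W ⟶ U₁) : castM y (rfl : u = u) = 𝟙 _ :=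
  (congrArg y.map (Over.OverMorphism.ext rfl)).trans (y.toFunctor.map_id _)

theorem castM_trans (y : FibCat.overCat U₁ ⥤ᵇ 𝒳) {W : C} {u u' u'' : W ⟶ U₁} (e : u = u') (e' : u' = u'') :
    castM y e ≫ castM y e' = castM y (e.trans e') := by
  subst e e'
  simp [castM_rfl]

namespace Arr

theorem ext' {W : C} {a b : Arr y₁ y₂ W} (h₁ : a.u₁ = b.u₁) (h₂ : a.u₂ = b.u₂)
    (hm : a.m ≫ castM y₂ h₂ = castM y₁ h₁ ≫ b.m) : a = b := by
  obtain ⟨u₁, u₂, m, _⟩ := a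
  obtain ⟨u₁', u₂', m', _⟩ := b
  obtain rfl : u₁ = u₁' := h₁
  obtain rfl : u₂ = u₂' := h₂
  rw [castM_rfl, castM_rfl, Category.comp_id, Category.id_comp] at hm
  obtain rfl : m = m' := hm
  rfl

/-- Restriction along a morphism of the base. -/
structure IsRes {W W' : C} (g : W' ⟶ W) (a' : Arr y₁ y₂ W') (a : Arr y₁ y₂ W) : Prop where
  h₁ : a'.u₁ = g ≫ a.u₁
  h₂ : a'.u₂ = g ≫ a.u₂
  w : a'.m ≫ y₂.map (Over.homMk g h₂.symm : Over.mk a'.u₂ ⟶ Over.mk a.u₂) =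
    y₁.map (Over.homMk g h₁.symm : Over.mk a'.u₁ ⟶ Over.mk a.u₁) ≫ a.m

variable (hX : FibCat.IsFibGrpd 𝒳.p)

include hX in
theorem existsUnique_res {W W' : C} (g : W' ⟶ W) (a : Arr y₁ y₂ W) : ∃! a' : Arr y₁ y₂ W', IsRes g a' a := by
  let k₁ : (Over.mk (g ≫ a.u₁) : Over U₁) ⟶ Over.mk a.u₁ := Over.homMk g rfl
  let k₂ : (Over.mk (g ≫ a.u₂) : Over U₂) ⟶ Over.mk a.u₂ := Over.homMk g rfl
  have := a.lift
  have : 𝒳.p.IsHomLift g (y₂.map k₂) := isHomLift_map y₂ k₂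
  have : 𝒳.p.IsHomLift g (y₁.map k₁) := isHomLift_map y₁ k₁
  have := isSC (hp := hX) g (y₂.map k₂)
  have : 𝒳.p.IsHomLift g (y₁.map k₁ ≫ a.m) := IsHomLift.comp_lift_id_right' 𝒳.p g (y₁.map k₁) W a.m
  let m' := IsStronglyCartesian.map 𝒳.p g (y₂.map k₂) (Category.id_comp g).symm (y₁.map k₁ ≫ a.m)
  have hm' : m' ≫ y₂.map k₂ = y₁.map k₁ ≫ a.m := IsStronglyCartesian.fac _ _ _ _ _
  refine ⟨⟨g ≫ a.u₁, g ≫ a.u₂, m', inferInstance⟩, ⟨rfl, rfl, hm'⟩, ?_⟩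
  rintro ⟨u₁, u₂, m'', hl⟩ ⟨h₁, h₂, hw⟩
  obtain rfl : u₁ = g ≫ a.u₁ := h₁
  obtain rfl : u₂ = g ≫ a.u₂ := h₂
  obtain rfl : m'' = m' := IsStronglyCartesian.ext 𝒳.p g (y₂.map k₂) (𝟙 W') (hw.trans hm'.symm)
  rfl

/-- The restriction. -/
noncomputable def res {W W' : C} (g : W' ⟶ W) (a : Arr y₁ y₂ W) : Arr y₁ y₂ W' :=
  (existsUnique_res hX g a).exists.choose

theorem isRes_res {W W' : C} (g : W' ⟶ W) (a : Arr y₁ y₂ W) : IsRes g (res hX g a) a :=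
  (existsUnique_res hX g a).exists.choose_spec

theorem res_eq {W W' : C} {g : W' ⟶ W} {a : Arr y₁ y₂ W} {a' : Arr y₁ y₂ W'} (h : IsRes g a' a) :
    res hX g a = a' :=
  (existsUnique_res hX g a).unique (isRes_res hX g a) h

theorem res_u₁ {W W' : C} (g : W' ⟶ W) (a : Arr y₁ y₂ W) : (res hX g a).u₁ = g ≫ a.u₁ := (isRes_res hX g a).h₁

theorem res_u₂ {W W' : C} (g : W' ⟶ W) (a : Arr y₁ y₂ W) : (res hX g a).u₂ = g ≫ a.u₂ := (isRes_res hX g a).h₂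

theorem res_id {W : C} (a : Arr y₁ y₂ W) : res hX (𝟙 W) a = a := by
  refine res_eq hX ⟨(Category.id_comp _).symm, (Category.id_comp _).symm, ?_⟩
  show a.m ≫ castM y₂ rfl = castM y₁ rfl ≫ a.m
  simp [castM_rfl]

theorem isRes_comp {W W' W'' : C} {g : W' ⟶ W} {g' : W'' ⟶ W'} {a : Arr y₁ y₂ W} {a' : Arr y₁ y₂ W'}
    {a'' : Arr y₁ y₂ W''} (h : IsRes g a' a) (h' : IsRes g' a'' a') : IsRes (g' ≫ g) a'' a := by
  refine ⟨by rw [h'.h₁, h.h₁, Category.assoc], by rw [h'.h₂, h.h₂, Category.assoc], ?_⟩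
  have e : ∀ {U : C} (y : FibCat.overCat U ⥤ᵇ 𝒳) {u : W ⟶ U} {u' : W' ⟶ U} {u'' : W'' ⟶ U} (p : g ≫ u = u')
      (p' : g' ≫ u' = u'') (p'' : (g' ≫ g) ≫ u = u''),
      y.map (Over.homMk (g' ≫ g) p'' : Over.mk u'' ⟶ Over.mk u) =
        y.map (Over.homMk g' p' : Over.mk u'' ⟶ Over.mk u') ≫ y.map (Over.homMk g p : Over.mk u' ⟶ Over.mk u) := by
    intro U y u u' u'' p p' p''
    rw [← y.toFunctor.map_comp]
    exact congrArg y.map (Over.OverMorphism.ext rfl)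
  rw [e y₂ h.h₂.symm h'.h₂.symm, e y₁ h.h₁.symm h'.h₁.symm, ← Category.assoc, h'.w, Category.assoc, h.w,
    Category.assoc]

theorem res_res {W W' W'' : C} (g : W' ⟶ W) (g' : W'' ⟶ W') (a : Arr y₁ y₂ W) :
    res hX g' (res hX g a) = res hX (g' ≫ g) a :=
  (res_eq hX (isRes_comp (isRes_res hX g a) (isRes_res hX g' _))).symm

/-- The composite. -/
def comp {W : C} (a : Arr y₁ y₂ W) (b : Arr y₂ y₃ W) (h : a.u₂ = b.u₁) : Arr y₁ y₃ W where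
  u₁ := a.u₁
  u₂ := b.u₂
  m := a.m ≫ castM y₂ h ≫ b.m
  lift := by
    have := a.lift
    have := b.lift
    infer_instance

theorem comp_u₁ {W : C} (a : Arr y₁ y₂ W) (b : Arr y₂ y₃ W) (h : a.u₂ = b.u₁) : (comp a b h).u₁ = a.u₁ := rfl

theorem comp_u₂ {W : C} (a : Arr y₁ y₂ W) (b : Arr y₂ y₃ W) (h : a.u₂ = b.u₁) : (comp a b h).u₂ = b.u₂ := rfl

variable (y₁) in
/-- The identity. -/
def idA {W : C} (u : W ⟶ U₁) : Arr y₁ y₁ W := ⟨u, u, 𝟙 _, IsHomLift.id (y₁.w_obj (Over.mk u))⟩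

theorem comp_assoc {W : C} (a : Arr y₁ y₂ W) (b : Arr y₂ y₃ W) (c : Arr y₃ y₄ W) (h : a.u₂ = b.u₁)
    (h' : b.u₂ = c.u₁) : comp (comp a b h) c h' = comp a (comp b c h') h := by
  refine ext' rfl rfl ?_
  simp [comp, castM_rfl]

theorem id_comp' {W : C} (a : Arr y₁ y₂ W) (u : W ⟶ U₁) (h : u = a.u₁) : comp (idA y₁ u) a h = a := by
  refine ext' h rfl ?_
  simp [comp, idA, castM_rfl]

theorem comp_id' {W : C} (a : Arr y₁ y₂ W) (u : W ⟶ U₂) (h : a.u₂ = u) : comp a (idA y₂ u) h = a := by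
  refine ext' rfl h.symm ?_
  simp [comp, idA, castM_rfl, castM_trans]

/-- The inverse. -/
noncomputable def inv {W : C} (a : Arr y₁ y₂ W) : Arr y₂ y₁ W :=
  haveI := a.lift
  haveI : IsIso a.m := isIso_of_lift (hp := hX) (𝟙 W) _
  ⟨a.u₂, a.u₁, CategoryTheory.inv a.m, IsHomLift.lift_id_inv_isIso 𝒳.p W a.m⟩

theorem inv_u₁ {W : C} (a : Arr y₁ y₂ W) : (inv hX a).u₁ = a.u₂ := rfl

theorem inv_u₂ {W : C} (a : Arr y₁ y₂ W) : (inv hX a).u₂ = a.u₁ := rfl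

theorem comp_inv {W : C} (a : Arr y₁ y₂ W) : comp a (inv hX a) rfl = idA y₁ a.u₁ := by
  haveI := a.lift
  haveI : IsIso a.m := isIso_of_lift (hp := hX) (𝟙 W) _
  refine ext' rfl rfl ?_
  simp [comp, inv, idA, castM_rfl]

theorem inv_comp {W : C} (a : Arr y₁ y₂ W) : comp (inv hX a) a rfl = idA y₂ a.u₂ := by
  haveI := a.lift
  haveI : IsIso a.m := isIso_of_lift (hp := hX) (𝟙 W) _
  refine ext' rfl rfl ?_
  simp [comp, inv, idA, castM_rfl]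

theorem res_idA {W W' : C} (g : W' ⟶ W) (u : W ⟶ U₁) : res hX g (idA y₁ u) = idA y₁ (g ≫ u) :=
  res_eq hX ⟨rfl, rfl, by simp [idA]⟩

theorem res_comp {W W' : C} (g : W' ⟶ W) (a : Arr y₁ y₂ W) (b : Arr y₂ y₃ W) (h : a.u₂ = b.u₁) :
    res hX g (comp a b h) = comp (res hX g a) (res hX g b) (by rw [res_u₂, res_u₁, h]) := by
  have ra := isRes_res hX g a
  have rb := isRes_res hX g b
  refine res_eq hX ⟨ra.h₁, rb.h₂, ?_⟩
  have hc : castM y₂ ((ra.h₂.trans (congrArg (g ≫ ·) h)).trans rb.h₁.symm : (res hX g a).u₂ = (res hX g b).u₁) ≫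
      y₂.map (Over.homMk g rb.h₁.symm : Over.mk (res hX g b).u₁ ⟶ Over.mk b.u₁) =
      y₂.map (Over.homMk g ra.h₂.symm : Over.mk (res hX g a).u₂ ⟶ Over.mk a.u₂) ≫ castM y₂ h := by
    simp only [castM, ← y₂.toFunctor.map_comp]
    exact congrArg y₂.map (Over.OverMorphism.ext ((Category.id_comp g).trans (Category.comp_id g).symm))
  show ((res hX g a).m ≫ _ ≫ (res hX g b).m) ≫ _ = _ ≫ a.m ≫ castM y₂ h ≫ b.m
  rw [Category.assoc, Category.assoc, rb.w, reassoc_of% hc, reassoc_of% ra.w]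

theorem res_inv {W W' : C} (g : W' ⟶ W) (a : Arr y₁ y₂ W) : res hX g (inv hX a) = inv hX (res hX g a) := by
  haveI := a.lift
  haveI := (res hX g a).lift
  haveI : IsIso a.m := isIso_of_lift (hp := hX) (𝟙 W) _
  haveI : IsIso (res hX g a).m := isIso_of_lift (hp := hX) (𝟙 W') _
  have ra := isRes_res hX g a
  refine res_eq hX ⟨ra.h₂, ra.h₁, ?_⟩
  show CategoryTheory.inv (res hX g a).m ≫ _ = _ ≫ CategoryTheory.inv a.m
  rw [IsIso.inv_comp_eq, ← Category.assoc, IsIso.eq_comp_inv]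
  exact ra.w.symm

/-- An arrow with a prescribed source map. -/
def recast {W : C} (a : Arr y₁ y₂ W) {u₁ : W ⟶ U₁} {u₂ : W ⟶ U₂} (h₁ : u₁ = a.u₁) (h₂ : a.u₂ = u₂) :
    Arr y₁ y₂ W where
  u₁ := u₁
  u₂ := u₂
  m := castM y₁ h₁ ≫ a.m ≫ castM y₂ h₂
  lift := by
    have := a.lift
    infer_instance

theorem recast_eq {W : C} (a : Arr y₁ y₂ W) {u₁ : W ⟶ U₁} {u₂ : W ⟶ U₂} (h₁ : u₁ = a.u₁) (h₂ : a.u₂ = u₂) :
    recast a h₁ h₂ = a := by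
  refine ext' h₁ h₂.symm ?_
  simp [recast, castM_trans, castM_rfl]

end Arr

end Groth.Agent.FCov14
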