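import Groth.Agent.FCov14.IsomPts
import Groth.Agent.FibBase.FpMaps

/-! Fibre products of two functors out of slices as sheaves of isomorphisms. -/

set_option autoImplicit false
set_option backward.isDefEq.respectTransparency false
set_option backward.isDefEq.respectTransparency.types false

universe u

open CategoryTheory CategoryTheory.Limits Opposite AlgebraicGeometry AlgSp
open Groth.Agent.AlgSpLib Groth.Agent.AlgStLib Groth.Agent.FibBase

namespace Groth.Agent.FCov14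

variable {S : Scheme.{u}} {𝒳 : BasedCategory.{u + 1, u + 2} (Over S)} {U₁ U₂ : Over S}
  (hX : Stk.IsPrestack (J S) 𝒳) (y₁ : FibCat.overCat U₁ ⥤ᵇ 𝒳) (y₂ : FibCat.overCat U₂ ⥤ᵇ 𝒳)

/-- The arrow of an object. -/
noncomputable abbrev arrOf (p : (AlgSt.ofSp (isomP hX y₁ y₂)).obj) : Arr y₁ y₂ p.base :=
  (arrPt hX).symm (((J S).uliftYonedaEquiv (X := p.base) (F := isomP hX y₁ y₂)).symm p.sec)

theorem isRes_of_hom {p p' : (AlgSt.ofSp (isomP hX y₁ y₂)).obj} (f : p ⟶ p') :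
    Arr.IsRes f.hom (arrOf hX y₁ y₂ p) (arrOf hX y₁ y₂ p') := by
  have e : arrOf hX y₁ y₂ p = Arr.res hX.1 f.hom (arrOf hX y₁ y₂ p') := (arrPt hX).injective (by
    rw [← map_arrPt, Equiv.apply_symm_apply, Equiv.apply_symm_apply, ← f.map_sec]
    exact (GrothendieckTopology.uliftYonedaEquiv_symm_naturality_left ..).symm)
  rw [e]
  exact Arr.isRes_res hX.1 _ _

/-- The object of the fibre product given by an arrow. -/
noncomputable def fpObj {W : Over S} (a : Arr y₁ y₂ W) : (FibCat.fp y₁ y₂).obj :=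
  haveI := a.lift
  haveI : IsIso a.m := isIso_of_lift (hp := hX.1) (𝟙 W) _
  ⟨⟨Over.mk a.u₁, Over.mk a.u₂, asIso a.m⟩, a.lift⟩

/-- Sheaves of isomorphisms map to fibre products. -/
noncomputable def fpFun : AlgSt.ofSp (isomP hX y₁ y₂) ⥤ᵇ FibCat.fp y₁ y₂ where
  toFunctor :=
    { obj := fun p => fpObj hX y₁ y₂ (arrOf hX y₁ y₂ p)
      map := fun {p p'} f => ObjectProperty.homMk
        { fst := (Over.homMk f.hom (isRes_of_hom hX y₁ y₂ f).h₁.symm :
            Over.mk (arrOf hX y₁ y₂ p).u₁ ⟶ Over.mk (arrOf hX y₁ y₂ p').u₁)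
          snd := (Over.homMk f.hom (isRes_of_hom hX y₁ y₂ f).h₂.symm :
            Over.mk (arrOf hX y₁ y₂ p).u₂ ⟶ Over.mk (arrOf hX y₁ y₂ p').u₂)
          w := (isRes_of_hom hX y₁ y₂ f).w.symm }
      map_id := fun p => ObjectProperty.hom_ext _
        (CategoricalPullback.hom_ext (Over.OverMorphism.ext rfl) (Over.OverMorphism.ext rfl))
      map_comp := fun f g => ObjectProperty.hom_ext _
        (CategoricalPullback.hom_ext (Over.OverMorphism.ext rfl) (Over.OverMorphism.ext rfl)) }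
  w := rfl

theorem fpFun_isEquivOver : FibCat.IsEquivOver (fpFun hX y₁ y₂) := by
  refine isEquivOver_of_exists_iso _ ⟨fun {p p'} μ => ?_⟩ ⟨fun {p p'} f g e => ?_⟩ fun θ => ?_
  · have hs : μ.hom.snd.left = μ.hom.fst.left := by
      have : (FibCat.overCat U₂).p.IsHomLift ((FibCat.overCat U₁).p.map μ.hom.fst) μ.hom.snd :=
        FibCat.fp_isHomLift_snd y₁ y₂ μ
      exact (IsHomLift.fac' (FibCat.overCat U₂).p ((FibCat.overCat U₁).p.map μ.hom.fst) μ.hom.snd).trans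
        ((Category.id_comp _).trans (Category.comp_id _))
    have hr : Arr.IsRes μ.hom.fst.left (arrOf hX y₁ y₂ p) (arrOf hX y₁ y₂ p') := by
      refine ⟨(Over.w μ.hom.fst).symm, hs ▸ (Over.w μ.hom.snd).symm, ?_⟩
      exact (congrArg (fun k => (arrOf hX y₁ y₂ p).m ≫ y₂.map k) (Over.OverMorphism.ext hs.symm)).trans
        (μ.hom.w.symm.trans (congrArg (fun k => y₁.map k ≫ (arrOf hX y₁ y₂ p').m) (Over.OverMorphism.ext rfl)))
    refine ⟨⟨μ.hom.fst.left, ?_⟩, ObjectProperty.hom_ext _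
      (CategoricalPullback.hom_ext (Over.OverMorphism.ext rfl) (Over.OverMorphism.ext hs.symm))⟩
    refine Equiv.injective (α := (isomP hX y₁ y₂).obj.obj (op p.base)) (β := (yon S).obj p.base ⟶ isomP hX y₁ y₂)
      ((J S).uliftYonedaEquiv (X := p.base) (F := isomP hX y₁ y₂)).symm ?_
    refine (GrothendieckTopology.uliftYonedaEquiv_symm_naturality_left ..).symm.trans ?_
    have e := congrArg (arrPt hX) (Arr.res_eq hX.1 hr)
    have e' : (yon S).map (show p.base ⟶ p'.base from μ.hom.fst.left) ≫ arrPt hX (arrOf hX y₁ y₂ p') =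
        arrPt hX (arrOf hX y₁ y₂ p) := (map_arrPt hX _ _).trans e
    have hq : ∀ q : (AlgSt.ofSp (isomP hX y₁ y₂)).obj, arrPt hX (arrOf hX y₁ y₂ q) =
        ((J S).uliftYonedaEquiv (X := q.base) (F := isomP hX y₁ y₂)).symm q.sec := fun q =>
      Equiv.apply_symm_apply _ _
    rw [hq, hq] at e'
    exact e'
  · exact Stk.EltObj.hom_ext (congrArg (fun t => t.hom.fst.left) e)
  · obtain ⟨⟨a, b, i⟩, hi⟩ := θ
    obtain ⟨W₀, ⟨⟨⟩⟩, a⟩ := a
    obtain ⟨W₁, ⟨⟨⟩⟩, b⟩ := b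
    have hi' : 𝒳.p.IsHomLift (𝟙 W₀) i.hom := hi
    obtain rfl : W₁ = W₀ := (y₂.w_obj _).symm.trans (IsHomLift.codomain_eq 𝒳.p (𝟙 W₀) i.hom)
    let A : Arr y₁ y₂ W₁ := ⟨a, b, i.hom, hi'⟩
    let p : (AlgSt.ofSp (isomP hX y₁ y₂)).obj :=
      ⟨W₁, (J S).uliftYonedaEquiv (X := W₁) (F := isomP hX y₁ y₂) (arrPt hX A)⟩
    have hp : arrOf hX y₁ y₂ p = A := by
      show (arrPt hX).symm _ = A
      rw [Equiv.symm_apply_apply, Equiv.symm_apply_apply]
    have h1 : (arrOf hX y₁ y₂ p).u₁ = a := congrArg Arr.u₁ hp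
    have h2 : (arrOf hX y₁ y₂ p).u₂ = b := congrArg Arr.u₂ hp
    refine ⟨p, fpIsoMk (Over.isoMk (Iso.refl W₁) ((Category.id_comp _).trans h1.symm))
      (Over.isoMk (Iso.refl W₁) ((Category.id_comp _).trans h2.symm)) ?_, ?_⟩
    · have hm : ∀ (B : Arr y₁ y₂ W₁) (e : B = A), castM y₁ (congrArg Arr.u₁ e) ≫ i.hom =
          B.m ≫ castM y₂ (congrArg Arr.u₂ e) := by
        rintro B rfl
        simp [A, castM_rfl]
      exact hm (arrOf hX y₁ y₂ p) hp
    · exact fp_isHomLift (F := y₁) (G := y₂) (𝟙 W₁) _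
        (h := IsHomLift.of_fac' (FibCat.overCat U₁).p (𝟙 W₁) _ rfl rfl
          ((Category.id_comp _).trans (Category.comp_id _)).symm)

theorem spMapOfOver_fpFun :
    AlgSt.spMapOfOver (BasedFunctor.comp (fpFun hX y₁ y₂) (FibCat.fpFst y₁ y₂)) = isomP₁ hX y₁ y₂ := by
  refine SheafGlue.hom_ext_points fun W x => ?_
  obtain ⟨a, rfl⟩ := (arrPt hX).surjective x
  rw [arrPt_fst]
  apply (J S).uliftYonedaEquiv.injective
  rw [GrothendieckTopology.uliftYonedaEquiv_comp]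
  refine ULift.ext _ _ ?_
  show 𝟙 W ≫ ((arrPt hX).symm (((J S).uliftYonedaEquiv (X := W) (F := isomP hX y₁ y₂)).symm
    ((J S).uliftYonedaEquiv (arrPt hX a)))).u₁ = _
  rw [Equiv.symm_apply_apply, Equiv.symm_apply_apply, Category.id_comp]
  exact (Category.id_comp _).symm

end Groth.Agent.FCov14
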