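import Groth.Agent.FCov14.Chart
import Groth.Agent.FCov14.FpIsom
import Groth.Agent.AlgStLib.LocEss

/-! Framed sections and charts of the space of descent data. -/

set_option autoImplicit false
set_option backward.isDefEq.respectTransparency false
set_option backward.isDefEq.respectTransparency.types false

universe u

open CategoryTheory CategoryTheory.Limits Opposite AlgebraicGeometry AlgSp
open Groth.Agent.AlgSpLib Groth.Agent.AlgStLib Groth.Agent.FCov14.Pushf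

namespace Groth.Agent.FCov14.Chart

variable {S : Scheme.{u}} {𝒳 : BasedCategory.{u + 1, u + 2} (Over S)} {U : Over S}
  (hX : Stk.IsPrestack (J S) 𝒳) (f : FibCat.overCat U ⥤ᵇ 𝒳)
  {B Z B' : Over S} (pz : Z ⟶ B) (prB : B' ⟶ B) (prU : B' ⟶ U)

/-- The cover over the framed base. -/
noncomputable abbrev Z' : Over S := pb pz prB

/-- The map of the cover over the framed base. -/
noncomputable abbrev pz' : Z' pz prB ⟶ B' := prW pz prB

/-- The values of framed sections. -/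
noncomputable abbrev F' : Sp S := pullback (isomP₂ hX f f) ((yon S).map (pz' pz prB ≫ prU))

/-- The structure map of the values of framed sections. -/
noncomputable abbrev π' : F' hX f pz prB prU ⟶ (yon S).obj (Z' pz prB) :=
  pullback.snd (isomP₂ hX f f) ((yon S).map (pz' pz prB ≫ prU))

/-- The space of framed sections. -/
noncomputable def M' : Sp S := sheaf (pz' pz prB) (π' hX f pz prB prU)

theorem isAlgSpace_M' [IsFinite pz.left] [Flat pz.left] [LocallyOfFinitePresentation pz.left]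
    (hd : AlgSt.RepByAlgSp1 (FibCat.diag (FibCat.toSelf 𝒳))) : IsAlgSpace (M' hX f pz prB prU) := by
  obtain ⟨_, _, _⟩ := isFinite_base pz prB
  exact isAlgSpace_sheaf _ _ (isAlgSpace_pullback (isAlgSpace_isomP hX hd) (IsAlgSpace.yon_obj _)
    (IsAlgSpace.yon_obj U) _ _)

variable {f pz prB prU}

theorem frame_base {W V : Over S} (x : Sec (pz' pz prB) (π' hX f pz prB prU) W) {w : V ⟶ W} {z : V ⟶ Z}
    (e : w ≫ x.b ≫ prB = z ≫ pz) : w ≫ x.b = pbLift pz (w ≫ x.b) z (by rw [Category.assoc, e]) ≫ pz' pz prB :=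
  (pbLift_fst pz _ _ _).symm

/-- The arrows of a framed section. -/
noncomputable def frame {W V : Over S} (x : Sec (pz' pz prB) (π' hX f pz prB prU) W) (w : V ⟶ W) (z : V ⟶ Z)
    (e : w ≫ x.b ≫ prB = z ≫ pz) : Arr f f V :=
  (arrPt hX).symm (x.ev w _ (frame_base hX x e) ≫ pullback.fst _ _)

theorem frame_u₂ {W V : Over S} (x : Sec (pz' pz prB) (π' hX f pz prB prU) W) (w : V ⟶ W) (z : V ⟶ Z)
    (e : w ≫ x.b ≫ prB = z ≫ pz) : (frame hX x w z e).u₂ = w ≫ x.b ≫ prU := (yon S).map_injective (by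
  rw [← arrPt_snd hX, frame, Equiv.apply_symm_apply, Category.assoc, pullback.condition, ← Category.assoc,
    x.ev_π, ← Functor.map_comp]
  congr 1
  rw [← Category.assoc (pbLift _ _ _ _), ← frame_base hX x e, Category.assoc])

theorem frame_nat {W V V' : Over S} (x : Sec (pz' pz prB) (π' hX f pz prB prU) W) (g : V' ⟶ V) (w : V ⟶ W)
    (z : V ⟶ Z) (e : w ≫ x.b ≫ prB = z ≫ pz) (e' : (g ≫ w) ≫ x.b ≫ prB = (g ≫ z) ≫ pz) :
    frame hX x (g ≫ w) (g ≫ z) e' = Arr.res hX.1 g (frame hX x w z e) := by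
  apply (arrPt hX).injective
  rw [← map_arrPt, frame, frame, Equiv.apply_symm_apply, Equiv.apply_symm_apply, ← Category.assoc,
    x.ev_comp g w _ (frame_base hX x e)
      ((Category.assoc _ _ _).trans ((congrArg (g ≫ ·) (frame_base hX x e)).trans (Category.assoc _ _ _).symm))]
  congr 1
  refine x.ev_congr _ _ rfl ?_
  rw [pbLift_comp g _ _ _ (by rw [← e']; simp only [Category.assoc])]
  congr 1

theorem frame_res {W W' V : Over S} (x : Sec (pz' pz prB) (π' hX f pz prB prU) W) (k : W' ⟶ W) (w : V ⟶ W')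
    (z : V ⟶ Z) (e : w ≫ (x.res k).b ≫ prB = z ≫ pz) (e' : (w ≫ k) ≫ x.b ≫ prB = z ≫ pz) :
    frame hX (x.res k) w z e = frame hX x (w ≫ k) z e' := by
  rw [frame, frame]
  refine congrArg (fun r => (arrPt hX).symm (r ≫ pullback.fst _ _)) ?_
  rw [x.ev_res k w _ _ (by rw [Category.assoc]; exact frame_base hX (x.res k) e)]
  refine x.ev_congr _ _ rfl ?_
  congr 1

/-- The descent datum of a framed section. -/
noncomputable def frameDatum {W : Over S} (x : Sec (pz' pz prB) (π' hX f pz prB prU) W) :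
    Datum hX.1 f pz (x.b ≫ prB) where
  θ _ w z₁ z₂ e₁ e₂ := Arr.comp (frame hX x w z₁ e₁) (Arr.inv hX.1 (frame hX x w z₂ e₂))
    (by rw [Arr.inv_u₁, frame_u₂, frame_u₂])
  nat _ _ g w z₁ z₂ e₁ e₂ e₁' e₂' := by
    rw [Arr.res_comp]
    congr 1
    · exact frame_nat hX x g w z₁ e₁ e₁'
    · rw [Arr.res_inv]
      exact congrArg _ (frame_nat hX x g w z₂ e₂ e₂')
  cocycle _ w z₁ z₂ z₃ e₁ e₂ e₃ := by
    refine ⟨rfl, ?_⟩
    rw [Arr.comp_assoc]
    congr 1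
    rw [← Arr.comp_assoc (h := rfl) (h' := by rw [Arr.inv_u₁, frame_u₂, frame_u₂])]
    refine Eq.trans ?_ (Arr.id_comp' _ (frame hX x w z₂ e₂).u₂ (by rw [Arr.inv_u₁, frame_u₂, frame_u₂]))
    congr 1
    exact Arr.inv_comp hX.1 _

/-- The point of descent data of a framed section. -/
noncomputable def toM {W : Over S} (x : Sec (pz' pz prB) (π' hX f pz prB prU) W) : (yon S).obj W ⟶ M hX f pz :=
  (exists_pt hX (frameDatum hX x)).choose

theorem toM_b {W : Over S} (x : Sec (pz' pz prB) (π' hX f pz prB prU) W) : (sec₂ hX (toM hX x)).b = x.b ≫ prB :=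
  (exists_pt hX (frameDatum hX x)).choose_spec.choose

theorem toM_val {W V : Over S} (x : Sec (pz' pz prB) (π' hX f pz prB prU) W) (w : V ⟶ W) (z₁ z₂ : V ⟶ Z)
    (e₁ : w ≫ x.b ≫ prB = z₁ ≫ pz) (e₂ : w ≫ x.b ≫ prB = z₂ ≫ pz) :
    val₂ hX (sec₂ hX (toM hX x)) w z₁ z₂ (by rw [toM_b]; exact e₁) (by rw [toM_b]; exact e₂) =
      Arr.comp (frame hX x w z₁ e₁) (Arr.inv hX.1 (frame hX x w z₂ e₂)) (by rw [Arr.inv_u₁, frame_u₂, frame_u₂]) :=
  (exists_pt hX (frameDatum hX x)).choose_spec.choose_spec w z₁ z₂ e₁ e₂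

theorem toM_nat {W W' : Over S} (k : W' ⟶ W) (x : Sec (pz' pz prB) (π' hX f pz prB prU) W) :
    (yon S).map k ≫ toM hX x = toM hX (x.res k) := by
  refine pt_ext hX ?_ fun {V} w z₁ z₂ e₁ e₂ => ?_
  · rw [sec₂_map, toM_b]
    show k ≫ (sec₂ hX (toM hX x)).b = (k ≫ x.b) ≫ prB
    rw [toM_b, Category.assoc]
  · have hw : ∀ z : V ⟶ Z, w ≫ (sec₂ hX ((yon S).map k ≫ toM hX x)).b = z ≫ pz →
        w ≫ (x.res k).b ≫ prB = z ≫ pz ∧ (w ≫ k) ≫ x.b ≫ prB = z ≫ pz ∧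
          (w ≫ k) ≫ (sec₂ hX (toM hX x)).b = z ≫ pz := fun z e => by
      rw [sec₂_map] at e
      have e' : w ≫ k ≫ x.b ≫ prB = z ≫ pz := by rw [← toM_b hX x]; exact e
      exact ⟨by show w ≫ (k ≫ x.b) ≫ prB = _; rw [Category.assoc]; exact e', by rw [Category.assoc]; exact e',
        by rw [Category.assoc]; exact e⟩
    refine Eq.trans ?_ (toM_val hX (x.res k) w z₁ z₂ (hw z₁ e₁).1 (hw z₂ e₂).1).symm
    have h1 : val₂ hX (sec₂ hX ((yon S).map k ≫ toM hX x)) w z₁ z₂ e₁ e₂ =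
        val₂ hX (sec₂ hX (toM hX x)) (w ≫ k) z₁ z₂ (hw z₁ e₁).2.2 (hw z₂ e₂).2.2 := by
      simp only [sec₂_map]
      exact val₂_res hX _ k w z₁ z₂ _ _ _ _
    rw [h1, toM_val hX x (w ≫ k) z₁ z₂ (hw z₁ e₁).2.1 (hw z₂ e₂).2.1]
    congr 1
    · exact (frame_res hX x k w z₁ _ _).symm
    · exact congrArg _ (frame_res hX x k w z₂ _ _).symm

variable (f pz prB prU)

/-- The map from framed sections to descent data. -/
noncomputable def forgetFrame : M' hX f pz prB prU ⟶ M hX f pz :=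
  SheafGlue.homOfPoints (fun _ p => toM hX ((Pushf.pt (pz' pz prB) (π' hX f pz prB prU)).symm p)) fun V W k p => by
    rw [toM_nat]
    exact congrArg _ (pt_symm_map _ _ k p)

theorem pt_forgetFrame {W : Over S} (x : Sec (pz' pz prB) (π' hX f pz prB prU) W) :
    Pushf.pt _ _ x ≫ forgetFrame hX f pz prB prU = toM hX x := by
  rw [forgetFrame, SheafGlue.comp_homOfPoints]
  erw [Equiv.symm_apply_apply]

/-- The base of the framed sections is the product. -/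
def IsProd : Prop :=
  ∀ {W : Over S} (p : W ⟶ B) (q : W ⟶ U), ∃! r : W ⟶ B', r ≫ prB = p ∧ r ≫ prU = q

variable {f pz prB prU}

theorem frame_ext (hB : IsProd prB prU) {W : Over S} {x y : Sec (pz' pz prB) (π' hX f pz prB prU) W}
    (h₁ : x.b ≫ prB = y.b ≫ prB) (h₂ : x.b ≫ prU = y.b ≫ prU)
    (h : ∀ {V : Over S} (w : V ⟶ W) (z : V ⟶ Z) (e : w ≫ x.b ≫ prB = z ≫ pz),
      frame hX x w z e = frame hX y w z (by rw [← h₁]; exact e)) : x = y := by
  have hb : x.b = y.b := (hB (y.b ≫ prB) (y.b ≫ prU)).unique ⟨h₁, h₂⟩ ⟨rfl, rfl⟩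
  refine Sec.ext_ev hb fun V w z e => ?_
  refine pullback.hom_ext ?_ ((x.ev_π w z e).trans (y.ev_π w z _).symm)
  have e₀ : w ≫ x.b ≫ prB = (z ≫ prZ pz prB) ≫ pz := by
    rw [← Category.assoc, e, Category.assoc, pb_condition, Category.assoc]
  have hz : z = pbLift pz (w ≫ x.b) (z ≫ prZ pz prB) (by rw [Category.assoc, e₀]) :=
    pb_hom_ext pz (by rw [pbLift_fst, e]) (by rw [pbLift_snd])
  have h2 := congrArg (arrPt hX) (h w _ e₀)
  rw [frame, frame, Equiv.apply_symm_apply, Equiv.apply_symm_apply] at h2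
  refine Eq.trans ?_ (h2.trans ?_)
  · exact congrArg (· ≫ pullback.fst _ _) (x.ev_congr _ _ rfl hz)
  · refine congrArg (· ≫ pullback.fst _ _) (y.ev_congr _ _ rfl ?_)
    refine pb_hom_ext pz ?_ (by rw [pbLift_snd])
    rw [pbLift_fst, ← hb, e]

/-- A framed section from a natural family of arrows. -/
theorem exists_frame {W : Over S} (b' : W ⟶ B')
    (r : ∀ ⦃V : Over S⦄ (w : V ⟶ W) (z : V ⟶ Z), w ≫ b' ≫ prB = z ≫ pz → Arr f f V)
    (hr : ∀ ⦃V : Over S⦄ (w : V ⟶ W) (z : V ⟶ Z) (e : w ≫ b' ≫ prB = z ≫ pz), (r w z e).u₂ = w ≫ b' ≫ prU)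
    (hnat : ∀ ⦃V' V : Over S⦄ (g : V' ⟶ V) (w : V ⟶ W) (z : V ⟶ Z) (e : w ≫ b' ≫ prB = z ≫ pz)
      (e' : (g ≫ w) ≫ b' ≫ prB = (g ≫ z) ≫ pz), r (g ≫ w) (g ≫ z) e' = Arr.res hX.1 g (r w z e)) :
    ∃ x : Sec (pz' pz prB) (π' hX f pz prB prU) W, ∃ hb : x.b = b',
      ∀ {V : Over S} (w : V ⟶ W) (z : V ⟶ Z) (e : w ≫ b' ≫ prB = z ≫ pz),
        frame hX x w z (by rw [hb]; exact e) = r w z e := by
  have hz : ∀ {V : Over S} (w : V ⟶ W) (z : V ⟶ Z' pz prB) (e : w ≫ b' = z ≫ pz' pz prB),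
      w ≫ b' ≫ prB = (z ≫ prZ pz prB) ≫ pz := fun w z e => by
    rw [← Category.assoc, e, Category.assoc, pb_condition, Category.assoc]
  let x : Sec (pz' pz prB) (π' hX f pz prB prU) W := mkSec b'
    (fun V w z e => pullback.lift (arrPt hX (r w _ (hz w z e))) ((yon S).map z) (by
      rw [arrPt_snd, hr, ← Functor.map_comp, ← Category.assoc z, ← e, Category.assoc]))
    fun V w z e => pullback.lift_snd _ _ _
  refine ⟨x, rfl, fun {V} w z e => ?_⟩
  apply (arrPt hX).injective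
  rw [frame, Equiv.apply_symm_apply, mkSec_ev b' _ _ (fun V' V g w z e => pullback.hom_ext ?_ ?_), pullback.lift_fst]
  · exact congrArg _ (by simp only [x, mkSec, pbLift_snd])
  · refine (pullback.lift_fst _ _ _).trans (Eq.trans ?_ (Category.assoc _ _ _).symm)
    rw [pullback.lift_fst, map_arrPt]
    refine congrArg _ ?_
    rw [← hnat g w _ (hz w z e)
      ((Category.assoc _ _ _).trans ((congrArg (g ≫ ·) (hz w z e)).trans (Category.assoc _ _ _).symm))]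
    congr 1
  · rw [pullback.lift_snd, Category.assoc, pullback.lift_snd, Functor.map_comp]

variable {A : Over S} (a : (yon S).obj A ⟶ M hX f pz)

/-- The base map of a chart. -/
noncomputable abbrev bA : A ⟶ B := (sec₂ hX a).b

/-- An object over a chart trivialised by the descent datum of the chart. -/
structure ObjData where
  x : FibCat.overCat A ⥤ᵇ 𝒳
  α : ∀ ⦃V : Over S⦄ (w : V ⟶ A) (z : V ⟶ Z), w ≫ bA hX a = z ≫ pz → Arr x f V
  α_u₁ : ∀ ⦃V : Over S⦄ (w : V ⟶ A) (z : V ⟶ Z) (e : w ≫ bA hX a = z ≫ pz), (α w z e).u₁ = w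
  α_nat : ∀ ⦃V' V : Over S⦄ (g : V' ⟶ V) (w : V ⟶ A) (z : V ⟶ Z) (e : w ≫ bA hX a = z ≫ pz)
    (e' : (g ≫ w) ≫ bA hX a = (g ≫ z) ≫ pz), α (g ≫ w) (g ≫ z) e' = Arr.res hX.1 g (α w z e)
  α_θ : ∀ ⦃V : Over S⦄ (w : V ⟶ A) (z₁ z₂ : V ⟶ Z) (e₁ : w ≫ bA hX a = z₁ ≫ pz) (e₂ : w ≫ bA hX a = z₂ ≫ pz),
    ∃ h : (α w z₁ e₁).u₂ = (val₂ hX (sec₂ hX a) w z₁ z₂ e₁ e₂).u₁,
      Arr.comp (α w z₁ e₁) (val₂ hX (sec₂ hX a) w z₁ z₂ e₁ e₂) h = α w z₂ e₂

theorem liftSieve_mem [IsFinite pz.left] [Flat pz.left] [LocallyOfFinitePresentation pz.left] [Surjective pz.left]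
    {W : Over S} (b : W ⟶ B) : liftSieve pz b ∈ J S W := by
  obtain ⟨_, _, _⟩ := isFinite_base pz b
  have : Surjective (prW pz b).left :=
    MorphismProperty.of_isPullback ((isPullback_pb pz b).map (Over.forget S)).flip ‹Surjective pz.left›
  refine (J S).superset_covering ?_
    (mem_J_of_fppf (prW pz b) inferInstance inferInstance (prW pz b).left.surjective)
  rw [Sieve.generate_le_iff]
  rintro V g ⟨⟩
  exact ⟨prZ pz b, pb_condition pz b⟩

theorem exists_objData [IsFinite pz.left] [Flat pz.left] [LocallyOfFinitePresentation pz.left] [Surjective pz.left]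
    (hst : Stk.IsStack (J S) 𝒳) : Nonempty (ObjData hX a) := by
  obtain ⟨x, α, h1, h2, h3⟩ := (toDatum hX a).exists_object hst (liftSieve_mem _)
  exact ⟨⟨x, α, fun V w z e => (h1 w z e).1, h2, h3⟩⟩

variable {hX a} (O : ObjData hX a) (hB : IsProd prB prU)

/-- The framing data of a point of the isomorphism space over a chart. -/
noncomputable def frameVal {W V : Over S} (φ : Arr O.x f W) (w : V ⟶ W) (z : V ⟶ Z)
    (e : w ≫ φ.u₁ ≫ bA hX a = z ≫ pz) : Arr f f V :=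
  Arr.comp (Arr.inv hX.1 (O.α (w ≫ φ.u₁) z (by rw [Category.assoc]; exact e))) (Arr.res hX.1 w φ)
    (by rw [Arr.inv_u₂, O.α_u₁, Arr.res_u₁])

section Groupoid

variable {C : Type*} [Category C] {𝒴 : BasedCategory C} {U₁ U₂ : C} {x : FibCat.overCat U₁ ⥤ᵇ 𝒴}
  {g : FibCat.overCat U₂ ⥤ᵇ 𝒴} (hY : FibCat.IsFibGrpd 𝒴.p) {W : C}

theorem arr_cancel (α α₂ : Arr x g W) (θ : Arr g g W) (ρ : Arr x g W) (h : α.u₂ = θ.u₁)
    (hc : Arr.comp α θ h = α₂) (hu : α.u₁ = ρ.u₁) (hu₂ : α₂.u₁ = ρ.u₁) :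
    θ = Arr.comp (Arr.comp (Arr.inv hY α) ρ hu) (Arr.inv hY (Arr.comp (Arr.inv hY α₂) ρ hu₂)) rfl := by
  subst hc
  have hY' := hY
  obtain ⟨a₁, a₂, am, hal⟩ := α
  obtain ⟨t₁, t₂, tm, htl⟩ := θ
  obtain ⟨r₁, r₂, rm, hrl⟩ := ρ
  obtain rfl : a₂ = t₁ := h
  obtain rfl : a₁ = r₁ := hu
  have : IsIso am := Groth.Agent.FibBase.isIso_of_lift (hp := hY') (𝟙 W) am
  have : IsIso tm := Groth.Agent.FibBase.isIso_of_lift (hp := hY') (𝟙 W) tm
  have : IsIso rm := Groth.Agent.FibBase.isIso_of_lift (hp := hY') (𝟙 W) rm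
  refine Arr.ext' rfl rfl ?_
  simp [Arr.comp, Arr.inv, castM_rfl]

theorem arr_transport (α₁ α₂ : Arr x g W) (θ F₁ F₂ : Arr g g W) (h : α₁.u₂ = θ.u₁) (hF : F₁.u₂ = F₂.u₂)
    (hc : Arr.comp α₁ θ h = α₂) (hθ : θ = Arr.comp F₁ (Arr.inv hY F₂) hF) (p : α₁.u₂ = F₁.u₁) (q : α₂.u₂ = F₂.u₁) :
    Arr.comp α₁ F₁ p = Arr.comp α₂ F₂ q := by
  subst hc hθ
  have hY' := hY
  obtain ⟨a₁, a₂, am, hal⟩ := α₁
  obtain ⟨f₁, f₂, fm, hfl⟩ := F₁
  obtain ⟨g₁, g₂, gm, hgl⟩ := F₂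
  obtain rfl : f₂ = g₂ := hF
  obtain rfl : a₂ = f₁ := p
  have : IsIso gm := Groth.Agent.FibBase.isIso_of_lift (hp := hY') (𝟙 W) gm
  refine Arr.ext' rfl rfl ?_
  simp [Arr.comp, Arr.inv, castM_rfl]

theorem arr_solve (α ρ : Arr x g W) (hu : α.u₁ = ρ.u₁) (F : Arr g g W) (hF : F = Arr.comp (Arr.inv hY α) ρ hu)
    (p : α.u₂ = F.u₁) : ρ = Arr.comp α F p := by
  subst hF
  rw [← Arr.comp_assoc α (Arr.inv hY α) ρ rfl hu]
  refine (Arr.id_comp' ρ α.u₁ hu).symm.trans ?_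
  congr 1
  exact (Arr.comp_inv hY α).symm

theorem arr_solve' (α : Arr x g W) (F : Arr g g W) (p : α.u₂ = F.u₁) (q : α.u₁ = (Arr.comp α F p).u₁) :
    Arr.comp (Arr.inv hY α) (Arr.comp α F p) q = F := by
  rw [← Arr.comp_assoc (Arr.inv hY α) α F rfl p]
  refine Eq.trans ?_ (Arr.id_comp' F α.u₂ p)
  congr 1
  exact Arr.inv_comp hY α

end Groupoid

theorem α_u₂ {V : Over S} (w : V ⟶ A) (z : V ⟶ Z) (e : w ≫ bA hX a = z ≫ pz) :
    (O.α w z e).u₂ = (val₂ hX (sec₂ hX a) w z z e e).u₁ := (O.α_θ w z z e e).choose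

theorem val_of_eq {W : Over S} {c : W ⟶ A} (y : Sec (pz' pz prB) (π' hX f pz prB prU) W)
    (hcy : (yon S).map c ≫ a = toM hX y) {V : Over S} (w : V ⟶ W) (z₁ z₂ : V ⟶ Z)
    (e₁ : w ≫ y.b ≫ prB = z₁ ≫ pz) (e₂ : w ≫ y.b ≫ prB = z₂ ≫ pz)
    (e₁' : (w ≫ c) ≫ bA hX a = z₁ ≫ pz) (e₂' : (w ≫ c) ≫ bA hX a = z₂ ≫ pz) :
    val₂ hX (sec₂ hX a) (w ≫ c) z₁ z₂ e₁' e₂' = Arr.comp (frame hX y w z₁ e₁)
      (Arr.inv hX.1 (frame hX y w z₂ e₂)) (by rw [Arr.inv_u₁, frame_u₂, frame_u₂]) := by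
  refine Eq.trans ?_ (toM_val hX y w z₁ z₂ e₁ e₂)
  simp only [← hcy, sec₂_map]
  exact (val₂_res hX _ c w z₁ z₂ _ _ _ _).symm

theorem frame_u₁ {W : Over S} {c : W ⟶ A} (y : Sec (pz' pz prB) (π' hX f pz prB prU) W)
    (hcy : (yon S).map c ≫ a = toM hX y) {V : Over S} (w : V ⟶ W) (z : V ⟶ Z)
    (e : w ≫ y.b ≫ prB = z ≫ pz) (e' : (w ≫ c) ≫ bA hX a = z ≫ pz) :
    (frame hX y w z e).u₁ = (O.α (w ≫ c) z e').u₂ := by
  rw [α_u₂ O, val_of_eq y hcy w z z e e e' e', Arr.comp_u₁]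

/-- The base of the framed section of a point. -/
noncomputable def frameB {W : Over S} (φ : Arr O.x f W) : W ⟶ B' := (hB (φ.u₁ ≫ bA hX a) φ.u₂).exists.choose

theorem frameB₁ {W : Over S} (φ : Arr O.x f W) : frameB O hB φ ≫ prB = φ.u₁ ≫ bA hX a :=
  (hB (φ.u₁ ≫ bA hX a) φ.u₂).exists.choose_spec.1

theorem frameB₂ {W : Over S} (φ : Arr O.x f W) : frameB O hB φ ≫ prU = φ.u₂ :=
  (hB (φ.u₁ ≫ bA hX a) φ.u₂).exists.choose_spec.2

theorem exists_toFrame {W : Over S} (φ : Arr O.x f W) :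
    ∃ x : Sec (pz' pz prB) (π' hX f pz prB prU) W, ∃ hb : x.b = frameB O hB φ,
      ∀ {V : Over S} (w : V ⟶ W) (z : V ⟶ Z) (e : w ≫ frameB O hB φ ≫ prB = z ≫ pz),
        frame hX x w z (by rw [hb]; exact e) = frameVal O φ w z (by rw [← frameB₁ O hB φ]; exact e) := by
  refine exists_frame hX (frameB O hB φ) (fun V w z e => frameVal O φ w z (by rw [← frameB₁ O hB φ]; exact e))
    (fun V w z e => ?_) fun V' V g w z e e' => ?_
  · rw [frameVal, Arr.comp_u₂, Arr.res_u₂, frameB₂]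
  · have e₁ : w ≫ φ.u₁ ≫ bA hX a = z ≫ pz := by rw [← frameB₁ O hB φ]; exact e
    have e₂ : (w ≫ φ.u₁) ≫ bA hX a = z ≫ pz := (Category.assoc _ _ _).trans e₁
    rw [frameVal, frameVal, Arr.res_comp]
    congr 1
    · rw [Arr.res_inv, ← O.α_nat g (w ≫ φ.u₁) z e₂
        ((Category.assoc _ _ _).trans ((congrArg (g ≫ ·) e₂).trans (Category.assoc _ _ _).symm))]
      congr 2
    · exact (Arr.res_res hX.1 w g φ).symm

/-- The framed section of a point of the isomorphism space over a chart. -/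
noncomputable def toFrame {W : Over S} (φ : Arr O.x f W) : Sec (pz' pz prB) (π' hX f pz prB prU) W :=
  (exists_toFrame O hB φ).choose

theorem toFrame_b₁ {W : Over S} (φ : Arr O.x f W) : (toFrame O hB φ).b ≫ prB = φ.u₁ ≫ bA hX a := by
  rw [toFrame, (exists_toFrame O hB φ).choose_spec.choose, frameB₁]

theorem toFrame_b₂ {W : Over S} (φ : Arr O.x f W) : (toFrame O hB φ).b ≫ prU = φ.u₂ := by
  rw [toFrame, (exists_toFrame O hB φ).choose_spec.choose, frameB₂]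

theorem frame_toFrame {W V : Over S} (φ : Arr O.x f W) (w : V ⟶ W) (z : V ⟶ Z)
    (e : w ≫ φ.u₁ ≫ bA hX a = z ≫ pz) :
    frame hX (toFrame O hB φ) w z (by rw [toFrame_b₁]; exact e) = frameVal O φ w z e :=
  (exists_toFrame O hB φ).choose_spec.choose_spec w z (by rw [frameB₁]; exact e)

theorem toFrame_res {W W' : Over S} (k : W' ⟶ W) (φ : Arr O.x f W) :
    toFrame O hB (Arr.res hX.1 k φ) = (toFrame O hB φ).res k := by
  have hb : (toFrame O hB (Arr.res hX.1 k φ)).b ≫ prB = ((toFrame O hB φ).res k).b ≫ prB := by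
    rw [toFrame_b₁, Arr.res_u₁]
    show _ = (k ≫ _) ≫ _
    rw [Category.assoc, Category.assoc, toFrame_b₁]
  refine frame_ext hX hB hb ?_ fun {V} w z e => ?_
  · rw [toFrame_b₂, Arr.res_u₂]
    show _ = (k ≫ _) ≫ _
    rw [Category.assoc, toFrame_b₂]
  · have e₁ : w ≫ (Arr.res hX.1 k φ).u₁ ≫ bA hX a = z ≫ pz := by rw [← toFrame_b₁ O hB]; exact e
    have e₂ : (w ≫ k) ≫ φ.u₁ ≫ bA hX a = z ≫ pz := by rw [← e₁, Arr.res_u₁]; simp only [Category.assoc]
    rw [frame_toFrame O hB _ w z e₁, frame_res hX _ k w z _ (by rw [toFrame_b₁]; exact e₂),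
      frame_toFrame O hB φ (w ≫ k) z e₂, frameVal, frameVal]
    congr 1
    · congr 2
      rw [Arr.res_u₁, Category.assoc]
    · exact Arr.res_res hX.1 k w φ

/-- The map from the isomorphism space over a chart to framed sections. -/
noncomputable def chartFrame : isomP hX O.x f ⟶ M' hX f pz prB prU :=
  SheafGlue.homOfPoints (fun _ p => Pushf.pt _ _ (toFrame O hB ((arrPt hX).symm p))) fun V W k p => by
    rw [map_pt, ← toFrame_res]
    congr 2
    apply (arrPt hX).injective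
    rw [← map_arrPt, Equiv.apply_symm_apply, Equiv.apply_symm_apply]

theorem arrPt_chartFrame {W : Over S} (φ : Arr O.x f W) :
    arrPt hX φ ≫ chartFrame O hB = Pushf.pt _ _ (toFrame O hB φ) := by
  rw [chartFrame, SheafGlue.comp_homOfPoints, Equiv.symm_apply_apply]

theorem isPullback_chartFrame [IsFinite pz.left] [Flat pz.left] [LocallyOfFinitePresentation pz.left]
    [Surjective pz.left] :
    IsPullback (isomP₁ hX O.x f) (chartFrame O hB) a (forgetFrame hX f pz prB prU) := by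
  refine isPullback_of_points (SheafGlue.hom_ext_points fun W p => ?_) fun W c y hcy => ?_
  · obtain ⟨φ, rfl⟩ := (arrPt hX).surjective p
    rw [← Category.assoc, arrPt_fst, ← Category.assoc, arrPt_chartFrame, pt_forgetFrame]
    refine pt_ext hX ?_ fun {V} w z₁ z₂ e₁ e₂ => ?_
    · rw [sec₂_map, toM_b, toFrame_b₁]
      rfl
    · have hw : ∀ z : V ⟶ Z, w ≫ (sec₂ hX ((yon S).map φ.u₁ ≫ a)).b = z ≫ pz →
          w ≫ φ.u₁ ≫ bA hX a = z ≫ pz ∧ (w ≫ φ.u₁) ≫ bA hX a = z ≫ pz ∧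
            w ≫ (toFrame O hB φ).b ≫ prB = z ≫ pz := fun z e => by
        rw [sec₂_map] at e
        exact ⟨e, by rw [Category.assoc]; exact e, by rw [toFrame_b₁]; exact e⟩
      refine Eq.trans ?_ (toM_val hX _ w z₁ z₂ (hw z₁ e₁).2.2 (hw z₂ e₂).2.2).symm
      have h1 : val₂ hX (sec₂ hX ((yon S).map φ.u₁ ≫ a)) w z₁ z₂ e₁ e₂ =
          val₂ hX (sec₂ hX a) (w ≫ φ.u₁) z₁ z₂ (hw z₁ e₁).2.1 (hw z₂ e₂).2.1 := by
        simp only [sec₂_map]
        exact val₂_res hX _ φ.u₁ w z₁ z₂ _ _ _ _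
      simp only [h1, frame_toFrame O hB φ w _ (hw z₁ e₁).1, frame_toFrame O hB φ w _ (hw z₂ e₂).1, frameVal]
      obtain ⟨h, hc⟩ := O.α_θ (w ≫ φ.u₁) z₁ z₂ (hw z₁ e₁).2.1 (hw z₂ e₂).2.1
      exact arr_cancel hX.1 _ _ _ _ h hc (by rw [O.α_u₁, Arr.res_u₁]) _
  · obtain ⟨c, rfl⟩ := (yon S).map_surjective c
    obtain ⟨y, rfl⟩ := (Pushf.pt _ _).surjective y
    rw [pt_forgetFrame] at hcy
    have hb : c ≫ bA hX a = y.b ≫ prB := by
      rw [← toM_b hX y, ← hcy, sec₂_map]; rfl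
    let ψ : ∀ {V : Over S} (w : V ⟶ W) (z : V ⟶ Z), w ≫ c ≫ bA hX a = z ≫ pz → Arr O.x f V := fun {V} w z e =>
      Arr.comp (O.α (w ≫ c) z (by rw [Category.assoc]; exact e)) (frame hX y w z (by rw [← hb]; exact e))
        (frame_u₁ O y hcy w z (by rw [← hb]; exact e) (by rw [Category.assoc]; exact e)).symm
    have hψi : ∀ {V : Over S} (w : V ⟶ W) (z₁ z₂ : V ⟶ Z) (e₁ : w ≫ c ≫ bA hX a = z₁ ≫ pz)
        (e₂ : w ≫ c ≫ bA hX a = z₂ ≫ pz), ψ w z₁ e₁ = ψ w z₂ e₂ := fun {V} w z₁ z₂ e₁ e₂ => by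
      obtain ⟨h, hc⟩ := O.α_θ (w ≫ c) z₁ z₂ (by rw [Category.assoc]; exact e₁) (by rw [Category.assoc]; exact e₂)
      show Arr.comp _ _ _ = Arr.comp _ _ _
      have hθ := val_of_eq y hcy w z₁ z₂ (by rw [← hb]; exact e₁) (by rw [← hb]; exact e₂)
        (by rw [Category.assoc]; exact e₁) (by rw [Category.assoc]; exact e₂)
      exact arr_transport hX.1 _ _ _ _ _ h _ hc hθ _ _
    let T := liftSieve pz (c ≫ bA hX a)
    obtain ⟨φ, hφ⟩ := arr_glue hX (y₁ := O.x) (y₂ := f) (T := T) (liftSieve_mem _)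
      (fun V w hw => ψ w hw.choose hw.choose_spec) fun V' V g w hw => by
        have e₀ : w ≫ c ≫ bA hX a = hw.choose ≫ pz := hw.choose_spec
        have e' : (g ≫ w) ≫ c ≫ bA hX a = (g ≫ hw.choose) ≫ pz :=
          (Category.assoc _ _ _).trans ((congrArg (g ≫ ·) e₀).trans (Category.assoc _ _ _).symm)
        have e₂ : (w ≫ c) ≫ bA hX a = hw.choose ≫ pz := (Category.assoc _ _ _).trans e₀
        refine (hψi (g ≫ w) _ (g ≫ hw.choose) (T.downward_closed hw g).choose_spec e').trans ?_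
        show Arr.comp _ _ _ = Arr.res hX.1 g (Arr.comp _ _ _)
        rw [Arr.res_comp]
        congr 1
        · rw [← O.α_nat g (w ≫ c) hw.choose e₂
            ((Category.assoc _ _ _).trans ((congrArg (g ≫ ·) e₂).trans (Category.assoc _ _ _).symm))]
          congr 1
        · exact frame_nat hX y g w hw.choose _ _
    have hu₁ : φ.u₁ = c := (yon S).map_injective (hom_ext_of_covering _ _ (liftSieve_mem (c ≫ bA hX a)) fun V w hw => by
      have e := congrArg Arr.u₁ (hφ w hw)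
      rw [Arr.res_u₁] at e
      rw [← Functor.map_comp, ← Functor.map_comp, e]
      exact congrArg _ (O.α_u₁ _ _ _))
    have hu₂ : φ.u₂ = y.b ≫ prU := (yon S).map_injective (hom_ext_of_covering _ _ (liftSieve_mem (c ≫ bA hX a))
      fun V w hw => by
        have e := congrArg Arr.u₂ (hφ w hw)
        rw [Arr.res_u₂] at e
        rw [← Functor.map_comp, ← Functor.map_comp, e]
        refine congrArg _ ?_
        show (Arr.comp _ _ _).u₂ = _
        rw [Arr.comp_u₂, frame_u₂])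
    have key : ∀ φ' : Arr O.x f W, φ'.u₁ = c → (toFrame O hB φ' = y ↔ φ'.u₂ = y.b ≫ prU ∧
        ∀ ⦃V : Over S⦄ (w : V ⟶ W) (z : V ⟶ Z) (e : w ≫ c ≫ bA hX a = z ≫ pz), Arr.res hX.1 w φ' = ψ w z e) := by
      intro φ' hu
      refine ⟨fun he => ⟨by rw [← he, toFrame_b₂], fun V w z e => ?_⟩, fun ⟨h2, hres⟩ => frame_ext hX hB
        (by rw [toFrame_b₁, hu, hb]) (by rw [toFrame_b₂, h2]) fun {V} w z e => ?_⟩
      · have e₁ : w ≫ φ'.u₁ ≫ bA hX a = z ≫ pz := by rw [hu]; exact e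
        have := frame_toFrame O hB φ' w z e₁
        simp only [he] at this
        show _ = Arr.comp _ _ _
        have hα : O.α (w ≫ φ'.u₁) z (by rw [Category.assoc]; exact e₁) = O.α (w ≫ c) z (by rw [Category.assoc]; exact e) := by
          congr 1; rw [hu]
        refine arr_solve hX.1 _ _ (by rw [O.α_u₁, Arr.res_u₁, hu]) _ (this.trans ?_) _
        simp only [frameVal, hα]
      · have e₁ : w ≫ φ'.u₁ ≫ bA hX a = z ≫ pz := by rw [← toFrame_b₁ O hB φ']; exact e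
        have e₂ : w ≫ c ≫ bA hX a = z ≫ pz := by rw [← hu]; exact e₁
        have hα : O.α (w ≫ φ'.u₁) z (by rw [Category.assoc]; exact e₁) = O.α (w ≫ c) z (by rw [Category.assoc]; exact e₂) := by
          congr 1; rw [hu]
        rw [frame_toFrame O hB φ' w z e₁]
        simp only [frameVal, hα, hres w z e₂]
        exact arr_solve' hX.1 _ _ _ _
    refine ⟨arrPt hX φ, ⟨?_, ?_⟩, ?_⟩
    · rw [arrPt_fst, hu₁]
    · rw [arrPt_chartFrame]
      refine congrArg _ ((key φ hu₁).2 ⟨hu₂, fun V w z e => ?_⟩)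
      rw [hφ w ⟨z, e⟩]
      exact hψi w _ z (show liftSieve pz (c ≫ bA hX a) w from ⟨z, e⟩).choose_spec e
    · rintro p ⟨hp1, hp2⟩
      obtain ⟨φ', rfl⟩ := (arrPt hX).surjective p
      rw [arrPt_fst] at hp1
      rw [arrPt_chartFrame] at hp2
      have h' := (key φ' ((yon S).map_injective hp1)).1 ((Pushf.pt _ _).injective hp2)
      exact congrArg _ (arr_ext_covering hX (T := T) (liftSieve_mem _) fun V w hw => by
        rw [hφ w hw, h'.2 w hw.choose hw.choose_spec])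

theorem repWith_chartFrame [IsFinite pz.left] [Flat pz.left] [LocallyOfFinitePresentation pz.left] [Surjective pz.left]
    (ha : RepWith @Etale a) : RepWith @Etale (chartFrame O hB) :=
  repWith_of_isPullback (isPullback_chartFrame O hB) ha

end Groth.Agent.FCov14.Chart
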