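import Groth.Agent.FCov14.PushfSpace

/-! Spaces of sections of finitely presented maps are finitely presented. -/

set_option autoImplicit false
set_option backward.isDefEq.respectTransparency false
set_option backward.isDefEq.respectTransparency.types false

universe u

open CategoryTheory CategoryTheory.Limits Opposite AlgebraicGeometry AlgSp
open Groth.Agent.AlgSpLib Groth.Agent.AlgStLib Groth.Agent.AlgSpDec

namespace Groth.Agent.FCov14.Pushf

variable {S : Scheme.{u}} {B Z : Over S} (pz : Z ⟶ B) [IsFinite pz.left] [Flat pz.left]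
  [LocallyOfFinitePresentation pz.left] {F : Sp S} (π : F ⟶ (yon S).obj Z)

/-- The map on sections of an etale surjection is surjective on points. -/
theorem surjective_map {At : Over S} {q : At ⟶ Z} {h : (yon S).obj At ⟶ F} (hh : h ≫ π = (yon S).map q)
    [IsSeparated At.hom] (he : RepWith @Etale h) (hs : RepWith @Surjective h) :
    Function.Surjective (Points.map (map (pz := pz) h hh)) := by
  intro y
  obtain ⟨T, g, t, -, rfl⟩ := exists_ofPt_eq y
  have h2 := ((repBySpWith_map pz hh he).2 hs)
  rw [repBySpWith_hom_iff] at h2
  obtain ⟨z, hz⟩ := (h2 g (pullback.fst (map h hh) g) (pullback.snd (map h hh) g) (IsPullback.of_hasPullback _ _)).2.1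
    (Points.ofPt (𝟙 _) t)
  refine ⟨Points.map (pullback.fst _ _) z, ?_⟩
  rw [← Points.map_comp, pullback.condition, Points.map_comp, hz, Points.map_ofPt, Category.id_comp]

/-- The projection of a space of sections of a finitely presented map is finitely presented. -/
theorem locP_proj_space (hF : IsAlgSpace F) (hπ : LocP @LocallyOfFinitePresentation π) :
    LocP @LocallyOfFinitePresentation (proj pz π) := by
  obtain ⟨At, h, q, _, hA, hh, he, hs⟩ := exists_atlas pz π hF
  have hq : LocP @LocallyOfFinitePresentation ((yon S).map q) := by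
    rw [← hh]
    exact locP_comp (IsAlgSpace.yon_obj At) hF (IsAlgSpace.yon_obj Z)
      (locP_mono (fun _ _ e (_ : Etale e) => inferInstanceAs (LocallyOfFinitePresentation e)) (locP_of_repWith he)) hπ
  have : LocallyOfFinitePresentation q.left := locP_yon_map hq
  have hsp := isAlgSpace_sheaf_of_hasAff pz q hA
  have hspF := isAlgSpace_sheaf pz π hF
  obtain ⟨U, c, hc, hcs⟩ := hsp.atlas
  have hce : RepWith @Etale (c ≫ map h hh) := repWith_etale_comp hspF (repBySpWith_map pz hh he).1 hc
  have hcm : RepWith @Surjective (c ≫ map h hh) := repWith_surjective_of_surjective hce.rep fun y => by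
    obtain ⟨x, rfl⟩ := surjective_map pz π hh he hs y
    obtain ⟨z, rfl⟩ := surjective_map_of_repWith hcs x
    exact ⟨z, Points.map_comp _ _ z⟩
  obtain ⟨g, hg⟩ := (yon S).map_surjective (c ≫ proj pz ((yon S).map q))
  refine locP_of_chart hce hcm (repWith_id _ B) (h := g) ?_ ?_
  · rw [Category.assoc, map_proj, Category.comp_id, hg]
  · exact locP_proj_lfp pz q hA c (𝟙 _) g hc (repWith_id _ B) (by rw [Category.comp_id, hg])

end Groth.Agent.FCov14.Pushf
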