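import Groth.Agent.FCov14.Saturation
import Groth.Agent.FCov14.Frame
import Groth.Agent.FCov14.LfpProj
import Groth.Agent.AlgSpLib.SmoothLocalInst
import Groth.Agent.AlgStLib.FppfSite
import Groth.Agent.AlgStLib.SpProps
import Groth.Agent.GerbFlat.Section

/-! A smooth atlas from a finitely presented flat cover, given enough smooth points among framed sections. -/

set_option autoImplicit false
set_option backward.isDefEq.respectTransparency false
set_option backward.isDefEq.respectTransparency.types false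

universe u

open CategoryTheory CategoryTheory.Limits Opposite AlgebraicGeometry AlgSp
open Groth.Agent.AlgSpLib Groth.Agent.AlgStLib Groth.Agent.FCov14.Pushf

namespace Groth.Agent.FCov14.Chart

variable {S : Scheme.{u}} {𝒳 : BasedCategory.{u + 1, u + 2} (Over S)} {U : Over S}
  (hX : Stk.IsPrestack (J S) 𝒳) (f : FibCat.overCat U ⥤ᵇ 𝒳)
  {B Z B' : Over S} (pz : Z ⟶ B) (prB : B' ⟶ B) (prU : B' ⟶ U)

/-- The map from framed sections to the source of the cover. -/
noncomputable abbrev projU : M' hX f pz prB prU ⟶ (yon S).obj U :=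
  proj (pz' pz prB) (π' hX f pz prB prU) ≫ (yon S).map prU

/-- Every point of the source is the image of a smooth point among framed sections. -/
def HasSlices : Prop :=
  ∀ u₀ : U.left, ∃ (E : Over S) (e : (yon S).obj E ⟶ M' hX f pz prB prU) (q : E ⟶ U)
    (_ : LocallyOfFinitePresentation q.left) (η : E.left),
    RepWith @Etale e ∧ e ≫ projU hX f pz prB prU = (yon S).map q ∧ q.left η = u₀ ∧ η ∈ q.left.smoothLocus

/-- The properties of the cover. -/
abbrev CoverP : MorphismProperty (Sp S) :=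
  IsSurjectiveMor ⊓ LocP @Flat ⊓ LocP @LocallyOfFinitePresentation

theorem stableBC_coverP : StableBC (CoverP (S := S)) :=
  stableBC_inf (stableBC_inf stableBC_isSurjectiveMor stableBC_locP) stableBC_locP

variable {f pz prB prU} {A : Over S} {a : (yon S).obj A ⟶ M hX f pz} (O : ObjData hX a) (hB : IsProd prB prU)

theorem chartFrame_projU : chartFrame O hB ≫ projU hX f pz prB prU = isomP₂ hX O.x f := by
  refine SheafGlue.hom_ext_points fun W φ => ?_
  obtain ⟨φ, rfl⟩ := (arrPt hX).surjective φ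
  rw [← Category.assoc, arrPt_chartFrame, arrPt_snd, ← Category.assoc]
  erw [pt_proj]
  rw [← Functor.map_comp, toFrame_b₂]

variable [IsFinite pz.left] [Flat pz.left] [LocallyOfFinitePresentation pz.left] [Surjective pz.left]

include hB in
theorem locP_lfp_isomP₂ [LocallyOfFinitePresentation prU.left]
    (hd : AlgSt.RepByAlgSp1 (FibCat.diag (FibCat.toSelf 𝒳))) (hf : AlgSt.RepByAlgSpWith CoverP f)
    (ha : RepWith @Etale a) :
    LocP @LocallyOfFinitePresentation (isomP₂ hX O.x f) := by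
  have hR : IsAlgSpace (isomP hX f f) := isAlgSpace_isomP hX hd
  have hM := isAlgSpace_M' hX f pz prB prU hd
  have h2 : LocP @LocallyOfFinitePresentation (isomP₂ hX f f) := by
    rw [← isomInv_fst hX]
    exact locP_comp hR hR (IsAlgSpace.yon_obj U) (locP_mono (fun _ _ e (_ : Etale e) => inferInstanceAs
      (LocallyOfFinitePresentation e)) (locP_of_repWith (repWith_of_isIso @Etale (isomInvIso hX f f).hom)))
      (property_isomP₁ hX stableBC_coverP hf).2.2
  obtain ⟨_, _, _⟩ := isFinite_base pz prB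
  have hF : IsAlgSpace (F' hX f pz prB prU) :=
    isAlgSpace_pullback hR (IsAlgSpace.yon_obj _) (IsAlgSpace.yon_obj U) _ _
  have hπ : LocP @LocallyOfFinitePresentation (π' hX f pz prB prU) :=
    Groth.Agent.AlgSpLib.locP_of_isPullback (IsPullback.of_hasPullback _ _) hR (IsAlgSpace.yon_obj U)
      (IsAlgSpace.yon_obj _) h2
  rw [← chartFrame_projU hX O hB]
  refine locP_comp (isAlgSpace_isomP hX hd) hM (IsAlgSpace.yon_obj U)
    (locP_mono (fun _ _ e (_ : Etale e) => inferInstanceAs (LocallyOfFinitePresentation e))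
      (locP_of_repWith (repWith_chartFrame O hB ha))) ?_
  exact locP_comp hM (IsAlgSpace.yon_obj _) (IsAlgSpace.yon_obj U) (locP_proj_space _ _ hF hπ)
    (locP_of_repWith ((repWith_yon_map_iff _ _).2 ‹LocallyOfFinitePresentation prU.left›))

include hB in
/-- An object over an open part of a chart, whose isomorphisms with the cover are smooth and surjective. -/
theorem exists_open_chart [LocallyOfFinitePresentation prU.left]
    (hd : AlgSt.RepByAlgSp1 (FibCat.diag (FibCat.toSelf 𝒳))) (hf : AlgSt.RepByAlgSpWith CoverP f)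
    (ha : RepWith @Etale a) (has : RepWith @Surjective a) (hs : HasSlices hX f pz prB prU) :
    ∃ (V : Over S) (j : V ⟶ A), LocP @Smooth (isomP₂ hX (BasedFunctor.comp (AlgSt.overMap j) O.x) f) ∧
      IsSurjectiveMor (isomP₂ hX (BasedFunctor.comp (AlgSt.overMap j) O.x) f) := by
  have hF : IsAlgSpace (isomP hX O.x f) := isAlgSpace_isomP hX hd
  have hR : IsAlgSpace (isomP hX f f) := isAlgSpace_isomP hX hd
  obtain ⟨W, w, hw, hws⟩ := hF.atlas
  obtain ⟨R₀, r, hr, hrs⟩ := hR.atlas
  obtain ⟨q, hq⟩ := (yon S).map_surjective (w ≫ isomP₂ hX O.x f)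
  obtain ⟨p, hp⟩ := (yon S).map_surjective (w ≫ isomP₁ hX O.x f)
  obtain ⟨r₁, h₁⟩ := (yon S).map_surjective (r ≫ isomP₁ hX f f)
  obtain ⟨r₂, h₂⟩ := (yon S).map_surjective (r ≫ isomP₂ hX f f)
  have hP := (property_isomP₁ hX (y₁ := O.x) stableBC_coverP hf).2
  have hPR := (property_isomP₁ hX (y₁ := f) stableBC_coverP hf).2
  have hEf : (@Etale : MorphismProperty Scheme.{u}) ≤ @Flat := fun _ _ e (_ : Etale e) => inferInstanceAs (Flat e)
  have hEp : (@Etale : MorphismProperty Scheme.{u}) ≤ @LocallyOfFinitePresentation :=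
    fun _ _ e (_ : Etale e) => inferInstanceAs (LocallyOfFinitePresentation e)
  have : LocallyOfFinitePresentation q.left := locP_yon_map (by
    rw [hq]
    exact locP_comp (IsAlgSpace.yon_obj W) hF (IsAlgSpace.yon_obj U) (locP_mono hEp (locP_of_repWith hw))
      (locP_lfp_isomP₂ hX O hB hd hf ha))
  have : LocallyOfFinitePresentation p.left := locP_yon_map (by
    rw [hp]
    exact locP_comp (IsAlgSpace.yon_obj W) hF (IsAlgSpace.yon_obj A) (locP_mono hEp (locP_of_repWith hw)) hP.2)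
  have : Flat p.left := locP_yon_map (by
    rw [hp]
    exact locP_comp (IsAlgSpace.yon_obj W) hF (IsAlgSpace.yon_obj A) (locP_mono hEf (locP_of_repWith hw)) hP.1.2)
  have : Flat r₁.left := locP_yon_map (by
    rw [h₁]
    exact locP_comp (IsAlgSpace.yon_obj R₀) hR (IsAlgSpace.yon_obj U) (locP_mono hEf (locP_of_repWith hr)) hPR.1.2)
  have : Flat r₂.left := locP_yon_map (by
    rw [h₂, ← isomInv_fst hX]
    exact locP_comp (IsAlgSpace.yon_obj R₀) hR (IsAlgSpace.yon_obj U) (locP_mono hEf (locP_of_repWith hr))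
      (locP_comp hR hR (IsAlgSpace.yon_obj U) (locP_mono hEf (locP_of_repWith (repWith_of_isIso @Etale
        (isomInvIso hX f f).hom))) hPR.1.2))
  let O₁ : A.left.Opens := ⟨p.left '' (q.left.smoothLocus : Set W.left), p.left.isOpenMap _ q.left.smoothLocus.2⟩
  have hpre : p.left ⁻¹ᵁ O₁ = q.left.smoothLocus := by
    ext z
    refine ⟨fun ⟨z', hz', e⟩ => ?_, fun hz => ⟨z, hz, rfl⟩⟩
    exact Sat.smoothLocus_saturated hw hr hrs hq hp h₁ h₂ z z' e.symm hz'
  let V : Over S := Over.mk (O₁.ι ≫ A.hom)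
  let j : V ⟶ A := Over.homMk O₁.ι rfl
  let W₁ : Over S := Over.mk ((p.left ⁻¹ᵁ O₁).ι ≫ W.hom)
  let i : W₁ ⟶ W := Over.homMk (p.left ⁻¹ᵁ O₁).ι rfl
  let p₁ : W₁ ⟶ V := Over.homMk (p.left ∣_ O₁) (by
    show (p.left ∣_ O₁) ≫ O₁.ι ≫ A.hom = _
    rw [← Category.assoc, morphismRestrict_ι, Category.assoc, Over.w]
    rfl)
  have sq : IsPullback ((yon S).map i) ((yon S).map p₁) ((yon S).map p) ((yon S).map j) :=
    (IsPullback.of_map (f := i) (g := p₁) (h := p) (i := j) (Over.forget S)
      (Over.OverMorphism.ext (morphismRestrict_ι p.left O₁).symm)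
      (isPullback_morphismRestrict p.left O₁).flip).map (yon S)
  let x₁ := BasedFunctor.comp (AlgSt.overMap j) O.x
  have sqj := isPullback_isomPre hX (y₁ := O.x) (y₂ := f) j
  let l : (yon S).obj W₁ ⟶ isomP hX x₁ f := sqj.lift ((yon S).map i ≫ w) ((yon S).map p₁)
    (by rw [Category.assoc, ← hp, sq.w])
  have hl₁ : l ≫ isomPre hX O.x f j = (yon S).map i ≫ w := sqj.lift_fst _ _ _
  have hl₂ : l ≫ isomP₁ hX x₁ f = (yon S).map p₁ := sqj.lift_snd _ _ _
  have sql : IsPullback ((yon S).map i) l w (isomPre hX O.x f j) := by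
    refine IsPullback.of_bot ?_ hl₁.symm sqj
    rw [← hp, hl₂]
    exact sq
  have hl : l ≫ isomP₂ hX x₁ f = (yon S).map (i ≫ q) := by
    rw [← isomPre_snd hX j, ← Category.assoc, hl₁, Category.assoc, ← hq, Functor.map_comp]
  have hsm : Smooth (i ≫ q).left := by
    show Smooth ((p.left ⁻¹ᵁ O₁).ι ≫ q.left)
    rw [← Scheme.Hom.smoothLocus_eq_top_iff, ← Scheme.Hom.preimage_smoothLocus_eq, ← hpre]
    exact Scheme.Opens.ι_preimage_self _
  refine ⟨V, j, locP_of_chart (repWith_of_isPullback sql hw) (repWith_of_isPullback sql hws)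
    (repWith_id _ U) (by rw [Category.comp_id]; exact hl) hsm, fun y => ?_⟩
  obtain ⟨u₀, rfl⟩ := (Points.schemeHomeo U).surjective y
  obtain ⟨E, e, q', _, η, he, heq, hη, hηs⟩ := hs u₀
  have hwk : RepWith @Etale (w ≫ chartFrame O hB) := repWith_comp hw (repWith_chartFrame O hB ha)
  have hwks : RepWith @Surjective (w ≫ chartFrame O hB) :=
    repWith_comp hws (repWith_of_isPullback (isPullback_chartFrame O hB) has)
  let G := hwk.rep.pullback e
  let g₁ : G ⟶ W := hwk.rep.fst' e
  let g₂ : G ⟶ E := hwk.rep.snd e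
  have : Etale g₂.left := hwk.property_snd e
  have : Surjective g₂.left := hwks.property _ _ _ (hwk.rep.isPullback e)
  have : Etale g₁.left := he.property _ _ _ (hwk.rep.isPullback' e).flip
  have hg : g₁ ≫ q = g₂ ≫ q' := (yon S).map_injective (by
    rw [Functor.map_comp, Functor.map_comp, hq, ← chartFrame_projU hX O hB, ← heq,
      Functor.relativelyRepresentable.map_fst']
    simp only [← Category.assoc]
    rw [← hwk.rep.w e]
    simp only [Category.assoc])
  have : LocallyOfFinitePresentation (g₁ ≫ q).left := inferInstanceAs (LocallyOfFinitePresentation (g₁.left ≫ q.left))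
  obtain ⟨t, rfl⟩ := g₂.left.surjective η
  have ht : g₁.left t ∈ q.left.smoothLocus :=
    (mem_smoothLocus_of_eq (k := (g₁ ≫ q).left) rfl t).1
      ((mem_smoothLocus_of_eq (k := (g₁ ≫ q).left) (congrArg Over.Hom.left hg).symm t).2 hηs)
  let t₁ : W₁.left := ⟨g₁.left t, by rw [hpre]; exact ht⟩
  refine ⟨Points.map l (Points.schemeHomeo W₁ t₁), ?_⟩
  rw [← Points.map_comp, hl, Points.map_yon_map_eq, Function.comp_apply, Function.comp_apply,
    Homeomorph.symm_apply_apply]
  refine congrArg _ (Eq.trans ?_ hη)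
  show q.left ((p.left ⁻¹ᵁ O₁).ι t₁) = q'.left (g₂.left t)
  rw [show (p.left ⁻¹ᵁ O₁).ι t₁ = g₁.left t from rfl, ← Scheme.Hom.comp_apply, ← Scheme.Hom.comp_apply,
    ← Over.comp_left, ← Over.comp_left, hg]

omit [IsFinite pz.left] [Flat pz.left] [LocallyOfFinitePresentation pz.left] [Surjective pz.left] in
/-- Smoothness and surjectivity of an object can be checked on the cover. -/
theorem repByAlgSpWith_of_cover {P : MorphismProperty (Sp S)} (hPb : StableBC P)
    (hPl : IsLocalOnBase (IsFppfCover (S := S)) P)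
    (hd : AlgSt.RepByAlgSp1 (FibCat.diag (FibCat.toSelf 𝒳))) (hf : AlgSt.RepByAlgSpWith CoverP f)
    {V : Over S} (x : FibCat.overCat V ⥤ᵇ 𝒳) (hx : P (isomP₁ hX f x)) :
    AlgSt.RepByAlgSpWith P x := by
  refine repByAlgSpWith_of_isomP hX fun T y => ⟨isAlgSpace_isomP hX hd, ?_⟩
  obtain ⟨hN, hP⟩ := property_isomP₁ hX (y₁ := y) stableBC_coverP hf
  obtain ⟨Q₀, c, hc, hcs⟩ := hN.atlas
  let κ : Arr y f Q₀ := (arrPt hX).symm c
  have hκ : (yon S).map κ.u₁ = c ≫ isomP₁ hX y f := by rw [← arrPt_fst hX, Equiv.apply_symm_apply]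
  have : Flat κ.u₁.left := locP_yon_map (by
    rw [hκ]
    exact locP_comp (IsAlgSpace.yon_obj Q₀) hN (IsAlgSpace.yon_obj T)
      (locP_mono (fun _ _ e (_ : Etale e) => inferInstanceAs (Flat e)) (locP_of_repWith hc)) hP.1.2)
  have : LocallyOfFinitePresentation κ.u₁.left := locP_yon_map (by
    rw [hκ]
    exact locP_comp (IsAlgSpace.yon_obj Q₀) hN (IsAlgSpace.yon_obj T)
      (locP_mono (fun _ _ e (_ : Etale e) => inferInstanceAs (LocallyOfFinitePresentation e)) (locP_of_repWith hc))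
      hP.2)
  have hsur : ∀ t : T.left, ∃ _ : PUnit.{u + 1}, t ∈ Set.range κ.u₁.left := fun t => by
    obtain ⟨n, hn⟩ := hP.1.1 (Points.schemeHomeo T t)
    obtain ⟨m, rfl⟩ := surjective_map_of_repWith hcs n
    obtain ⟨s, rfl⟩ := (Points.schemeHomeo Q₀).surjective m
    refine ⟨⟨⟩, s, (Points.schemeHomeo T).injective ?_⟩
    rw [← hn, ← Points.map_comp, ← hκ, Points.map_yon_map_eq, Function.comp_apply, Function.comp_apply,
    Homeomorph.symm_apply_apply]
  obtain ⟨Q, l₁, l₀, π, sq₁, sq₀⟩ := exists_isPullback_transport hX (y₂ := x) κ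
  have hQ : IsAlgSpace Q := (isAlgSpace_pullback (isAlgSpace_isomP hX hd) (IsAlgSpace.yon_obj _)
    (IsAlgSpace.yon_obj T) _ _).of_iso sq₁.isoPullback.symm
  refine (hPl (fun _ : PUnit.{u + 1} => (yon S).obj Q₀) (fun _ => (yon S).map κ.u₁) (IsAlgSpace.yon_obj T)
    (fun _ => IsAlgSpace.yon_obj _) (isFppfCover_yon_map (fun _ : PUnit.{u + 1} => Q₀) (fun _ => κ.u₁)
      (fun _ => inferInstance) (fun _ => inferInstance) hsur) _ (isAlgSpace_isomP hX hd) (fun _ => Q)
      (fun _ => π) (fun _ => l₁) (fun _ => hQ) fun _ => sq₁).2 fun _ => ?_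
  exact hPb (isAlgSpace_isomP hX hd) (IsAlgSpace.yon_obj U) hQ (IsAlgSpace.yon_obj Q₀) _ _ _ _ sq₀ hx

omit [IsFinite pz.left] [Flat pz.left] [LocallyOfFinitePresentation pz.left] [Surjective pz.left] in
/-- The first projection of isomorphisms from the second projection in the other order. -/
theorem isomP₁_of_snd {P : MorphismProperty (Sp S)} (hPb : StableBC P)
    (hd : AlgSt.RepByAlgSp1 (FibCat.diag (FibCat.toSelf 𝒳)))
    {V : Over S} (x : FibCat.overCat V ⥤ᵇ 𝒳) (hx : P (isomP₂ hX x f)) : P (isomP₁ hX f x) := by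
  rw [← isomInv_snd hX]
  exact hPb.precomp (isAlgSpace_isomP hX hd) (IsAlgSpace.yon_obj U) (isomInvIso hX f x).hom hx

/-- A stack with such a cover has a smooth atlas. -/
theorem hasAtlas_of_slices [LocallyOfFinitePresentation prU.left] (hB : IsProd prB prU)
    (hst : Stk.IsStack (J S) 𝒳) (hd : AlgSt.RepByAlgSp1 (FibCat.diag (FibCat.toSelf 𝒳)))
    (hf : AlgSt.RepByAlgSpWith CoverP f) (hs : HasSlices hX f pz prB prU) :
    AlgSt.HasAtlas (LocP @Smooth) 𝒳 := by
  obtain ⟨A, a, ha, has⟩ := (isAlgSpace_M hX f pz hd).atlas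
  obtain ⟨O⟩ := exists_objData (hX := hX) (a := a) hst
  obtain ⟨V, j, h₁, h₂⟩ := exists_open_chart hX O hB hd hf ha has hs
  exact ⟨V, BasedFunctor.comp (AlgSt.overMap j) O.x,
    repByAlgSpWith_of_cover hX stableBC_locP (isLocalOnBase_fppf_locP @Smooth) hd hf _
      (isomP₁_of_snd hX stableBC_locP hd _ h₁),
    repByAlgSpWith_of_cover hX stableBC_isSurjectiveMor Groth.Agent.GerbFlat.isLocalOnBase_isSurjectiveMor hd hf _
      (isomP₁_of_snd hX stableBC_isSurjectiveMor hd _ h₂)⟩

end Groth.Agent.FCov14.Chart
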