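import Groth.Agent.AlgStLib.SepDiag
import Groth.Agent.AlgStLib.SepUnivClosed
import Groth.Agent.AlgStLib.Pts
import Groth.Agent.AlgStLib.Faithful
import Groth.Agent.AlgSpLib.UHDesc
import Groth.Agent.GerbLib.Twist
import Groth.Prelude.Def_StGerb2

/-! Etale stabilizer preserving functors lift automorphisms. -/

set_option autoImplicit false
set_option linter.style.haveILetI false
set_option backward.isDefEq.respectTransparency false
set_option backward.isDefEq.respectTransparency.types false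

noncomputable section

universe u

open CategoryTheory CategoryTheory.Functor CategoryTheory.Limits AlgebraicGeometry Opposite AlgSp

namespace Groth.Agent.FCov14.AutLift

open Groth.Agent.FibBase Groth.Agent.AlgSpLib Groth.Agent.AlgStLib

variable {S : Scheme.{u}} {𝒰 𝒳 : AlgSt.Cat S}

/-- The diagonal of an etale representable functor is an open immersion. -/
theorem openImm_diag {h : 𝒰 ⥤ᵇ 𝒳} (he : AlgSt.RepByAlgSpWith IsEtaleMor h) :
    AlgSt.RepByAlgSpWith (RepWith @IsOpenImmersion) (FibCat.diag h) := by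
  have hl : AlgSt.RepByAlgSpWith (LocP @Etale) h :=
    repByAlgSpWith_mono_space (fun hF hG a => (isEtaleMor_iff_locP hF hG a).1) he
  refine repByAlgSpWith_diag_of_repByAlgSp1 (stableBC_of (P := RepWith @IsOpenImmersion))
    (repByAlgSp1_of_repByAlgSpWith he) fun {F U} a hF y e hee ha => ?_
  subst ha
  exact UHDesc.repWith_openImmersion_diagonal hF (IsAlgSpace.yon_obj U)
    ((isEtaleMor_iff_locP hF (IsAlgSpace.yon_obj U) _).2
      (RepOver.property_of_stableBC stableBC_locP (hl U y) e hee).2)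

/-- A surjective open immersion into a scheme is an isomorphism. -/
theorem isIso_of_openImm {F : Sp S} {T : Over S} {a : F ⟶ (yon S).obj T} (ha : RepWith @IsOpenImmersion a)
    (hs : Function.Surjective (Points.map a)) : IsIso a := by
  let z : (yon S).obj T ⟶ (yon S).obj T := 𝟙 _
  let W := ha.rep.pullback z
  let k : W ⟶ T := ha.rep.snd z
  have sq := ha.rep.isPullback z
  haveI : IsOpenImmersion k.left := ha.property_snd z
  let i := sq.isoPullback ≪≫ asIso (pullback.fst a z)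
  have hk : i.hom ≫ a = (yon S).map k := by
    show (sq.isoPullback.hom ≫ pullback.fst _ _) ≫ a = _
    rw [IsPullback.isoPullback_hom_fst, sq.w, Category.comp_id]
  haveI : IsIso k.left := by
    refine isIso_of_isOpenImmersion_of_opensRange_eq_top k.left (TopologicalSpace.Opens.ext ?_)
    refine Set.eq_univ_of_forall fun t => ?_
    obtain ⟨x, hx⟩ := hs (Points.schemeHomeo T t)
    obtain ⟨w, rfl⟩ : ∃ w, Points.map i.hom w = x :=
      ⟨Points.map i.inv x, by rw [← Points.map_comp, i.inv_hom_id, Points.map_id]⟩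
    rw [← Points.map_comp, hk, Points.map_yon_map_eq] at hx
    exact ⟨(Points.schemeHomeo W).symm w, (Points.schemeHomeo T).injective hx⟩
  haveI : IsIso ((Over.forget S).map k) := ‹IsIso k.left›
  haveI : IsIso k := isIso_of_reflects_iso k (Over.forget S)
  rw [show a = i.inv ≫ (yon S).map k by rw [← hk, Iso.inv_hom_id_assoc]]
  infer_instance

variable (h : 𝒰 ⥤ᵇ 𝒳)

/-- The object of `𝒰 ×_𝒳 𝒰` of an automorphism. -/
abbrev autPt (v : 𝒰.obj) (g : h.obj v ≅ h.obj v) (hg : 𝒳.p.IsHomLift (𝟙 (𝒰.p.obj v)) g.hom) :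
    (FibCat.fp h h).obj :=
  ⟨⟨v, v, g⟩, hg⟩

/-- At a geometric point a lift gives a point of the fibre of the diagonal. -/
theorem exists_geom (hU : FibCat.IsFibGrpd 𝒰.p) (hX : FibCat.IsFibGrpd 𝒳.p) {Ω : Type u} [Field Ω]
    {str : Spec (CommRingCat.of Ω) ⟶ S}
    (hsurj : ∀ u : 𝒰.p.Fiber (Over.mk str), Function.Surjective (Gerb.autMap h u.1))
    {T : Over S} (tg : Over.mk str ⟶ T) (v₀ : 𝒰.obj) (hv₀ : 𝒰.p.obj v₀ = T) (g : h.obj v₀ ≅ h.obj v₀)
    (hg : 𝒳.p.IsHomLift (𝟙 (𝒰.p.obj v₀)) g.hom) (y : FibCat.overCat T ⥤ᵇ FibCat.fp h h)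
    (e : y.obj (Over.mk (𝟙 T)) ≅ autPt h v₀ g hg) (hel : (FibCat.fp h h).p.IsHomLift (𝟙 T) e.hom) :
    ∃ ob : (FibCat.fp y (FibCat.diag h)).obj, ob.obj.fst = Over.mk tg := by
  subst hv₀
  have hfp : FibCat.IsFibGrpd (FibCat.fp h h).p := fp_isFibGrpd hU hU hX
  let T := 𝒰.p.obj v₀
  let o₀ := autPt h v₀ g hg
  haveI := hg
  obtain ⟨v, φ, hφ⟩ := hU.exists_lift (x := v₀) tg
  have hv : 𝒰.p.obj v = Over.mk str := IsHomLift.domain_eq 𝒰.p tg φ
  have hhφ : 𝒳.p.IsHomLift tg (h.map φ) := h.preserves_isHomLift tg φ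
  have hφg : 𝒳.p.IsHomLift tg (h.map φ ≫ g.hom) := IsHomLift.comp_lift_id_right' 𝒳.p tg (h.map φ) T g.hom
  obtain ⟨gv, hgv, hgvw⟩ := exists_iso_of_lifts (hp := hX) tg (h.map φ) (h.map φ ≫ g.hom)
  let gv₀ : Gerb.AutO (h.obj v) := GerbLib.autOMk hX gv.hom
    (by
      have := isHomLift_id_congr (show Over.mk str = 𝒳.p.obj (h.obj v) from ((h.w_obj v).trans hv).symm) hgv
      exact (map_eq_of_isHomLift_id this).trans (eqToHom_refl _ _))
  obtain ⟨α, hα⟩ := hsurj ⟨v, hv⟩ gv₀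
  have hα' : h.map α.hom.1 = gv.hom := by
    exact congrArg (fun b : Gerb.AutO (h.obj v) => b.hom.1) hα
  have hgv' : 𝒳.p.IsHomLift (𝟙 (𝒰.p.obj v)) gv.hom := isHomLift_id_congr hv.symm hgv
  let p₁ := autPt h v gv hgv'
  let φ' : p₁ ⟶ o₀ := ObjectProperty.homMk ⟨φ, φ, hgvw.symm⟩
  have hφ' : (FibCat.fp h h).p.IsHomLift tg φ' :=
    fp_isHomLift (F := h) (G := h) tg φ' (h := hφ)
  haveI : (FibCat.fp h h).p.IsHomLift (Over.mk tg).hom φ' := hφ'
  obtain ⟨i, hi, -⟩ := exists_point_of_hom hfp y e hel (Over.mk tg) φ'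
  have hα₁ : 𝒰.p.IsHomLift (𝟙 (𝒰.p.obj v)) α.hom.1 := α.hom.2
  haveI := isIso_of_lift (hp := hU) (𝟙 (𝒰.p.obj v)) α.hom.1
  let j : p₁ ≅ (FibCat.diag h).obj v := fpIsoMk (x := p₁) (y := (FibCat.diag h).obj v) (asIso α.hom.1) (Iso.refl v)
    (by
      show h.map α.hom.1 ≫ 𝟙 _ = gv.hom ≫ h.map (𝟙 v)
      rw [hα', h.toFunctor.map_id])
  haveI hi' : (FibCat.fp h h).p.IsHomLift (𝟙 (Over.mk str)) i.hom := hi
  refine ⟨⟨⟨Over.mk tg, v, i ≪≫ j⟩, ?_⟩, rfl⟩
  show (FibCat.fp h h).p.IsHomLift (𝟙 (Over.mk str)) (i.hom ≫ j.hom)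
  have h₁ : (FibCat.fp h h).p.IsHomLift (𝟙 (Over.mk str)) j.hom :=
    fp_isHomLift (F := h) (G := h) (𝟙 _) j.hom (h := isHomLift_id_congr hv hα₁)
  exact IsHomLift.comp_lift_id_right' (FibCat.fp h h).p (𝟙 (Over.mk str)) i.hom (Over.mk str) j.hom

/-- Automorphisms lift when they lift at geometric points. -/
theorem exists_lift (hU : FibCat.IsFibGrpd 𝒰.p) (hX : FibCat.IsFibGrpd 𝒳.p)
    (he : AlgSt.RepByAlgSpWith IsEtaleMor h)
    (hsurj : ∀ (Ω : Type u) [Field Ω] [IsAlgClosed Ω] (t : Spec (CommRingCat.of Ω) ⟶ S)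
      (u : 𝒰.p.Fiber (Over.mk t)), Function.Surjective (Gerb.autMap h u.1))
    (v₀ : 𝒰.obj) (g : h.obj v₀ ⟶ h.obj v₀) (hg : 𝒳.p.IsHomLift (𝟙 (𝒰.p.obj v₀)) g) :
    ∃ α : v₀ ⟶ v₀, 𝒰.p.IsHomLift (𝟙 (𝒰.p.obj v₀)) α ∧ h.map α = g := by
  haveI := isIso_of_lift (hp := hX) (𝟙 (𝒰.p.obj v₀)) g
  let o₀ := autPt h v₀ (asIso g) hg
  have hfp : FibCat.IsFibGrpd (FibCat.fp h h).p := fp_isFibGrpd hU hU hX
  let T := 𝒰.p.obj v₀
  obtain ⟨y, e, hel⟩ := exists_overCat_obj hfp o₀ (rfl : (FibCat.fp h h).p.obj o₀ = T)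
  obtain ⟨F, E, hE, ha⟩ := openImm_diag he T y
  let q := FibCat.fpFst y (FibCat.diag h)
  let a := AlgSt.spMapOfOver (BasedFunctor.comp E q)
  have hpts : Function.Surjective (Points.map a) := fun x => by
    obtain ⟨t, rfl⟩ := (Points.schemeHomeo T).surjective x
    let Ω := AlgebraicClosure (T.left.residueField t)
    let m : Spec (CommRingCat.of Ω) ⟶ T.left :=
      Spec.map (CommRingCat.ofHom (algebraMap (T.left.residueField t) Ω)) ≫ T.left.fromSpecResidueField t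
    let str := m ≫ T.hom
    let tg : Over.mk str ⟶ T := Over.homMk m rfl
    obtain ⟨ob, hob⟩ := exists_geom h hU hX (hsurj Ω str) tg v₀ rfl (asIso g) hg y e hel
    obtain ⟨⟨o₁, v, i₁⟩, hi₁⟩ := ob
    obtain rfl : o₁ = Over.mk tg := hob
    let ob : (FibCat.fp y (FibCat.diag h)).obj := ⟨⟨Over.mk tg, v, i₁⟩, hi₁⟩
    let P : AlgSt.FPt (FibCat.fp y (FibCat.diag h)) := { K := Ω, str := str, obj := ob, lies := rfl }
    obtain ⟨w, hw⟩ := (pts_bijective_of_isEquivOver hE).2 (AlgSt.Points.mk P)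
    refine ⟨spPt w, (Points.schemeHomeo T).symm.injective ?_⟩
    show Points.toScheme T (Points.map a (spPt w)) = Points.toScheme T (Points.schemeHomeo T t)
    rw [← toSch_map, pts_map_comp, hw]
    refine Eq.trans ?_ (Points.toScheme_ofScheme T t).symm
    show (𝟙 (Over.mk str) ≫ tg).left (IsLocalRing.closedPoint Ω) = t
    rw [Category.id_comp]
    show m (IsLocalRing.closedPoint Ω) = t
    refine (Scheme.Hom.comp_apply _ _ _).trans ?_
    exact Scheme.fromSpecResidueField_apply t _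
  haveI : IsIso a := isIso_of_openImm ha hpts
  have hq' : FibCat.IsEquivOver (BasedFunctor.comp E q) :=
    isEquivOver_of_iso (isoSpMapOfOver (BasedFunctor.comp E q)).symm
      (isEquivOver_comp (isEquivOver_ofSpMap a) (isEquivOver_toOverCat T))
  obtain ⟨r, -, -, ⟨j₀⟩⟩ := isEquivOver_inv hq'
  let o := E.obj (r.obj (Over.mk (𝟙 T)))
  let c : (o.obj.fst : Over T) ≅ Over.mk (𝟙 T) := isoApp j₀ (Over.mk (𝟙 T))
  have hc : (FibCat.overCat T).p.IsHomLift (𝟙 T) c.hom := BasedNatTrans.isHomLift j₀.hom rfl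
  let ψ : o₀ ≅ (FibCat.diag h).obj o.obj.snd := e.symm ≪≫ y.toFunctor.mapIso c.symm ≪≫ o.obj.iso
  have hψ : (FibCat.fp h h).p.IsHomLift (𝟙 T) ψ.hom := by
    haveI hel' : (FibCat.fp h h).p.IsHomLift (𝟙 T) e.hom := hel
    have h₁ : (FibCat.fp h h).p.IsHomLift (𝟙 T) e.inv := IsHomLift.lift_id_inv _ T e
    haveI := hc
    haveI hci : (FibCat.overCat T).p.IsHomLift (𝟙 T) c.inv := IsHomLift.lift_id_inv _ T c
    have h₂ : (FibCat.fp h h).p.IsHomLift (𝟙 T) (y.map c.inv) := @BasedFunctor.preserves_isHomLift _ _ _ _ y _ _ _ _ (𝟙 T) c.inv hci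
    have h₃ : (FibCat.fp h h).p.IsHomLift (𝟙 T) o.obj.iso.hom :=
      isHomLift_id_congr (IsHomLift.domain_eq (FibCat.overCat T).p (𝟙 T) c.hom) o.property
    show (FibCat.fp h h).p.IsHomLift (𝟙 T) (e.inv ≫ y.map c.inv ≫ o.obj.iso.hom)
    infer_instance
  have hψ₁ : 𝒰.p.IsHomLift (𝟙 T) ψ.hom.hom.fst := fp_isHomLift_fst (F := h) (G := h) (𝟙 T) ψ.hom (h := hψ)
  have hψ₂ : 𝒰.p.IsHomLift (𝟙 T) ψ.hom.hom.snd := fp_isHomLift_snd' (F := h) (G := h) (𝟙 T) ψ.hom (h := hψ)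
  haveI := isIso_of_lift (hp := hU) (𝟙 T) ψ.hom.hom.snd
  refine ⟨ψ.hom.hom.fst ≫ inv ψ.hom.hom.snd, inferInstance, ?_⟩
  have w : h.map ψ.hom.hom.fst ≫ 𝟙 _ = g ≫ h.map ψ.hom.hom.snd := ψ.hom.hom.w
  rw [Category.comp_id] at w
  rw [h.toFunctor.map_comp, Functor.map_inv, w, Category.assoc, IsIso.hom_inv_id, Category.comp_id]

end Groth.Agent.FCov14.AutLift
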