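import Groth.Agent.FCov14.Retract
import Groth.Agent.QuotLib.AtlasProps
import Groth.Agent.QuotLib.Descend
import Groth.Agent.AlgStLib.SmoothLocally
import Groth.Agent.AlgStLib.SpaceCalc
import Groth.Agent.SrcDescent.SmoothFppf

/-! An algebraic classifying stack comes from a flat group of finite presentation. -/

set_option autoImplicit false
set_option backward.isDefEq.respectTransparency false
set_option backward.isDefEq.respectTransparency.types false

universe u

open CategoryTheory CategoryTheory.Limits MonoidalCategory CartesianMonoidalCategory AlgebraicGeometry AlgSp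
open Groth.Agent.AlgSpLib Groth.Agent.AlgStLib Groth.Agent.FibBase Groth.Agent.QuotLib

namespace Groth.Agent.FCov14.BGFlat

variable {S : Scheme.{u}} {G : Over S} [GrpObj G]

local notation "K₀" => Scheme.fppfPrecoverage

/-- A torsor in an algebraic classifying stack with smooth total space. -/
theorem exists_smooth_torsor (h : AlgSt.HasAtlas (LocP @Smooth) (AlgSt.BG K₀ G)) :
    ∃ A : AlgSt.QuotObj K₀ G (AlgSt.trivAction G), Smooth A.P.hom ∧ Surjective A.P.hom := by
  obtain ⟨U, x, hx, hx'⟩ := h
  refine ⟨torsor x, ?_⟩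
  let y := quotOver K₀ G (AlgSt.trivAction G)
  have hP : (toUnit (torsor x).P).left = (torsor x).P.hom := by simpa using Over.w (toUnit (torsor x).P)
  have key : ∀ {Q : MorphismProperty (Sp S)}, StableComp Q → (∀ {F F' : Sp S} (φ : F ⟶ F') [IsIso φ], Q φ) →
      AlgSt.RepByAlgSpWith Q x → Q ((yon S).map (toUnit (torsor x).P)) := by
    intro Q hQc hiso hQ
    obtain ⟨F, e, he, hF⟩ := hQ _ y
    obtain ⟨g, hg, -, -⟩ := isEquivOver_inv (toFp_isEquivOver x)
    let k : AlgSt.ofSp F.obj ⥤ᵇ AlgSt.ofSp ((yon S).obj (torsor x).P) :=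
      BasedFunctor.comp e (BasedFunctor.comp (fpSwap y x) (BasedFunctor.comp g (AlgSt.ofOverCat _)))
    have : IsIso (spHom k) := isIso_spHom (Φ := k) (isEquivOver_comp he
      (isEquivOver_comp (fpSwap_isEquivOver y x) (isEquivOver_comp hg (isEquivOver_ofOverCat _))))
    have hT : IsTerminal ((yon S).obj (𝟙_ (Over S))) := IsTerminal.isTerminalObj (yon S) _ isTerminalTensorUnit
    rw [show (yon S).map (toUnit (torsor x).P) = inv (spHom k) ≫
      AlgSt.spMapOfOver (BasedFunctor.comp e (FibCat.fpFst y x)) from hT.hom_ext _ _]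
    exact hQc (IsAlgSpace.yon_obj _) F.property (IsAlgSpace.yon_obj _) _ _ (hiso _) hF
  constructor
  · rw [← hP]
    exact locP_left _ (key stableComp_locP (fun φ _ => locP_smooth_of_isIso φ) hx)
  · rw [← hP]
    exact ⟨isSurjective_left_of_map _ (key stableComp_isSurjectiveMor (fun φ _ => isSurjectiveMor_of_isIso φ) hx')⟩

/-- A group scheme is flat and finitely presented if one of its torsors is smooth surjective over the base. -/
theorem flat_lfp_of_torsor (A : AlgSt.QuotObj K₀ G (AlgSt.trivAction G)) [Smooth A.P.hom] [Surjective A.P.hom] :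
    Flat G.hom ∧ LocallyOfFinitePresentation G.hom := by
  obtain ⟨R, hR, hsec⟩ := A.loc
  have hcov : ∀ p : ↥A.base.left, ∃ (T' : Scheme.{u}) (f : T' ⟶ A.base.left), R f ∧ p ∈ Set.range f := fun p => by
    obtain ⟨Y, g, ⟨hg⟩, hp⟩ := hR.1 p
    exact ⟨_, _, hg, hp⟩
  choose T f hf hp using hcov
  choose s hs using fun p => hsec (f p) (hf p)
  have hs' : ∀ p, s p ≫ A.π.left = f p := hs
  let fc : ∐ T ⟶ A.base.left := Sigma.desc f
  have : Flat fc := IsZariskiLocalAtSource.sigmaDesc fun p => (hR.2 (hf p)).1
  have : LocallyOfFinitePresentation fc := IsZariskiLocalAtSource.sigmaDesc fun p => (hR.2 (hf p)).2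
  have : Surjective fc := ⟨fun p => by
    obtain ⟨w, hw⟩ := hp p
    exact ⟨Sigma.ι T p w, by rw [← Scheme.Hom.comp_apply, Sigma.ι_desc]; exact hw⟩⟩
  have hfc : Sigma.desc s ≫ A.π.left = fc := Sigma.hom_ext _ _ fun p => by simp [fc, hs']
  let σ : ∐ T ⟶ pullback A.π.left fc := pullback.lift (Sigma.desc s) (𝟙 _) (hfc.trans (Category.id_comp fc).symm)
  let t : ∐ T ⟶ S := fc ≫ A.base.hom
  have hw : pullback.snd A.π.left fc ≫ t = pullback.fst A.π.left fc ≫ A.P.hom := by
    rw [← Category.assoc, ← pullback.condition, Category.assoc, Over.w A.π]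
  have : Flat (pullback.snd A.π.left fc ≫ t) := by rw [hw]; infer_instance
  have : LocallyOfFinitePresentation (pullback.snd A.π.left fc ≫ t) := by rw [hw]; infer_instance
  have hst : Surjective (pullback.snd A.π.left fc ≫ t) := by rw [hw]; infer_instance
  have : Flat t := flat_of_retract σ (pullback.snd A.π.left fc) t (pullback.lift_snd _ _ _)
  have : LocallyOfFinitePresentation t :=
    locallyOfFinitePresentation_of_retract σ (pullback.snd A.π.left fc) t (pullback.lift_snd _ _ _)
  have : Surjective t := Surjective.of_comp (pullback.snd A.π.left fc) t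
  let b : Over.mk t ⟶ A.P := Over.homMk (Sigma.desc s) (by
    show Sigma.desc s ≫ A.P.hom = fc ≫ A.base.hom
    rw [← Over.w A.π, ← Category.assoc, hfc])
  have sq := ((AlgSt.isPullback_whiskerLeft b).paste_horiz A.cart).map (Over.forget S)
  have hsq : IsPullback ((G ◁ b) ≫ A.act.act).left (snd G (Over.mk t)).left A.π.left fc := by
    rw [← hfc]; exact sq
  have hhom : (G ⊗ Over.mk t).hom = hsq.isoPullback.hom ≫ pullback.snd A.π.left fc ≫ t := by
    rw [IsPullback.isoPullback_hom_snd_assoc]
    exact (Over.w (snd G (Over.mk t))).symm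
  have sq' := ((AlgSt.isPullback_fst_snd G (Over.mk t)).map (Over.forget S)).flip
  have hu : (toUnit (Over.mk t)).left = t := by simpa using Over.w (toUnit (Over.mk t))
  have : Flat (fst G (Over.mk t)).left :=
    MorphismProperty.of_isPullback sq' (show Flat (toUnit (Over.mk t)).left by rw [hu]; infer_instance)
  have : LocallyOfFinitePresentation (fst G (Over.mk t)).left :=
    MorphismProperty.of_isPullback sq'
      (show LocallyOfFinitePresentation (toUnit (Over.mk t)).left by rw [hu]; infer_instance)
  have : Surjective (fst G (Over.mk t)).left :=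
    MorphismProperty.of_isPullback sq' (show Surjective (toUnit (Over.mk t)).left by rw [hu]; infer_instance)
  have : Flat ((fst G (Over.mk t)).left ≫ G.hom) := by rw [Over.w, hhom]; infer_instance
  have : LocallyOfFinitePresentation ((fst G (Over.mk t)).left ≫ G.hom) := by rw [Over.w, hhom]; infer_instance
  exact ⟨Groth.Agent.SrcDescent.flat_of_fppf_comp (fst G (Over.mk t)).left G.hom,
    Groth.Agent.SrcDescent.locallyOfFinitePresentation_of_fppf_comp (fst G (Over.mk t)).left G.hom⟩

end Groth.Agent.FCov14.BGFlat
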