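import Groth.Agent.FCov14.QuotDiag
import Groth.Agent.AlgStLib.SpaceCalc
import Groth.Agent.AlgStLib.DiagCover
import Groth.Agent.S10560

/-! Stacks covered by the base scheme in the flat finitely presented topology are smooth. -/

set_option autoImplicit false
set_option backward.isDefEq.respectTransparency false
set_option backward.isDefEq.respectTransparency.types false

universe u

open CategoryTheory CategoryTheory.Limits Opposite AlgebraicGeometry AlgSp
open Groth.Agent.AlgSpLib Groth.Agent.AlgStLib Groth.Agent.FibBase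

namespace Groth.Agent.FCov14

variable {S : Scheme.{u}} {𝒳 : BasedCategory.{u + 1, u + 2} (Over S)}

theorem eq_toSelf' {𝒜 : BasedCategory.{u + 1, u + 2} (Over S)} (G : 𝒜 ⥤ᵇ FibCat.selfOver (Over S)) :
    G = FibCat.toSelf 𝒜 := by
  obtain ⟨F, w⟩ := G
  simp only [FibCat.toSelf, BasedFunctor.mk.injEq]
  exact (Functor.comp_id F).symm.trans w

theorem toSelf_overCat_isEquivOver :
    FibCat.IsEquivOver (FibCat.toSelf (FibCat.overCat (Over.mk (𝟙 S)) : AlgSt.Cat S)) := by
  let hT : IsTerminal (Over.mk (𝟙 S)) := Over.mkIdTerminal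
  exact isEquivOver_of_exists_iso _ ⟨fun {x y} g => ⟨Over.homMk g (hT.hom_ext _ _), rfl⟩⟩
    ⟨fun h => Over.OverMorphism.ext h⟩ fun w => ⟨Over.mk (hT.from w), Iso.refl _, IsHomLift.id rfl⟩

/-- An algebraic stack with a flat finitely presented cover by the base scheme is smooth over it. -/
theorem locQ_smooth_of_baseCover (h : AlgSt.IsAlgStack Scheme.fppfPrecoverage 𝒳)
    (f : FibCat.overCat (Over.mk (𝟙 S)) ⥤ᵇ 𝒳) (hf : AlgSt.RepByAlgSpWith Chart.CoverP f) :
    AlgSt.LocQ (LocP @Smooth) (FibCat.toSelf 𝒳) := by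
  obtain ⟨U, x, hx, hx'⟩ := h.atlas
  let V : Over S := Over.mk (𝟙 S)
  have hX : Stk.IsPrestack (J S) 𝒳 := isPrestack h.isStack
  have e : BasedFunctor.comp x (FibCat.toSelf 𝒳) =
      BasedFunctor.comp (AlgSt.overMap (Over.mkIdTerminal.from U)) (FibCat.toSelf (FibCat.overCat V : AlgSt.Cat S)) :=
    (eq_toSelf _).trans (eq_toSelf _).symm
  refine ⟨U, V, x, FibCat.toSelf _, Over.mkIdTerminal.from U, eqToIso e, hx, hx',
    repByAlgSpWith_smooth_of_isEquivOver toSelf_overCat_isEquivOver, ?_⟩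
  obtain ⟨hN, hP₁⟩ := property_isomP₁ hX (y₁ := x) Chart.stableBC_coverP hf
  obtain ⟨hN', hs⟩ := property_isomP₁ hX (y₁ := f) stableBC_locP hx
  have hN₁ : IsAlgSpace (isomP hX x f) := hN
  have hsm : LocP @Smooth (isomP₂ hX x f) := by
    rw [← isomInv_fst hX]
    exact (stableComp_locP (R := @Smooth)) hN₁ hN' (IsAlgSpace.yon_obj _) _ _
      (locP_smooth_of_isIso (isomInvIso hX x f).hom) hs
  refine (Groth.Agent.S10560.result (X := ⟨_, hN₁⟩) (Y := ⟨_, IsAlgSpace.yon_obj U⟩)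
    (B := ⟨_, IsAlgSpace.yon_obj V⟩) (ObjectProperty.homMk (isomP₁ hX x f))
    (ObjectProperty.homMk ((yon S).map (Over.mkIdTerminal.from U))) hP₁.1.1 hP₁.1.2 hP₁.2).1 ?_
  show LocP @Smooth (isomP₁ hX x f ≫ (yon S).map (Over.mkIdTerminal.from U))
  rw [show isomP₁ hX x f ≫ (yon S).map (Over.mkIdTerminal.from U) = isomP₂ hX x f from hom_ext_base _ _]
  exact hsm

end Groth.Agent.FCov14

namespace Groth.Agent.FCov14

theorem coverP_of_isIso {S : Scheme.{u}} {F G : Sp S} (φ : F ⟶ G) [IsIso φ] : Chart.CoverP φ :=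
  ⟨⟨isSurjectiveMor_of_isIso φ, locP_mono (fun _ _ f (h : Smooth f) => (inferInstance : Flat f)) (locP_smooth_of_isIso φ)⟩,
    locP_mono (fun _ _ f (h : Smooth f) => (inferInstance : LocallyOfFinitePresentation f)) (locP_smooth_of_isIso φ)⟩

/-- A cover by a representable sheaf gives a cover by a scheme. -/
theorem repByAlgSpWith_coverP_ofOverCat {S : Scheme.{u}} {𝒳 : BasedCategory.{u + 1, u + 2} (Over S)} (V : Over S)
    {g : AlgSt.ofSp ((yon S).obj V) ⥤ᵇ 𝒳} (hg : AlgSt.RepByAlgSpWith Chart.CoverP g) :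
    AlgSt.RepByAlgSpWith Chart.CoverP (BasedFunctor.comp (AlgSt.ofOverCat V) g) :=
  Big.repByAlgSpWith_comp Chart.stableBC_coverP stableComp_coverP isLocalOnBase_coverP
    (Groth.Agent.AlgStLib.isFibGrpd_overCat V) (Stk.isFibGrpd_ofPsh _)
    (repByAlgSpWith_of_isEquivOver (fun φ _ => coverP_of_isIso φ) (isEquivOver_ofOverCat V)) hg

end Groth.Agent.FCov14
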