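import Groth.Agent.FCov14.QuotSch
import Groth.Agent.FCov14.SmoothBase

/-! Classifying stacks of flat affine groups are smooth over the base. -/

set_option autoImplicit false
set_option backward.isDefEq.respectTransparency false
set_option backward.isDefEq.respectTransparency.types false

universe u

open CategoryTheory CategoryTheory.Limits MonoidalCategory AlgebraicGeometry AlgSp
open Groth.Agent.AlgSpLib Groth.Agent.AlgSpGrp Groth.Agent.AlgStLib Groth.Agent.FibBase

namespace Groth.Agent.FCov14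

variable {S : Scheme.{u}}

/-- Properties read on smooth charts over the base pass to an equivalent small category. -/
theorem locQ_toSelf_of_isEquivOver {𝒳 : AlgSt.Cat S} {𝒴 : BasedCategory.{u + 1, u + 2} (Over S)} {k : 𝒳 ⥤ᵇ 𝒴}
    (hk : FibCat.IsEquivOver k) {P : MorphismProperty (Sp S)} (h : AlgSt.LocQ P (FibCat.toSelf 𝒴)) :
    AlgSt.LocQ P (FibCat.toSelf 𝒳) := by
  obtain ⟨U, V, x, y, t, α, hx, hx', hy, hP⟩ := h
  obtain ⟨g, ⟨c₁⟩, ⟨c₂⟩⟩ := hk
  have hg : FibCat.IsEquivOver g := ⟨k, ⟨c₂⟩, ⟨c₁⟩⟩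
  have := full_of_isEquivOver hg
  have := faithful_of_isEquivOver hg
  have key : ∀ {Q : MorphismProperty (Sp S)}, AlgSt.RepByAlgSpWith Q x →
      AlgSt.RepByAlgSpWith Q (BasedFunctor.comp x g) := by
    intro Q hQ W z
    obtain ⟨F, e, he, hP⟩ := hQ W (BasedFunctor.comp z k)
    let m := Het.fpMapH (F := z) (G := BasedFunctor.comp x g) (F' := BasedFunctor.comp z k) (G' := x)
      (a := BasedFunctor.id _) (b := BasedFunctor.id _) (c := g) (whiskerLeftIso z c₁).symm (Iso.refl _)
    exact ⟨F, BasedFunctor.comp e m, isEquivOver_comp' he (Het.fpMapH_isEquivOver _ _ isEquivOver_id isEquivOver_id), hP⟩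
  exact ⟨U, V, BasedFunctor.comp x g, y, t,
    eqToIso ((eq_toSelf _).trans (eq_toSelf _).symm), key hx, key hx', hy, hP⟩

/-- The classifying stack of a flat affine group of finite presentation is smooth over the base. -/
theorem locQ_smooth_BG (G : Over S) [GrpObj G] [Flat G.hom] [LocallyOfFinitePresentation G.hom]
    [IsAffineHom G.hom] :
    AlgSt.LocQ (LocP @Smooth) (FibCat.toSelf (AlgSt.BG Scheme.fppfPrecoverage G)) :=
  have hB : IsAlgSpace (base S) := IsAlgSpace.yon_obj _
  have hG : IsAlgSpace ((yonB S).obj G).left := IsAlgSpace.yon_obj G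
  have hX : IsAlgSpace ((yonB S).obj (𝟙_ (Over S))).left := IsAlgSpace.yon_obj _
  locQ_toSelf_of_isEquivOver Compare.functor_isEquivOver
    (locQ_smooth_of_baseCover
      (isAlgStack_spQuot hB hG Compare.locP_hom hX _ (QuotDiag.repByAlgSp1_diag hB hG hX))
      (BasedFunctor.comp (AlgSt.ofOverCat (Over.mk (𝟙 S)))
        (AlgSt.spQuotMap Scheme.fppfPrecoverage ((yonB S).obj G) (Compare.mapAct (AlgSt.trivAction G))))
      (repByAlgSpWith_coverP_ofOverCat _
        (SpQuot.repByAlgSpWith_spQuotMap hB hG Chart.stableBC_coverP isLocalOnBase_coverP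
          (coverP_group Compare.locP_hom))))

end Groth.Agent.FCov14
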