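import Groth.Prelude.Def_StGerb
import Groth.Agent.AlgStLib.IsomSheaf
import Groth.Agent.AlgStLib.SpBGDiag
import Groth.Agent.AlgStLib.FppfSite

/-! Sheaves of isomorphisms in a banded category are torsors under the band. -/

set_option autoImplicit false
set_option backward.isDefEq.respectTransparency false
set_option backward.isDefEq.respectTransparency.types false

universe u

open CategoryTheory CategoryTheory.Functor CategoryTheory.Limits MonoidalCategory CartesianMonoidalCategory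
open Opposite AlgebraicGeometry AlgSp
open Groth.Agent.AlgSpLib Groth.Agent.AlgStLib Groth.Agent.FibBase

namespace Groth.Agent.FCov14.Banded

variable {S : Scheme.{u}} {𝒳 : BasedCategory.{u + 1, u + 2} (Over S)} {A : Over S} [GrpObj A]
  (β : Gerb.Banding 𝒳 (yonedaGrpObj A))

/-- The automorphism attached to a point of the band. -/
noncomputable def aut {W : Over S} (x : 𝒳.obj) (hx : 𝒳.p.obj x = W) (a : W ⟶ A) : x ⟶ x :=
  (β.iso x (eqToHom hx ≫ a : 𝒳.p.obj x ⟶ A)).hom.1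

theorem aut_lift {W : Over S} (x : 𝒳.obj) (hx : 𝒳.p.obj x = W) (a : W ⟶ A) :
    𝒳.p.IsHomLift (𝟙 W) (aut β x hx a) := by
  subst hx
  exact (β.iso x (eqToHom rfl ≫ a : 𝒳.p.obj x ⟶ A)).hom.2

theorem aut_natural {W' W : Over S} {x' x : 𝒳.obj} (hx' : 𝒳.p.obj x' = W') (hx : 𝒳.p.obj x = W) (φ : x' ⟶ x)
    (g : W' ⟶ W) [𝒳.p.IsHomLift g φ] (a : W ⟶ A) : aut β x' hx' (g ≫ a) ≫ φ = φ ≫ aut β x hx a := by
  refine Eq.trans ?_ (β.natural φ (eqToHom hx ≫ a : 𝒳.p.obj x ⟶ A))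
  refine congrArg (fun c : (yonedaGrpObj A).obj (op (𝒳.p.obj x')) => (β.iso x' c).hom.1 ≫ φ) ?_
  show eqToHom hx' ≫ g ≫ a = 𝒳.p.map φ ≫ eqToHom hx ≫ a
  rw [IsHomLift.fac' 𝒳.p g φ]
  simp

theorem existsUnique_aut {W : Over S} (hg : FibCat.IsFibGrpd 𝒳.p) (x : 𝒳.obj) (hx : 𝒳.p.obj x = W) (m : x ⟶ x)
    (hm : 𝒳.p.IsHomLift (𝟙 W) m) : ∃! a : W ⟶ A, aut β x hx a = m := by
  subst hx
  have := fiber_isGroupoid hg (𝒳.p.obj x)
  let μ : Gerb.fib x ⟶ Gerb.fib x := ⟨m, hm⟩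
  obtain ⟨a, ha⟩ := (β.iso x).surjective (asIso μ : Gerb.AutO x)
  refine ⟨a, ?_, fun b hb => ?_⟩
  · show (β.iso x (eqToHom rfl ≫ a : 𝒳.p.obj x ⟶ A)).hom.1 = m
    rw [eqToHom_refl, Category.id_comp, ha]
    rfl
  · apply (β.iso x).injective
    rw [ha]
    refine Aut.ext (Functor.Fiber.hom_ext ?_)
    show (β.iso x b).hom.1 = m
    rw [← hb]
    show _ = (β.iso x (eqToHom rfl ≫ b : 𝒳.p.obj x ⟶ A)).hom.1
    rw [eqToHom_refl, Category.id_comp]

variable {U : Over S} {y₁ y₂ : FibCat.overCat U ⥤ᵇ 𝒳}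

/-- Translation of a point of the sheaf of isomorphisms. -/
noncomputable def act {W : Over S} (x : IsomSheaf.Pt y₁ y₂ W) (a : W ⟶ A) : IsomSheaf.Pt y₁ y₂ W :=
  ⟨x.t, x.m ≫ aut β (W := W) (y₂.obj (Over.mk x.t)) (y₂.w_obj _) a, by
    have := x.lift
    have := aut_lift β (W := W) (y₂.obj (Over.mk x.t)) (y₂.w_obj _) a
    exact IsHomLift.comp_lift_id_left' 𝒳.p W x.m (𝟙 W) (aut β (W := W) (y₂.obj (Over.mk x.t)) (y₂.w_obj _) a)⟩

theorem act_res {W' W : Over S} {g : W' ⟶ W} {x' : IsomSheaf.Pt y₁ y₂ W'} {x : IsomSheaf.Pt y₁ y₂ W}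
    (h : IsomSheaf.IsRes g x' x) (a : W ⟶ A) : IsomSheaf.IsRes g (act β x' (g ≫ a)) (act β x a) := by
  refine ⟨h.1, fun k hk => ?_⟩
  show (x'.m ≫ aut β _ _ (g ≫ a)) ≫ y₂.map k = y₁.map k ≫ x.m ≫ aut β _ _ a
  have : 𝒳.p.IsHomLift g (y₂.map k) := hk ▸ overMap_isHomLift y₂ k
  refine (Category.assoc _ _ _).trans ((congrArg (x'.m ≫ ·)
    (aut_natural β (y₂.w_obj _) (y₂.w_obj _) (y₂.map k) g a)).trans ?_)
  refine (Category.assoc _ _ _).symm.trans
    ((congrArg (· ≫ aut β (W := W) (y₂.obj (Over.mk x.t)) (y₂.w_obj _) a) (h.2 k hk)).trans ?_)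
  simp

theorem existsUnique_act {W : Over S} (hg : FibCat.IsFibGrpd 𝒳.p) (x z : IsomSheaf.Pt y₁ y₂ W) (hz : z.t = x.t) :
    ∃! a : W ⟶ A, act β x a = z := by
  obtain ⟨t, m, hm⟩ := x
  obtain ⟨t', m', hm'⟩ := z
  obtain rfl : t' = t := hz
  have : IsIso m := isIso_of_lift (hp := hg) (𝟙 W) m
  have : 𝒳.p.IsHomLift (𝟙 W) (inv m) := IsHomLift.lift_id_inv_isIso 𝒳.p W m
  have hl : 𝒳.p.IsHomLift (𝟙 W) (inv m ≫ m') := inferInstance
  obtain ⟨a, ha, hu⟩ := existsUnique_aut β hg _ (y₂.w_obj (Over.mk t')) (inv m ≫ m') hl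
  refine ⟨a, ?_, fun b hb => hu b ?_⟩
  · simp only [act, IsomSheaf.Pt.mk.injEq, heq_eq_eq, true_and]
    rw [ha, IsIso.hom_inv_id_assoc]
  · simp only [act, IsomSheaf.Pt.mk.injEq, heq_eq_eq, true_and] at hb
    rw [← hb, IsIso.inv_hom_id_assoc]

variable (hX : Stk.IsPrestack (J S) 𝒳)

local notation "πI" => IsomSheaf.isomπ y₁ y₂ hX

theorem point_π {W : Over S} (z : (yon S).obj W ⟶ IsomSheaf.isom y₁ y₂ hX) :
    z ≫ πI = (yon S).map ((J S).uliftYonedaEquiv z : IsomSheaf.Pt y₁ y₂ W).t := by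
  apply (J S).uliftYonedaEquiv.injective
  rw [GrothendieckTopology.uliftYonedaEquiv_comp, GrothendieckTopology.uliftYonedaEquiv_uliftYoneda_map]
  rfl

theorem point_res {W' W : Over S} (g : W' ⟶ W) (z : (yon S).obj W ⟶ IsomSheaf.isom y₁ y₂ hX) :
    IsomSheaf.IsRes g ((J S).uliftYonedaEquiv ((yon S).map g ≫ z) : IsomSheaf.Pt y₁ y₂ W')
      ((J S).uliftYonedaEquiv z : IsomSheaf.Pt y₁ y₂ W) := by
  have e : IsomSheaf.res hX.1 g ((J S).uliftYonedaEquiv z : IsomSheaf.Pt y₁ y₂ W) =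
      ((J S).uliftYonedaEquiv ((yon S).map g ≫ z) : IsomSheaf.Pt y₁ y₂ W') := by
    show (IsomSheaf.isom y₁ y₂ hX).obj.map g.op ((J S).uliftYonedaEquiv z) = _
    exact Groth.Agent.AlgSpLib.uliftYonedaEquiv_precomp g z
  rw [← e]
  exact IsomSheaf.isRes_res _ _ _

include β in
/-- Where there is an isomorphism, the sheaf of isomorphisms is the band. -/
theorem exists_trivial {V : Over S} (v : V ⟶ U) (x₀ : (yon S).obj V ⟶ IsomSheaf.isom y₁ y₂ hX)
    (hx₀ : x₀ ≫ πI = (yon S).map v) :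
    ∃ e : (yon S).obj (A ⊗ V) ≅ pullback πI ((yon S).map v),
      e.hom ≫ pullback.snd _ _ = (yon S).map (snd A V) := by
  let x : ∀ W, (W ⟶ V) → IsomSheaf.Pt y₁ y₂ W := fun W g => (J S).uliftYonedaEquiv ((yon S).map g ≫ x₀)
  have hxt : ∀ W g, (x W g).t = g ≫ v := fun W g => (yon S).map_injective (by
    rw [← point_π hX, Category.assoc, hx₀, Functor.map_comp])
  let pre : ∀ W, ((yon S).obj W ⟶ (yon S).obj (A ⊗ V)) → (W ⟶ A ⊗ V) := fun W p => (yon S).preimage p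
  let Φ : ∀ W, ((yon S).obj W ⟶ (yon S).obj (A ⊗ V)) → ((yon S).obj W ⟶ pullback πI ((yon S).map v)) := fun W p =>
    pullback.lift ((J S).uliftYonedaEquiv.symm (act β (x W (pre W p ≫ snd A V)) (pre W p ≫ fst A V)))
      ((yon S).map (pre W p ≫ snd A V)) (by
        rw [point_π, Equiv.apply_symm_apply, ← Functor.map_comp]
        exact congrArg (yon S).map (hxt _ _))
  let cmp := SheafGlue.homOfPoints Φ fun W' W k p => by
    have hk : pre W' ((yon S).map k ≫ p) = k ≫ pre W p := (yon S).map_injective (by simp [pre])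
    refine pullback.hom_ext ?_ (by simp [Φ, hk])
    simp only [Φ, Category.assoc, pullback.lift_fst]
    apply (J S).uliftYonedaEquiv.injective
    rw [Equiv.apply_symm_apply, hk, Category.assoc, Category.assoc]
    have h₁ := point_res hX k ((J S).uliftYonedaEquiv.symm (act β (x W (pre W p ≫ snd A V)) (pre W p ≫ fst A V)))
    rw [Equiv.apply_symm_apply] at h₁
    refine ((IsomSheaf.existsUnique_res hX.1 k _).unique h₁ (act_res β ?_ _)).symm
    have h₂ := point_res hX k ((yon S).map (pre W p ≫ snd A V) ≫ x₀)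
    rw [← Category.assoc, ← Functor.map_comp] at h₂
    exact h₂
  have hcmp : ∀ W p, p ≫ cmp = Φ W p := fun W p => SheafGlue.comp_homOfPoints Φ _ p
  have : IsIso cmp := Groth.Agent.AlgStLib.SpQuot.isIso_of_bijective_points cmp fun W r => by
    obtain ⟨g, hg⟩ := (yon S).map_surjective (r ≫ pullback.snd _ _)
    let z : IsomSheaf.Pt y₁ y₂ W := (J S).uliftYonedaEquiv (r ≫ pullback.fst _ _)
    have hz : z.t = (x W g).t := (yon S).map_injective (by
      rw [← point_π hX, Category.assoc, pullback.condition, ← Category.assoc, ← hg, hxt, Functor.map_comp])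
    obtain ⟨a, ha, hau⟩ := existsUnique_act β hX.1 (x W g) z hz
    refine ⟨(yon S).map (lift a g), ?_, fun p hp => ?_⟩
    · show _ ≫ cmp = r
      have hp : pre W ((yon S).map (lift a g)) = lift a g := (yon S).map_injective (by simp [pre])
      rw [hcmp]
      refine pullback.hom_ext ?_ ?_
      · rw [pullback.lift_fst, hp, lift_fst, lift_snd, ha, Equiv.symm_apply_apply]
      · rw [pullback.lift_snd, hp, lift_snd, hg]
    · change p ≫ cmp = r at hp
      rw [hcmp] at hp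
      have h2 : pre W p ≫ snd A V = g := (yon S).map_injective (by
        rw [hg, ← hp, pullback.lift_snd])
      have h1 : pre W p ≫ fst A V = a := hau _ (by
        show act β (x W g) _ = (J S).uliftYonedaEquiv (r ≫ pullback.fst _ _)
        rw [← hp, pullback.lift_fst, Equiv.apply_symm_apply, h2])
      rw [← h1, ← h2, ← comp_lift, lift_fst_snd, Category.comp_id, Functor.map_preimage]
  exact ⟨asIso cmp, SheafGlue.hom_ext_points fun W p => by
    rw [← Category.assoc, asIso_hom, hcmp, pullback.lift_snd, Functor.map_comp, Functor.map_preimage]⟩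

end Groth.Agent.FCov14.Banded
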