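import Groth.Agent.AlgStLib.OverSpace
import Groth.Agent.FibBase.FpMaps

/-! Composition of representable functors into stacks with big fibres. -/

set_option autoImplicit false
set_option backward.isDefEq.respectTransparency false
set_option backward.isDefEq.respectTransparency.types false

universe v₄ u₄ v₂ u₂ v w u

open CategoryTheory CategoryTheory.Functor CategoryTheory.Limits AlgebraicGeometry AlgSp
open Groth.Agent.FibBase Groth.Agent.AlgSpLib Groth.Agent.AlgStLib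

namespace Groth.Agent.FCov14.Big

section Assoc

variable {C : Type w} [Category.{v} C] {𝒲 𝒳 𝒴 : BasedCategory.{v₂, u₂} C} {𝒵 : BasedCategory.{v₄, u₄} C}
  (H : 𝒲 ⥤ᵇ 𝒵) (f : 𝒳 ⥤ᵇ 𝒴) (g : 𝒴 ⥤ᵇ 𝒵)

/-- `(W ×_Z Y) ×_Y X ⟶ W ×_Z X`. -/
def pasteHor : FibCat.fp (FibCat.fpSnd H g) f ⥤ᵇ FibCat.fp H (BasedFunctor.comp f g) :=
  FibCat.fpLift (BasedFunctor.comp (FibCat.fpFst (FibCat.fpSnd H g) f) (FibCat.fpFst H g))
    (FibCat.fpSnd (FibCat.fpSnd H g) f)
    (whiskerLeftIso (FibCat.fpFst (FibCat.fpSnd H g) f) (FibCat.fpIso H g) ≪≫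
      whiskerRightIso (FibCat.fpIso (FibCat.fpSnd H g) f) g)

theorem pasteHor_isEquivOver : FibCat.IsEquivOver (pasteHor H f g) := by
  refine isEquivOver_of_exists_iso _ ⟨fun {x y} t => ?_⟩ ⟨fun {x y} t t' h => ?_⟩ fun η => ?_
  · let q : x.obj.fst.obj.snd ⟶ y.obj.fst.obj.snd := x.obj.iso.hom ≫ f.map t.hom.snd ≫ y.obj.iso.inv
    have w : H.map t.hom.fst ≫ y.obj.fst.obj.iso.hom ≫ g.map y.obj.iso.hom =
        (x.obj.fst.obj.iso.hom ≫ g.map x.obj.iso.hom) ≫ g.map (f.map t.hom.snd) := t.hom.w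
    have w' : H.map t.hom.fst ≫ y.obj.fst.obj.iso.hom = x.obj.fst.obj.iso.hom ≫ g.map q := by
      rw [← cancel_mono (g.map y.obj.iso.hom), Category.assoc, w]
      simp only [q, Category.assoc, ← g.toFunctor.map_comp, Iso.inv_hom_id, Category.comp_id]
    let s : x.obj.fst ⟶ y.obj.fst := ObjectProperty.homMk ⟨t.hom.fst, q, w'⟩
    refine ⟨ObjectProperty.homMk ⟨s, t.hom.snd, ?_⟩, ObjectProperty.hom_ext _ (CategoricalPullback.hom_ext rfl rfl)⟩
    show q ≫ y.obj.iso.hom = x.obj.iso.hom ≫ f.map t.hom.snd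
    simp [q]
  · have h₁ : t.hom.fst.hom.fst = t'.hom.fst.hom.fst := congrArg (fun s => s.hom.fst) h
    have h₂ : t.hom.snd = t'.hom.snd := congrArg (fun s => s.hom.snd) h
    refine ObjectProperty.hom_ext _ (CategoricalPullback.hom_ext
      (ObjectProperty.hom_ext _ (CategoricalPullback.hom_ext h₁ ?_)) h₂)
    have w₁ : t.hom.fst.hom.snd ≫ y.obj.iso.hom = x.obj.iso.hom ≫ f.map t.hom.snd := t.hom.w
    have w₂ : t'.hom.fst.hom.snd ≫ y.obj.iso.hom = x.obj.iso.hom ≫ f.map t'.hom.snd := t'.hom.w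
    rw [← cancel_mono y.obj.iso.hom, w₁, w₂, h₂]
  · have hη := fp_iso_lift η
    let w : (FibCat.fp H g).obj := ⟨⟨η.obj.fst, f.obj η.obj.snd, η.obj.iso⟩, hη⟩
    let x : (FibCat.fp (FibCat.fpSnd H g) f).obj := ⟨⟨w, η.obj.snd, Iso.refl _⟩,
      IsHomLift.id ((f.w_obj _).trans (snd_proj η))⟩
    refine ⟨x, fpIsoMk (Iso.refl _) (Iso.refl _) ?_, fpIsoMk_lift _ _ _ (h := IsHomLift.id rfl)⟩
    show H.map (𝟙 η.obj.fst) ≫ η.obj.iso.hom = (η.obj.iso.hom ≫ g.map (𝟙 _)) ≫ g.map (f.map (𝟙 η.obj.snd))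
    simp
    exact (Category.comp_id _).symm

end Assoc

variable {S : Scheme.{u}} {𝒳 𝒴 : AlgSt.Cat S} {𝒵 : BasedCategory.{u + 1, u + 2} (Over S)} {P : MorphismProperty (Sp S)}

/-- Composites of functors representable by algebraic spaces. -/
theorem repByAlgSpWith_comp (hPb : StableBC P) (hPc : StableComp P) (hloc : IsLocalOnBase IsFppfCover P)
    (h𝒳 : FibCat.IsFibGrpd 𝒳.p) (h𝒴 : FibCat.IsFibGrpd 𝒴.p) {f : 𝒳 ⥤ᵇ 𝒴} {g : 𝒴 ⥤ᵇ 𝒵}
    (hf : AlgSt.RepByAlgSpWith P f) (hg : AlgSt.RepByAlgSpWith P g) :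
    AlgSt.RepByAlgSpWith P (BasedFunctor.comp f g) := by
  intro U y
  obtain ⟨F, e, he, hPe⟩ := hg U y
  let K : AlgSt.ofSp F.obj ⥤ᵇ 𝒴 := BasedFunctor.comp e (FibCat.fpSnd y g)
  have hq : AlgSt.RepByAlgSpWith P (FibCat.fpFst K f) := repByAlgSpWith_fpFst K hf
  obtain ⟨F', a, e', he', ⟨i⟩⟩ := exists_space_of_overSpace F.property
    (fp_isFibGrpd (Stk.isFibGrpd_ofPsh _) h𝒳 h𝒴) (FibCat.fpFst K f) (repByAlgSp1_of_repByAlgSpWith hq)
  have ha : P a := property_of_repBySpWith hloc F'.property F.property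
    (repBySpWith_of_repByAlgSpWith (FibCat.fpFst K f) e' hPb he' hq i)
  let k := fpMap (F := FibCat.fpSnd y g) (G := f) (F' := K) (G' := f) (a := e) (b := BasedFunctor.id _)
    (c := BasedFunctor.id _) (Iso.refl _) (Iso.refl _)
  have hk : FibCat.IsEquivOver k := fpMap_isEquivOver _ _ he isEquivOver_id
  refine ⟨F', BasedFunctor.comp e' (BasedFunctor.comp k (pasteHor y f g)),
    isEquivOver_comp he' (isEquivOver_comp hk (pasteHor_isEquivOver y f g)), ?_⟩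
  let j : BasedFunctor.comp (BasedFunctor.comp e' (BasedFunctor.comp k (pasteHor y f g)))
      (FibCat.fpFst y (BasedFunctor.comp f g)) ≅
      BasedFunctor.comp (AlgSt.ofSpMap a) (BasedFunctor.comp e (FibCat.fpFst y g)) :=
    whiskerRightIso i (BasedFunctor.comp e (FibCat.fpFst y g))
  rw [spMapOfOver_congr j, spMapOfOver_comp, spHom_ofSpMap]
  exact hPc F'.property F.property (IsAlgSpace.yon_obj U) _ _ ha hPe

end Groth.Agent.FCov14.Big
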