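import Groth.Agent.FCov14.TheoremA
import Groth.Agent.FCov14.BigComp
import Groth.Agent.AlgStLib.SpQuotCover
import Groth.Agent.AlgStLib.Stack
import Groth.Agent.GerbFlat.Section

/-! Flat covers of quotient stacks with sheaf torsors. -/

set_option autoImplicit false
set_option backward.isDefEq.respectTransparency false
set_option backward.isDefEq.respectTransparency.types false

universe u

open CategoryTheory CategoryTheory.Limits MonoidalCategory MonObj Opposite AlgebraicGeometry AlgSp
open Groth.Agent.AlgSpLib Groth.Agent.AlgStLib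

namespace Groth.Agent.FCov14

variable {S : Scheme.{u}}

theorem isLocalOnBase_coverP : IsLocalOnBase IsFppfCover (Chart.CoverP (S := S)) :=
  isLocalOnBase_inf (isLocalOnBase_inf Groth.Agent.GerbFlat.isLocalOnBase_isSurjectiveMor
    (isLocalOnBase_fppf_locP @Flat)) (isLocalOnBase_fppf_locP @LocallyOfFinitePresentation)

theorem stableComp_coverP : StableComp (Chart.CoverP (S := S)) :=
  stableComp_inf (stableComp_inf stableComp_isSurjectiveMor stableComp_locP) stableComp_locP

theorem coverP_of_atlas {U : Over S} {X : Sp S} {a : (yon S).obj U ⟶ X} (ha : RepWith @Etale a)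
    (ha' : RepWith @Surjective a) : Chart.CoverP a :=
  ⟨⟨surjective_map_of_repWith ha',
    locP_mono (fun _ _ f (h : Etale f) => (inferInstance : Flat f)) (locP_of_repWith ha)⟩,
    locP_mono (fun _ _ f (h : Etale f) => (inferInstance : LocallyOfFinitePresentation f)) (locP_of_repWith ha)⟩

/-- A flat group space is a cover of its base. -/
theorem coverP_group {B : Sp S} {G : Over B} [GrpObj G]
    (hf : LocP (@Flat ⊓ @LocallyOfFinitePresentation) G.hom) : Chart.CoverP G.hom :=
  ⟨⟨fun x => ⟨Points.map (MonObj.one (X := G)).left x, by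
      rw [← Points.map_comp]
      have h : (MonObj.one (X := G)).left ≫ G.hom = 𝟙 B := Over.w (MonObj.one (X := G))
      rw [h]
      exact Points.map_id x⟩,
    locP_mono inf_le_left hf⟩, locP_mono inf_le_right hf⟩

/-- A quotient stack has a flat finitely presented cover by a scheme. -/
theorem exists_cover_spQuot {B : Sp S} {G : Over B} [GrpObj G] (hB : IsAlgSpace B) (hG : IsAlgSpace G.left)
    (hf : LocP (@Flat ⊓ @LocallyOfFinitePresentation) G.hom) {X : Over B} (hX : IsAlgSpace X.left)
    (aX : GAction G X) :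
    ∃ (U : Over S) (f : FibCat.overCat U ⥤ᵇ AlgSt.SpQuotSt Scheme.fppfPrecoverage G aX),
      AlgSt.RepByAlgSpWith Chart.CoverP f := by
  obtain ⟨U, a, ha, ha'⟩ := hX.atlas
  have hs : AlgSt.RepByAlgSpWith Chart.CoverP
      (BasedFunctor.comp (AlgSt.ofOverCat U) (AlgSt.ofSpMap a)) :=
    repByAlgSpWith_precomp (isEquivOver_ofOverCat U)
      (repByAlgSpWith_ofSpMap Chart.stableBC_coverP (IsAlgSpace.yon_obj U) hX a (coverP_of_atlas ha ha'))
  exact ⟨U, _, Big.repByAlgSpWith_comp Chart.stableBC_coverP stableComp_coverP isLocalOnBase_coverP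
    (Groth.Agent.AlgStLib.isFibGrpd_overCat U) (Stk.isFibGrpd_ofPsh _) hs
    (SpQuot.repByAlgSpWith_spQuotMap hB hG Chart.stableBC_coverP isLocalOnBase_coverP (coverP_group hf))⟩

/-- Quotient stacks with representable diagonal are algebraic. -/
theorem isAlgStack_spQuot {B : Sp S} {G : Over B} [GrpObj G] (hB : IsAlgSpace B) (hG : IsAlgSpace G.left)
    (hf : LocP (@Flat ⊓ @LocallyOfFinitePresentation) G.hom) {X : Over B} (hX : IsAlgSpace X.left)
    (aX : GAction G X)
    (hd : AlgSt.RepByAlgSp1 (FibCat.diag (FibCat.toSelf (AlgSt.SpQuotSt Scheme.fppfPrecoverage G aX)))) :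
    AlgSt.IsAlgStack Scheme.fppfPrecoverage (AlgSt.SpQuotSt Scheme.fppfPrecoverage G aX) := by
  obtain ⟨U, f, hf⟩ := exists_cover_spQuot hB hG hf hX aX
  exact isAlgStack_of_cover SpQuot.isStack hd f hf

end Groth.Agent.FCov14
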