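import Groth.Agent.FCov14.BandedIsom
import Groth.Agent.FCov14.QuotCover
import Groth.Agent.AlgSpDec.FppfFamily
import Groth.Agent.AlgSpPts.Misc
import Groth.Agent.QuotLib.AtlasProps
import Groth.Agent.AlgStLib.OverSpace

/-! Banded gerbes have representable diagonal. -/

set_option autoImplicit false
set_option backward.isDefEq.respectTransparency false
set_option backward.isDefEq.respectTransparency.types false

universe u

open CategoryTheory CategoryTheory.Functor CategoryTheory.Limits MonoidalCategory CartesianMonoidalCategory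
open Opposite AlgebraicGeometry AlgSp
open Groth.Agent.AlgSpLib Groth.Agent.AlgSpDec Groth.Agent.AlgStLib Groth.Agent.FibBase Groth.Agent.GerbLib

namespace Groth.Agent.FCov14.Banded

variable {S : Scheme.{u}} {𝒳 : BasedCategory.{u + 1, u + 2} (Over S)} {A : Over S} [GrpObj A]
  (β : Gerb.Banding 𝒳 (yonedaGrpObj A)) (hX : Stk.IsPrestack (J S) 𝒳)
  (hh : Gerb.LocSurjHom (J S) (FibCat.toSelf 𝒳))

include hh in
/-- Two objects over one base are isomorphic on an fppf covering. -/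
theorem exists_cover_pts {U : Over S} (y₁ y₂ : FibCat.overCat U ⥤ᵇ 𝒳) :
    ∃ (I : Type u) (V : I → Over S) (v : ∀ i, V i ⟶ U),
      IsFppfCover (fun i => (yon S).obj (V i)) (fun i => (yon S).map (v i)) ∧
      ∀ i, ∃ z : (yon S).obj (V i) ⟶ IsomSheaf.isom y₁ y₂ hX,
        z ≫ IsomSheaf.isomπ y₁ y₂ hX = (yon S).map (v i) := by
  let a := y₁.obj (Over.mk (𝟙 U))
  let b := y₂.obj (Over.mk (𝟙 U))
  have ha : 𝒳.p.obj a = U := y₁.w_obj _
  have hb : 𝒳.p.obj b = U := y₂.w_obj _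
  let m : (FibCat.toSelf 𝒳).obj a ⟶ (FibCat.toSelf 𝒳).obj b := eqToHom (ha.trans hb.symm)
  have hm : (FibCat.selfOver (Over S)).p.IsHomLift (𝟙 (𝒳.p.obj a)) m :=
    IsHomLift.of_fac' _ _ _ rfl (hb.trans ha.symm : (FibCat.selfOver (Over S)).p.obj ((FibCat.toSelf 𝒳).obj b) = 𝒳.p.obj a) (by
      show m = eqToHom _ ≫ 𝟙 _ ≫ eqToHom _
      simp [m])
  obtain ⟨R, hR, hloc⟩ := hh a b m hm
  obtain ⟨I, V, v, hvf, hvp, hvs, hvR⟩ := exists_fppf_of_mem_J hR
  refine ⟨I, V, fun i => v i ≫ eqToHom ha, isFppfCover_yon_map _ _ (fun i => ?_) (fun i => ?_) (fun x => ?_),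
    fun i => ?_⟩
  · have := hvf i
    rw [Over.comp_left]
    infer_instance
  · have := hvp i
    rw [Over.comp_left]
    infer_instance
  · obtain ⟨i, z, hz⟩ := hvs ((eqToHom ha.symm).left x)
    refine ⟨i, z, ?_⟩
    rw [Over.comp_left, Scheme.Hom.comp_apply, hz, ← Scheme.Hom.comp_apply, ← Over.comp_left, eqToHom_trans,
      eqToHom_refl]
    rfl
  · obtain ⟨x₀, φ, ψ, hφ, hψ, hc⟩ := hloc (v i) (hvR i)
    let w : V i ⟶ U := v i ≫ eqToHom ha
    have hx₀ : 𝒳.p.obj x₀ = V i := IsHomLift.domain_eq 𝒳.p (v i) φ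
    have eφ : 𝒳.p.map φ = eqToHom hx₀ ≫ v i := by
      rw [IsHomLift.fac' 𝒳.p (v i) φ]
      simp
    have eψ : 𝒳.p.map ψ = 𝒳.p.map φ ≫ eqToHom (ha.trans hb.symm) := hc.symm
    have hφ' : 𝒳.p.IsHomLift w φ := isHomLift_of_map hx₀ ha (by rw [eφ]; simp [w])
    have hψ' : 𝒳.p.IsHomLift w ψ := isHomLift_of_map hx₀ hb (by rw [eψ, eφ]; simp [w])
    have := isSC (hp := hX.1) w φ
    have := isSC (hp := hX.1) w ψ
    let k : Over.mk w ⟶ Over.mk (𝟙 U) := Over.homMk w
    have h₁ : 𝒳.p.IsHomLift w (y₁.map k) := overMap_isHomLift y₁ k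
    have h₂ : 𝒳.p.IsHomLift w (y₂.map k) := overMap_isHomLift y₂ k
    let χ₁ := IsStronglyCartesian.map 𝒳.p w φ (Category.id_comp w).symm (y₁.map k)
    let χ₂ := IsStronglyCartesian.map 𝒳.p w ψ (Category.id_comp w).symm (y₂.map k)
    have : IsIso χ₂ := isIso_of_lift (hp := hX.1) (𝟙 (V i)) χ₂
    have : 𝒳.p.IsHomLift (𝟙 (V i)) (inv χ₂) := IsHomLift.lift_id_inv_isIso 𝒳.p (V i) χ₂
    let p : IsomSheaf.Pt y₁ y₂ (V i) := ⟨w, χ₁ ≫ inv χ₂, inferInstance⟩
    exact ⟨(J S).uliftYonedaEquiv.symm p, by rw [point_π, Equiv.apply_symm_apply]⟩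

include β hh in
/-- The sheaf of isomorphisms is an algebraic space. -/
theorem isAlgSpace_isom {U : Over S} (y₁ y₂ : FibCat.overCat U ⥤ᵇ 𝒳) :
    IsAlgSpace (IsomSheaf.isom y₁ y₂ hX) := by
  obtain ⟨I, V, v, hcov, hpt⟩ := exists_cover_pts hX hh y₁ y₂
  choose z hz using hpt
  choose e he using fun i => exists_trivial β hX (v i) (z i) (hz i)
  exact isAlgSpace_of_fppf_local (IsAlgSpace.yon_obj U) (fun i => IsAlgSpace.yon_obj (V i)) _ hcov
    (IsomSheaf.isomπ y₁ y₂ hX) fun i => (IsAlgSpace.yon_obj (A ⊗ V i)).of_iso (e i)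

include β hh in
/-- The sheaf of isomorphisms has the fppf local properties of the band. -/
theorem property_isom {U : Over S} (y₁ y₂ : FibCat.overCat U ⥤ᵇ 𝒳) {P : MorphismProperty (Sp S)}
    (hPb : StableBC P) (hloc : IsLocalOnBase IsFppfCover P) (hP : ∀ V : Over S, P ((yon S).map (snd A V))) :
    P (IsomSheaf.isomπ y₁ y₂ hX) := by
  obtain ⟨I, V, v, hcov, hpt⟩ := exists_cover_pts hX hh y₁ y₂
  choose z hz using hpt
  choose e he using fun i => exists_trivial β hX (v i) (z i) (hz i)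
  have hI := isAlgSpace_isom β hX hh y₁ y₂
  have hV : ∀ i, IsAlgSpace ((yon S).obj (V i)) := fun i => IsAlgSpace.yon_obj (V i)
  refine (hloc _ _ (IsAlgSpace.yon_obj U) hV hcov _ hI _ (fun i => pullback.snd _ _) (fun i => pullback.fst _ _)
    (fun i => isAlgSpace_pullback hI (hV i) (IsAlgSpace.yon_obj U) _ _)
    (fun i => IsPullback.of_hasPullback _ _)).2 fun i => ?_
  have h : pullback.snd (IsomSheaf.isomπ y₁ y₂ hX) ((yon S).map (v i)) = (e i).inv ≫ (yon S).map (snd A (V i)) := by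
    rw [← he i, Iso.inv_hom_id_assoc]
  rw [h]
  exact hPb.precomp (IsAlgSpace.yon_obj (A ⊗ V i)) (hV i) (e i).inv (hP (V i))

include β hX hh in
/-- The diagonal of a banded gerbe has the fppf local properties of the band. -/
theorem repByAlgSpWith_diag {P : MorphismProperty (Sp S)}
    (hPb : StableBC P) (hloc : IsLocalOnBase IsFppfCover P) (hP : ∀ V : Over S, P ((yon S).map (snd A V))) :
    AlgSt.RepByAlgSpWith P (FibCat.diag (FibCat.toSelf 𝒳)) := fun U y =>
  ⟨⟨_, isAlgSpace_isom β hX hh (IsomSheaf.fstC y) (IsomSheaf.sndC y)⟩, IsomSheaf.isomFun hX y,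
    IsomSheaf.isomFun_isEquivOver hX y, by
      rw [IsomSheaf.spMapOfOver_isomFun]
      exact property_isom β hX hh (IsomSheaf.fstC y) (IsomSheaf.sndC y) hPb hloc hP⟩

end Groth.Agent.FCov14.Banded
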