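import Groth.Agent.AlgSpDec.Glue
import Groth.Agent.AlgStLib.StackCrit
import Groth.Agent.IsoNatLib.Geom

/-! Objects of a stack over a disjoint union. -/

set_option autoImplicit false
set_option backward.isDefEq.respectTransparency false
set_option backward.isDefEq.respectTransparency.types false

universe v₂ u₂ u

open CategoryTheory CategoryTheory.Functor CategoryTheory.Limits AlgebraicGeometry AlgSp
open Groth.Agent.AlgSpLib Groth.Agent.AlgSpDec Groth.Agent.AlgStLib Groth.Agent.FibBase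

namespace Groth.Agent.FCov14

variable {S : Scheme.{u}} {𝒳 : BasedCategory.{v₂, u₂} (Over S)}

/-- Over the empty scheme two objects are uniquely isomorphic. -/
theorem existsUnique_hom_of_isEmpty (h : Stk.IsStack (J S) 𝒳) {W : Over S} (hW : IsEmpty W.left) (a b : 𝒳.obj)
    (ha : 𝒳.p.obj a = W) (hb : 𝒳.p.obj b = W) : ∃! φ : a ⟶ b, 𝒳.p.IsHomLift (𝟙 W) φ := by
  obtain ⟨Ga, ea, hea⟩ := Groth.Agent.StkLib.exists_ofObj h.1 a ha
  obtain ⟨Gb, eb, heb⟩ := Groth.Agent.StkLib.exists_ofObj h.1 b hb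
  have : (Stk.resSieve (⊥ : Sieve W) 𝒳).IsEquivalence := h.2 ⊥ (Groth.Agent.IsoNatLib.bot_mem_J hW)
  let β : (Stk.resSieve (⊥ : Sieve W) 𝒳).obj Ga ⟶ (Stk.resSieve (⊥ : Sieve W) 𝒳).obj Gb :=
    { toNatTrans := { app := fun t => False.elim t.property, naturality := fun t => False.elim t.property }
      isHomLift' := fun t => False.elim t.property }
  obtain ⟨γ, -⟩ := (Stk.resSieve (⊥ : Sieve W) 𝒳).map_surjective β
  have hea' := IsHomLift.lift_id_inv 𝒳.p W ea
  have heb' := IsHomLift.lift_id_inv 𝒳.p W eb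
  have hγ : 𝒳.p.IsHomLift (𝟙 W) (γ.toNatTrans.app (Over.mk (𝟙 W))) := BasedNatTrans.isHomLift _ rfl
  refine ⟨ea.inv ≫ γ.toNatTrans.app (Over.mk (𝟙 W)) ≫ eb.hom, inferInstance, fun φ hφ => ?_⟩
  let t := ea.hom ≫ φ ≫ eb.inv
  have ht : 𝒳.p.IsHomLift (𝟙 W) t := inferInstanceAs (𝒳.p.IsHomLift (𝟙 W) (ea.hom ≫ φ ≫ eb.inv))
  have : homOfEval (preserves_of_isFibGrpd h.1 Gb) t ht = γ :=
    (Stk.resSieve (⊥ : Sieve W) 𝒳).map_injective
      (BasedNatTrans.homCategory.ext _ _ (by ext x; exact False.elim x.property))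
  rw [← this, homOfEval_app]
  simp [t]

/-- Over the empty scheme lifts are unique and exist. -/
theorem existsUnique_lift_of_isEmpty (h : Stk.IsStack (J S) 𝒳) {W V : Over S} (hW : IsEmpty W.left) (g : W ⟶ V)
    (a b : 𝒳.obj) (ha : 𝒳.p.obj a = W) (hb : 𝒳.p.obj b = V) : ∃! φ : a ⟶ b, 𝒳.p.IsHomLift g φ := by
  obtain ⟨z, χ, hχ⟩ := exists_lift_of_eq h.1 hb g
  obtain ⟨ψ, hψ, hψu⟩ := existsUnique_hom_of_isEmpty h hW a z ha (IsHomLift.domain_eq 𝒳.p g χ)
  refine ⟨ψ ≫ χ, IsHomLift.comp_lift_id_left' 𝒳.p W ψ g χ, fun φ hφ => ?_⟩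
  have := isSC (hp := h.1) g χ
  rw [← hψu (IsStronglyCartesian.map 𝒳.p g χ (Category.id_comp g).symm φ) inferInstance,
    IsStronglyCartesian.fac]

variable {ι : Type u} (V : ι → Over S)

/-- An element of the sieve of the summands with a chosen factorisation. -/
structure Pair (a : Over (sigmaOver V)) where
  i : ι
  l : a.left ⟶ V i
  w : l ≫ sigmaι V i = a.hom

theorem pair_index {a : Over (sigmaOver V)} (z : ↥a.left.left) (p q : Pair V a) : p.i = q.i := by
  have h : (sigmaι V p.i).left (p.l.left z) = (sigmaι V q.i).left (q.l.left z) := by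
    rw [← Scheme.Hom.comp_apply, ← Scheme.Hom.comp_apply, ← Over.comp_left, ← Over.comp_left, p.w, q.w]
  exact congrArg Sigma.fst ((sigmaι_eq_iff _ _ _ _ _).1 h)

theorem mono_sigmaι (i : ι) : Mono (sigmaι V i) :=
  (Over.forget S).mono_of_mono_map (inferInstanceAs (Mono (Sigma.ι (fun i => (V i).left) i)))

/-- The sieve of the summands. -/
def sigmaSieve : Sieve (sigmaOver V) where
  arrows W a := ∃ (i : ι) (l : W ⟶ V i), l ≫ sigmaι V i = a
  downward_closed := by
    rintro _ _ a ⟨i, l, rfl⟩ g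
    exact ⟨i, g ≫ l, Category.assoc _ _ _⟩

theorem sigmaSieve_mem : sigmaSieve V ∈ J S (sigmaOver V) :=
  Groth.Agent.IsoNatLib.mem_J_of_openImm V (sigmaι V) (fun _ => inferInstanceAs (IsOpenImmersion (Sigma.ι _ _)))
    (fun x => by obtain ⟨i, v, hv⟩ := exists_sigmaι V x; exact ⟨i, v, hv⟩) _
    fun i => ⟨i, 𝟙 _, Category.id_comp _⟩

/-- The chosen factorisation. -/
noncomputable def pairOf (a : (Stk.sieveCat (sigmaSieve V)).obj) : Pair V a.obj :=
  Classical.choice (let ⟨i, l, w⟩ := a.property; ⟨⟨i, l, w⟩⟩)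

variable {V} (G : ∀ i, FibCat.overCat (V i) ⥤ᵇ 𝒳)

/-- The object of an element of the sieve. -/
noncomputable def pairObj {a : Over (sigmaOver V)} (p : Pair V a) : 𝒳.obj := (G p.i).obj (Over.mk p.l)

theorem pairObj_base {a : Over (sigmaOver V)} (p : Pair V a) : 𝒳.p.obj (pairObj G p) = a.left := (G p.i).w_obj _

theorem exists_pairMap (h : Stk.IsStack (J S) 𝒳) {a b : Over (sigmaOver V)} (g : a ⟶ b) (p : Pair V a)
    (q : Pair V b) : ∃ φ : pairObj G p ⟶ pairObj G q, 𝒳.p.IsHomLift g.left φ ∧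
      ∀ (hpq : p.i = q.i) (w : g.left ≫ q.l = p.l ≫ eqToHom (congrArg V hpq)),
        φ = eqToHom (by obtain ⟨i, l, hl⟩ := p; obtain ⟨j, l', hl'⟩ := q; obtain rfl : i = j := hpq; rfl :
            pairObj G p = (G q.i).obj (Over.mk (p.l ≫ eqToHom (congrArg V hpq)))) ≫
          (G q.i).map (Over.homMk g.left w : Over.mk (p.l ≫ eqToHom (congrArg V hpq)) ⟶ Over.mk q.l) := by
  obtain ⟨i, l, hl⟩ := p
  obtain ⟨j, l', hl'⟩ := q
  by_cases hij : i = j
  · subst hij
    have w₀ : g.left ≫ l' = l := by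
      have := mono_sigmaι V i
      rw [← cancel_mono (sigmaι V i), Category.assoc, hl', hl, Over.w g]
    let m : Over.mk l ⟶ Over.mk l' := Over.homMk g.left w₀
    exact ⟨(G i).map m, overMap_isHomLift (G i) m, fun _ w => by simp [pairObj]; congr 1⟩
  · have hE : IsEmpty a.left.left := ⟨fun z => hij
      (pair_index V z ⟨i, l, hl⟩ ⟨j, g.left ≫ l', by rw [Category.assoc, hl', Over.w g]⟩)⟩
    obtain ⟨φ, hφ, -⟩ := existsUnique_lift_of_isEmpty h hE g.left (pairObj G (⟨i, l, hl⟩ : Pair V a))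
      (pairObj G (⟨j, l', hl'⟩ : Pair V b)) (pairObj_base G _) (pairObj_base G _)
    exact ⟨φ, hφ, fun hpq => absurd hpq hij⟩

/-- The morphism of an arrow of the sieve. -/
noncomputable def pairMap (h : Stk.IsStack (J S) 𝒳) {a b : Over (sigmaOver V)} (g : a ⟶ b) (p : Pair V a)
    (q : Pair V b) : pairObj G p ⟶ pairObj G q :=
  (exists_pairMap G h g p q).choose

theorem pairMap_lift (h : Stk.IsStack (J S) 𝒳) {a b : Over (sigmaOver V)} (g : a ⟶ b) (p : Pair V a)
    (q : Pair V b) : 𝒳.p.IsHomLift g.left (pairMap G h g p q) :=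
  (exists_pairMap G h g p q).choose_spec.1

theorem pairMap_eq (h : Stk.IsStack (J S) 𝒳) {a b : Over (sigmaOver V)} (g : a ⟶ b) {i : ι} (l : a.left ⟶ V i)
    (hl : l ≫ sigmaι V i = a.hom) (l' : b.left ⟶ V i) (hl' : l' ≫ sigmaι V i = b.hom) :
    ∃ w : g.left ≫ l' = l, pairMap G h g ⟨i, l, hl⟩ ⟨i, l', hl'⟩ =
      (G i).map (Over.homMk g.left w : Over.mk l ⟶ Over.mk l') := by
  have w₀ : g.left ≫ l' = l := by
    have := mono_sigmaι V i
    rw [← cancel_mono (sigmaι V i), Category.assoc, hl', hl, Over.w g]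
  refine ⟨w₀, ((exists_pairMap G h g ⟨i, l, hl⟩ ⟨i, l', hl'⟩).choose_spec.2 rfl
    (by simpa using w₀)).trans ?_⟩
  simp [pairObj]

theorem pairMap_id (h : Stk.IsStack (J S) 𝒳) {a : Over (sigmaOver V)} (p : Pair V a) :
    pairMap G h (𝟙 a) p p = 𝟙 _ := by
  obtain ⟨i, l, hl⟩ := p
  obtain ⟨w, e⟩ := pairMap_eq G h (𝟙 a) l hl l hl
  rw [e]
  exact (congrArg (G i).map (Over.OverMorphism.ext rfl)).trans ((G i).toFunctor.map_id _)

theorem pairMap_comp (h : Stk.IsStack (J S) 𝒳) {a b c : Over (sigmaOver V)} (g : a ⟶ b) (g' : b ⟶ c)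
    (p : Pair V a) (q : Pair V b) (r : Pair V c) :
    pairMap G h (g ≫ g') p r = pairMap G h g p q ≫ pairMap G h g' q r := by
  rcases isEmpty_or_nonempty a.left.left with hE | ⟨⟨z⟩⟩
  · have := pairMap_lift G h g p q
    have := pairMap_lift G h g' q r
    refine (existsUnique_lift_of_isEmpty h hE (g ≫ g').left _ _ (pairObj_base G p) (pairObj_base G r)).unique
      (pairMap_lift G h _ p r) ?_
    rw [Over.comp_left]
    infer_instance
  · obtain ⟨i, l, hl⟩ := p
    obtain ⟨j, l', hl'⟩ := q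
    obtain ⟨k, l'', hl''⟩ := r
    obtain rfl : i = j :=
      pair_index V z ⟨i, l, hl⟩ ⟨j, g.left ≫ l', by rw [Category.assoc, hl', Over.w g]⟩
    obtain rfl : i = k :=
      pair_index V z ⟨i, l, hl⟩ ⟨k, (g ≫ g').left ≫ l'', by rw [Category.assoc, hl'', Over.w (g ≫ g')]⟩
    obtain ⟨w₁, e₁⟩ := pairMap_eq G h g l hl l' hl'
    obtain ⟨w₂, e₂⟩ := pairMap_eq G h g' l' hl' l'' hl''
    obtain ⟨w₃, e₃⟩ := pairMap_eq G h (g ≫ g') l hl l'' hl''
    rw [e₁, e₂, e₃, ← (G i).toFunctor.map_comp]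
    exact congrArg (G i).map (Over.OverMorphism.ext rfl)

/-- The functor on the sieve. -/
noncomputable def sigmaFun (h : Stk.IsStack (J S) 𝒳) : Stk.sieveCat (sigmaSieve V) ⥤ᵇ 𝒳 where
  toFunctor :=
    { obj := fun a => pairObj G (pairOf V a)
      map := fun {a b} g => pairMap G h g.hom (pairOf V a) (pairOf V b)
      map_id := fun a => pairMap_id G h _
      map_comp := fun g g' => pairMap_comp G h _ _ _ _ _ }
  w := CategoryTheory.Functor.ext (fun a => pairObj_base G _) fun a b g => by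
    have := pairMap_lift G h g.hom (pairOf V a) (pairOf V b)
    exact IsHomLift.fac' 𝒳.p g.hom.left (pairMap G h g.hom (pairOf V a) (pairOf V b))

/-- A stack has an object over a disjoint union as soon as it has one over every summand. -/
theorem exists_obj_sigma (h : Stk.IsStack (J S) 𝒳) (x : ι → 𝒳.obj) (hx : ∀ i, 𝒳.p.obj (x i) = V i) :
    Nonempty (FibCat.overCat (sigmaOver V) ⥤ᵇ 𝒳) := by
  choose G _ _ using fun i => Groth.Agent.StkLib.exists_ofObj h.1 (x i) (hx i)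
  have : (Stk.resSieve (sigmaSieve V) 𝒳).IsEquivalence := h.2 _ (sigmaSieve_mem V)
  exact ⟨(Stk.resSieve (sigmaSieve V) 𝒳).objPreimage (sigmaFun G h)⟩

end Groth.Agent.FCov14
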