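import Groth.Agent.FCov14.Piece

/-! A stack with representable diagonal and a flat finitely presented cover is algebraic. -/

set_option autoImplicit false
set_option backward.isDefEq.respectTransparency false
set_option backward.isDefEq.respectTransparency.types false

universe u

open CategoryTheory CategoryTheory.Limits Opposite AlgebraicGeometry AlgSp
open Groth.Agent.AlgSpLib Groth.Agent.AlgStLib

namespace Groth.Agent.FCov14

variable {S : Scheme.{u}} {𝒳 : BasedCategory.{u + 1, u + 2} (Over S)} {U : Over S}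

/-- Stacks are prestacks. -/
theorem isPrestack (hst : Stk.IsStack (J S) 𝒳) : Stk.IsPrestack (J S) 𝒳 :=
  ⟨hst.1, fun _ R hR => by
    have : (Stk.resSieve R 𝒳).IsEquivalence := hst.2 R hR
    exact ⟨inferInstance, inferInstance⟩⟩

/-- A stack with representable diagonal and a flat finitely presented cover has a smooth atlas. -/
theorem hasAtlas_smooth_of_cover (hst : Stk.IsStack (J S) 𝒳)
    (hd : AlgSt.RepByAlgSp1 (FibCat.diag (FibCat.toSelf 𝒳))) (f : FibCat.overCat U ⥤ᵇ 𝒳)
    (hf : AlgSt.RepByAlgSpWith Chart.CoverP f) : AlgSt.HasAtlas (LocP @Smooth) 𝒳 :=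
  Chart.hasAtlas_of_slices (hX := isPrestack hst) (hB := Param.isProd U) (hst := hst) (hd := hd) (hf := hf)
    (hs := Chart.hasSlices (isPrestack hst) f hd hf)

/-- A stack with representable diagonal and a flat finitely presented cover is algebraic. -/
theorem isAlgStack_of_cover (hst : Stk.IsStack (J S) 𝒳)
    (hd : AlgSt.RepByAlgSp1 (FibCat.diag (FibCat.toSelf 𝒳))) (f : FibCat.overCat U ⥤ᵇ 𝒳)
    (hf : AlgSt.RepByAlgSpWith Chart.CoverP f) : AlgSt.IsAlgStack Scheme.fppfPrecoverage 𝒳 :=
  ⟨hst, hd, hasAtlas_smooth_of_cover hst hd f hf⟩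

end Groth.Agent.FCov14
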