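import Groth.Agent.FCov14.BigEquiv
import Groth.Agent.FCov14.TheoremA

/-! Small categories as big ones. -/

set_option autoImplicit false
set_option backward.isDefEq.respectTransparency false
set_option backward.isDefEq.respectTransparency.types false

universe u

open CategoryTheory CategoryTheory.Limits AlgebraicGeometry AlgSp
open Groth.Agent.AlgSpLib Groth.Agent.AlgStLib Groth.Agent.FibBase

namespace Groth.Agent.FCov14

attribute [local instance] uliftCategory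

variable {S : Scheme.{u}}

/-- A small category over the base as a big one. -/
abbrev upCat (𝒳 : AlgSt.Cat S) : BasedCategory.{u + 1, u + 2} (Over S) where
  obj := ULiftHom.{u + 1} (ULift.{u + 2} 𝒳.obj)
  p := ULiftHom.down ⋙ ULift.downFunctor ⋙ 𝒳.p

/-- The lift to the big category. -/
def upFun (𝒳 : AlgSt.Cat S) : 𝒳 ⥤ᵇ upCat 𝒳 where
  toFunctor := ULift.upFunctor ⋙ ULiftHom.up
  w := rfl

/-- The projection from the big category. -/
def downFun (𝒳 : AlgSt.Cat S) : upCat 𝒳 ⥤ᵇ 𝒳 where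
  toFunctor := (ULiftHom.down : ULiftHom.{u + 1} (ULift.{u + 2} 𝒳.obj) ⥤ _) ⋙ ULift.downFunctor
  w := rfl

theorem upFun_isEquivOver (𝒳 : AlgSt.Cat S) : FibCat.IsEquivOver (upFun 𝒳) :=
  ⟨downFun 𝒳, ⟨eqToIso rfl⟩, ⟨eqToIso rfl⟩⟩

theorem downFun_isEquivOver (𝒳 : AlgSt.Cat S) : FibCat.IsEquivOver (downFun 𝒳) :=
  ⟨upFun 𝒳, ⟨eqToIso rfl⟩, ⟨eqToIso rfl⟩⟩

variable {𝒳 : AlgSt.Cat S}

theorem isStack_up (h : Stk.IsStack (J S) 𝒳) : Stk.IsStack (J S) (upCat 𝒳) :=
  (Groth.Agent.StkLib.isStack_iff_of_isEquivOver _ (upFun_isEquivOver 𝒳)).1 h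

theorem repByAlgSp1_diag_up (h : AlgSt.RepByAlgSp1 (FibCat.diag (FibCat.toSelf 𝒳))) :
    AlgSt.RepByAlgSp1 (FibCat.diag (FibCat.toSelf (upCat 𝒳))) :=
  Het.repByAlgSp1_diag (downFun_isEquivOver 𝒳) h

/-- A small stack with representable diagonal and a flat finitely presented cover is algebraic. -/
theorem isAlgStack_of_cover_small (hst : Stk.IsStack (J S) 𝒳)
    (hd : AlgSt.RepByAlgSp1 (FibCat.diag (FibCat.toSelf 𝒳))) {U : Over S} (f : FibCat.overCat U ⥤ᵇ 𝒳)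
    (hf : AlgSt.RepByAlgSpWith Chart.CoverP f) : AlgSt.IsAlgStack Scheme.fppfPrecoverage 𝒳 :=
  Het.isAlgStack (upFun_isEquivOver 𝒳)
    (isAlgStack_of_cover (isStack_up hst) (repByAlgSp1_diag_up hd) (BasedFunctor.comp f (upFun 𝒳))
      (Het.repByAlgSpWith_postcomp (upFun_isEquivOver 𝒳) hf))

end Groth.Agent.FCov14
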