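import Groth.Agent.FCov14.BandedLocal
import Groth.Agent.FCov14.Coprod
import Groth.Agent.FCov14.Small
import Groth.Agent.FCov14.SmoothBase
import Groth.Agent.FCov14.BGSmooth
import Groth.Agent.AlgStLib.LftPrecomp

/-! Banded gerbes over a scheme are algebraic stacks, locally of finite presentation. -/

set_option autoImplicit false
set_option backward.isDefEq.respectTransparency false
set_option backward.isDefEq.respectTransparency.types false

universe u

open CategoryTheory CategoryTheory.Functor CategoryTheory.Limits MonoidalCategory CartesianMonoidalCategory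
open Opposite AlgebraicGeometry AlgSp
open Groth.Agent.AlgSpLib Groth.Agent.AlgSpDec Groth.Agent.AlgStLib Groth.Agent.FibBase

namespace Groth.Agent.FCov14

variable {S : Scheme.{u}}

theorem isSurjectiveMor_yon_map {U V : Over S} (f : U ⟶ V) [Surjective f.left] :
    IsSurjectiveMor ((yon S).map f) := fun x => by
  obtain ⟨t, rfl⟩ := (Points.schemeHomeo V).surjective x
  obtain ⟨s, hs⟩ := f.left.surjective t
  refine ⟨Points.schemeHomeo U s, ?_⟩
  rw [Points.map_yon_map_eq]
  simp [hs]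

theorem coverP_yon_map {U V : Over S} (f : U ⟶ V) [Surjective f.left] [Flat f.left]
    [LocallyOfFinitePresentation f.left] : Chart.CoverP ((yon S).map f) :=
  ⟨⟨isSurjectiveMor_yon_map f, locP_of_repWith ((repWith_yon_map_iff _ _).2 ‹Flat f.left›)⟩,
    locP_of_repWith ((repWith_yon_map_iff _ _).2 ‹LocallyOfFinitePresentation f.left›)⟩

theorem isPullback_prod (W U : Over S) :
    IsPullback (prod.fst : W ⨯ U ⟶ W).left (prod.snd : W ⨯ U ⟶ U).left W.hom U.hom := by
  have h := (IsPullback.of_is_product' (prodIsProd W U) Over.mkIdTerminal).map (Over.forget S)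
  have e : ∀ X : Over S, (Over.mkIdTerminal.from X).left = X.hom := fun X => by
    simpa using Over.w (Over.mkIdTerminal.from X)
  simpa [e] using h

/-- Being locally of finite presentation descends along flat finitely presented covers of the source. -/
theorem locP_lfp_of_coverP {X Y Z : Sp S} (hX : IsAlgSpace X) (hY : IsAlgSpace Y) (hZ : IsAlgSpace Z)
    (s : X ⟶ Y) (g : Y ⟶ Z) (hs : Chart.CoverP s) (h : LocP @LocallyOfFinitePresentation (s ≫ g)) :
    LocP @LocallyOfFinitePresentation g :=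
  have : MorphismProperty.IsLocalAtSource (@LocallyOfFinitePresentation : MorphismProperty Scheme.{u})
      Scheme.fppfPrecoverage :=
    SrcDescent.isLocalAtSource_of_surjective (W := @Flat ⊓ @LocallyOfFinitePresentation)
      (fun f g hf hg => have := hf.2; have := hg; MorphismProperty.comp_mem @LocallyOfFinitePresentation f g hf.2 hg)
      fun f g hf hs h => have := hf.1; have := hf.2; have := hs; have := h
        SrcDescent.locallyOfFinitePresentation_of_fppf_comp f g
  (isLocalOnSource_fppf (@LocallyOfFinitePresentation) (fun _ : PUnit.{u+1} => X) (fun _ => s) hY (fun _ => hX)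
    ⟨fun _ => ⟨hs.1.2, hs.2⟩, fun y => ⟨⟨⟩, hs.1.1 y⟩⟩ g hZ).2 fun _ => h

variable {𝒳 : BasedCategory.{u + 1, u + 2} (Over S)}

/-- An algebraic stack with a flat finitely presented cover by a scheme locally of finite presentation over the base
is locally of finite presentation over the base. -/
theorem locQ_lfp_of_cover (h : AlgSt.IsAlgStack Scheme.fppfPrecoverage 𝒳) {U₀ : Over S}
    [LocallyOfFinitePresentation U₀.hom] (f : FibCat.overCat U₀ ⥤ᵇ 𝒳) (hf : AlgSt.RepByAlgSpWith Chart.CoverP f) :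
    AlgSt.LocQ (LocP @LocallyOfFinitePresentation) (FibCat.toSelf 𝒳) := by
  obtain ⟨U, x, hx, hx'⟩ := h.atlas
  let V : Over S := Over.mk (𝟙 S)
  have hX : Stk.IsPrestack (J S) 𝒳 := isPrestack h.isStack
  have e : BasedFunctor.comp x (FibCat.toSelf 𝒳) =
      BasedFunctor.comp (AlgSt.overMap (Over.mkIdTerminal.from U)) (FibCat.toSelf (FibCat.overCat V : AlgSt.Cat S)) :=
    (eq_toSelf _).trans (eq_toSelf _).symm
  refine ⟨U, V, x, FibCat.toSelf _, Over.mkIdTerminal.from U, eqToIso e, hx, hx',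
    repByAlgSpWith_smooth_of_isEquivOver toSelf_overCat_isEquivOver, ?_⟩
  obtain ⟨hN, hP₁⟩ := property_isomP₁ hX (y₁ := x) Chart.stableBC_coverP hf
  obtain ⟨hN', hs⟩ := property_isomP₁ hX (y₁ := f) stableBC_locP hx
  have hsm : LocP @Smooth (isomP₂ hX x f) := by
    rw [← isomInv_fst hX]
    exact (stableComp_locP (R := @Smooth)) hN hN' (IsAlgSpace.yon_obj _) _ _
      (locP_smooth_of_isIso (isomInvIso hX x f).hom) hs
  refine locP_lfp_of_coverP hN (IsAlgSpace.yon_obj U) (IsAlgSpace.yon_obj V) _ _ hP₁ ?_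
  rw [show isomP₁ hX x f ≫ (yon S).map (Over.mkIdTerminal.from U) =
    isomP₂ hX x f ≫ (yon S).map (Over.mkIdTerminal.from U₀ : U₀ ⟶ V) from hom_ext_base _ _]
  refine stableComp_locP (R := @LocallyOfFinitePresentation) hN (IsAlgSpace.yon_obj U₀) (IsAlgSpace.yon_obj V) _ _
    (locP_mono (fun _ _ g (_ : Smooth g) => (inferInstance : LocallyOfFinitePresentation g)) hsm)
    (locP_of_repWith ((repWith_yon_map_iff _ _).2 ?_))
  have e' : (Over.mkIdTerminal.from U₀ : U₀ ⟶ V).left = U₀.hom := by simpa using Over.w (Over.mkIdTerminal.from U₀)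
  exact e' ▸ ‹LocallyOfFinitePresentation U₀.hom›

namespace Banded

/-- The objects of a gerbe give one object over a cover of the base. -/
theorem exists_cover_obj (hst : Stk.IsStack (J S) 𝒳) (ho : Gerb.LocSurjObj (J S) (FibCat.toSelf 𝒳)) :
    ∃ (U : Over S) (_ : Surjective U.hom) (_ : Flat U.hom) (_ : LocallyOfFinitePresentation U.hom),
      Nonempty (FibCat.overCat U ⥤ᵇ 𝒳) := by
  obtain ⟨R, hR, hloc⟩ := ho (Over.mk (𝟙 S) : (FibCat.selfOver (Over S)).obj)
  obtain ⟨I, V, v, hvf, hvp, hvs, hvR⟩ := exists_fppf_of_mem_J hR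
  choose x g hg using fun i => hloc (v i) (hvR i)
  have hx : ∀ i, 𝒳.p.obj (x i) = V i := fun i =>
    have := hg i
    IsHomLift.domain_eq (FibCat.selfOver (Over S)).p (v i) (g i)
  have hh : ∀ i, (v i).left = (V i).hom := fun i => (Category.comp_id _).symm.trans (Over.w (v i))
  refine ⟨sigmaOver V, ⟨fun s => ?_⟩, ?_, ?_, exists_obj_sigma hst x hx⟩
  · obtain ⟨i, z, hz⟩ := hvs s
    refine ⟨(sigmaι V i).left z, ?_⟩
    rw [← Scheme.Hom.comp_apply, Over.w (sigmaι V i), ← hh]
    exact hz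
  · show Flat (Sigma.desc fun i => (V i).hom)
    exact IsZariskiLocalAtSource.sigmaDesc (P := @Flat) fun i => hh i ▸ hvf i
  · show LocallyOfFinitePresentation (Sigma.desc fun i => (V i).hom)
    exact IsZariskiLocalAtSource.sigmaDesc (P := @LocallyOfFinitePresentation) fun i => hh i ▸ hvp i

variable {A : Over S} [GrpObj A] [Flat A.hom] [Surjective A.hom] [LocallyOfFinitePresentation A.hom]
  (β : Gerb.Banding 𝒳 (yonedaGrpObj A))

theorem coverP_snd (V : Over S) : Chart.CoverP ((yon S).map (snd A V)) :=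
  have : Flat (snd A V).left := Groth.Agent.QuotLib.flat_snd (R := @Flat) ‹Flat A.hom› V
  have : LocallyOfFinitePresentation (snd A V).left :=
    Groth.Agent.QuotLib.flat_snd (R := @LocallyOfFinitePresentation) ‹LocallyOfFinitePresentation A.hom› V
  have : Surjective (snd A V).left := Groth.Agent.QuotLib.flat_snd (R := @Surjective) ‹Surjective A.hom› V
  coverP_yon_map (snd A V)

include β in
/-- A functor from a cover of the base to a banded gerbe is a cover. -/
theorem repByAlgSpWith_coverP (hX : Stk.IsPrestack (J S) 𝒳) (hh : Gerb.LocSurjHom (J S) (FibCat.toSelf 𝒳))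
    {U : Over S} [Surjective U.hom] [Flat U.hom] [LocallyOfFinitePresentation U.hom]
    (f : FibCat.overCat U ⥤ᵇ 𝒳) : AlgSt.RepByAlgSpWith Chart.CoverP f := by
  refine repByAlgSpWith_of_isomP hX fun W y => ⟨isAlgSpace_isom β hX hh _ _, ?_⟩
  have sq := (isPullback_prod W U).flip
  have : Surjective (prod.fst : W ⨯ U ⟶ W).left := MorphismProperty.of_isPullback sq ‹Surjective U.hom›
  have : Flat (prod.fst : W ⨯ U ⟶ W).left := MorphismProperty.of_isPullback sq ‹Flat U.hom›
  have : LocallyOfFinitePresentation (prod.fst : W ⨯ U ⟶ W).left :=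
    MorphismProperty.of_isPullback sq ‹LocallyOfFinitePresentation U.hom›
  exact stableComp_coverP (isAlgSpace_isom β hX hh _ _) (IsAlgSpace.yon_obj _) (IsAlgSpace.yon_obj W) _ _
    (property_isom β hX hh _ _ Chart.stableBC_coverP isLocalOnBase_coverP coverP_snd)
    (coverP_yon_map prod.fst)

include β in
/-- A banded gerbe is algebraic and locally of finite presentation. -/
theorem isAlgStack_and_locQ_lfp (hst : Stk.IsStack (J S) 𝒳)
    (hg : Gerb.IsGerbeOver (J S) (FibCat.toSelf 𝒳)) :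
    AlgSt.IsAlgStack Scheme.fppfPrecoverage 𝒳 ∧
      AlgSt.LocQ (LocP @LocallyOfFinitePresentation) (FibCat.toSelf 𝒳) := by
  have hX : Stk.IsPrestack (J S) 𝒳 := isPrestack hst
  obtain ⟨U, _, _, _, ⟨f⟩⟩ := exists_cover_obj hst hg.1
  have hf := repByAlgSpWith_coverP β hX hg.2 f
  have hd : AlgSt.RepByAlgSp1 (FibCat.diag (FibCat.toSelf 𝒳)) := fun W y => by
    obtain ⟨F, e, he, -⟩ := repByAlgSpWith_diag β hX hg.2 Chart.stableBC_coverP isLocalOnBase_coverP coverP_snd W y
    exact ⟨F, e, he⟩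
  exact ⟨isAlgStack_of_cover hst hd f hf, locQ_lfp_of_cover (isAlgStack_of_cover hst hd f hf) f hf⟩

end Banded

section Up

attribute [local instance] uliftCategory

variable {𝒳 : AlgSt.Cat S}

theorem lift_upFun {R T : Over S} {f : R ⟶ T} {a b : 𝒳.obj} {φ : a ⟶ b} (h : 𝒳.p.IsHomLift f φ) :
    (upCat 𝒳).p.IsHomLift f ((upFun 𝒳).map φ) :=
  (upFun 𝒳).preserves_isHomLift f φ

theorem lift_downFun {R T : Over S} {f : R ⟶ T} {a b : (upCat 𝒳).obj} {φ : a ⟶ b}
    (h : (upCat 𝒳).p.IsHomLift f φ) : 𝒳.p.IsHomLift f ((downFun 𝒳).map φ) :=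
  (downFun 𝒳).preserves_isHomLift f φ

/-- Automorphisms in the big category. -/
def autUp (x : (upCat 𝒳).obj) : Gerb.AutO ((downFun 𝒳).obj x) ≃* Gerb.AutO x where
  toFun α :=
    { hom := ⟨(upFun 𝒳).map α.hom.1, lift_upFun α.hom.2⟩
      inv := ⟨(upFun 𝒳).map α.inv.1, lift_upFun α.inv.2⟩
      hom_inv_id := Functor.Fiber.hom_ext ((((upFun 𝒳).toFunctor.map_comp _ _).symm.trans
        (congrArg (upFun 𝒳).map (congrArg Subtype.val α.hom_inv_id))).trans ((upFun 𝒳).toFunctor.map_id _))
      inv_hom_id := Functor.Fiber.hom_ext ((((upFun 𝒳).toFunctor.map_comp _ _).symm.trans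
        (congrArg (upFun 𝒳).map (congrArg Subtype.val α.inv_hom_id))).trans ((upFun 𝒳).toFunctor.map_id _)) }
  invFun α :=
    { hom := ⟨(downFun 𝒳).map α.hom.1, lift_downFun α.hom.2⟩
      inv := ⟨(downFun 𝒳).map α.inv.1, lift_downFun α.inv.2⟩
      hom_inv_id := Functor.Fiber.hom_ext ((((downFun 𝒳).toFunctor.map_comp _ _).symm.trans
        (congrArg (downFun 𝒳).map (congrArg Subtype.val α.hom_inv_id))).trans ((downFun 𝒳).toFunctor.map_id _))
      inv_hom_id := Functor.Fiber.hom_ext ((((downFun 𝒳).toFunctor.map_comp _ _).symm.trans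
        (congrArg (downFun 𝒳).map (congrArg Subtype.val α.inv_hom_id))).trans ((downFun 𝒳).toFunctor.map_id _)) }
  left_inv _ := rfl
  right_inv _ := rfl
  map_mul' _ _ := Aut.ext (Functor.Fiber.hom_ext rfl)

/-- A banding of a small category bands the big one. -/
def upBanding {G : (Over S)ᵒᵖ ⥤ GrpCat.{u}} (β : Gerb.Banding 𝒳 G) : Gerb.Banding (upCat 𝒳) G where
  iso x := (β.iso ((downFun 𝒳).obj x)).trans (autUp x)
  natural {x' x} φ a := congrArg ULift.up (β.natural ((downFun 𝒳).map φ) a)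

theorem isGerbeOver_up (h : Gerb.IsGerbeOver (J S) (FibCat.toSelf 𝒳)) :
    Gerb.IsGerbeOver (J S) (FibCat.toSelf (upCat 𝒳)) := by
  refine ⟨fun y => ?_, fun x x' b hb => ?_⟩
  · obtain ⟨R, hR, hl⟩ := h.1 y
    exact ⟨R, hR, fun V f hf => by
      obtain ⟨z, g, hg⟩ := hl f hf
      exact ⟨(upFun 𝒳).obj z, g, hg⟩⟩
  · obtain ⟨R, hR, hl⟩ := h.2 ((downFun 𝒳).obj x) ((downFun 𝒳).obj x') b hb
    exact ⟨R, hR, fun V f hf => by
      obtain ⟨z, φ, ψ, hφ, hψ, hc⟩ := hl f hf
      exact ⟨(upFun 𝒳).obj z, (upFun 𝒳).map φ, (upFun 𝒳).map ψ, (upFun 𝒳).preserves_isHomLift f φ,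
        (upFun 𝒳).preserves_isHomLift f ψ, hc⟩⟩

end Up

end Groth.Agent.FCov14
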