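import Groth.Agent.AlgStLib.Stack
import Groth.Agent.FibBase.Strictify

/-! Transfer of algebraicity along equivalences between categories of different sizes. -/

set_option autoImplicit false
set_option backward.isDefEq.respectTransparency false
set_option backward.isDefEq.respectTransparency.types false

universe v₇ u₇ v₆ u₆ v₅ u₅ v₄ u₄ v₃ u₃ v₂ u₂ v u

open CategoryTheory CategoryTheory.Functor CategoryTheory.Limits AlgebraicGeometry AlgSp
open Groth.Agent.FibBase Groth.Agent.AlgStLib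

namespace Groth.Agent.FCov14.Het

section Map

variable {C : Type u} [Category.{v} C]
  {𝒳 : BasedCategory.{v₂, u₂} C} {𝒴 : BasedCategory.{v₃, u₃} C} {𝒮 : BasedCategory.{v₄, u₄} C}
  {𝒳' : BasedCategory.{v₅, u₅} C} {𝒴' : BasedCategory.{v₆, u₆} C} {𝒮' : BasedCategory.{v₇, u₇} C}
  {F : 𝒳 ⥤ᵇ 𝒮} {G : 𝒴 ⥤ᵇ 𝒮}
  {F' : 𝒳' ⥤ᵇ 𝒮'} {G' : 𝒴' ⥤ᵇ 𝒮'} {a : 𝒳' ⥤ᵇ 𝒳} {b : 𝒴' ⥤ᵇ 𝒴} {c : 𝒮' ⥤ᵇ 𝒮}
  (α : BasedFunctor.comp a F ≅ BasedFunctor.comp F' c) (β : BasedFunctor.comp G' c ≅ BasedFunctor.comp b G)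

/-- The functor of fibre products induced by a map of cospans. -/
def fpMapH : FibCat.fp F' G' ⥤ᵇ FibCat.fp F G :=
  FibCat.fpLift (BasedFunctor.comp (FibCat.fpFst F' G') a) (BasedFunctor.comp (FibCat.fpSnd F' G') b)
    (whiskerLeftIso (FibCat.fpFst F' G') α ≪≫ whiskerRightIso (FibCat.fpIso F' G') c ≪≫
      whiskerLeftIso (FibCat.fpSnd F' G') β)

lemma fpMapH_iso (x : (FibCat.fp F' G').obj) : ((fpMapH α β).obj x).obj.iso.hom =
    (isoApp α x.obj.fst).hom ≫ c.map x.obj.iso.hom ≫ (isoApp β x.obj.snd).hom := rfl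

theorem fpMapH_isEquivOver (ha : FibCat.IsEquivOver a) (hb : FibCat.IsEquivOver b)
    [c.toFunctor.Full] [c.toFunctor.Faithful] : FibCat.IsEquivOver (fpMapH α β) := by
  have := full_of_isEquivOver ha
  have := faithful_of_isEquivOver ha
  have := full_of_isEquivOver hb
  have := faithful_of_isEquivOver hb
  refine isEquivOver_of_exists_iso _ ⟨fun {x y} t => ?_⟩ ⟨fun {x y} t t' h => ?_⟩ fun η => ?_
  · obtain ⟨p, hp⟩ := a.toFunctor.map_surjective (X := x.obj.fst) (Y := y.obj.fst) t.hom.fst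
    obtain ⟨q, hq⟩ := b.toFunctor.map_surjective (X := x.obj.snd) (Y := y.obj.snd) t.hom.snd
    refine ⟨ObjectProperty.homMk ⟨p, q, ?_⟩, ObjectProperty.hom_ext _ (CategoricalPullback.hom_ext hp hq)⟩
    have w := t.hom.w
    rw [fpMapH_iso, fpMapH_iso, ← hp, ← hq] at w
    refine c.toFunctor.map_injective ?_
    rw [← cancel_epi (isoApp α x.obj.fst).hom, ← cancel_mono (isoApp β y.obj.snd).hom]
    simp only [Functor.map_comp, Category.assoc] at w ⊢
    have nα : F.map (a.map p) ≫ (isoApp α y.obj.fst).hom =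
        (isoApp α x.obj.fst).hom ≫ c.map (F'.map p) := natural α p
    have nβ : c.map (G'.map q) ≫ (isoApp β y.obj.snd).hom =
        (isoApp β x.obj.snd).hom ≫ G.map (b.map q) := natural β q
    rw [← reassoc_of% nα, nβ]
    exact w
  · exact ObjectProperty.hom_ext _ (CategoricalPullback.hom_ext
      (a.toFunctor.map_injective (congrArg (fun s => s.hom.fst) h))
      (b.toFunctor.map_injective (congrArg (fun s => s.hom.snd) h)))
  · obtain ⟨x', e, he⟩ := exists_iso_over_of_isEquivOver ha (S := 𝒳.p.obj η.obj.fst) η.obj.fst rfl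
    obtain ⟨y', e', he'⟩ := exists_iso_over_of_isEquivOver hb (S := 𝒳.p.obj η.obj.fst) η.obj.snd (snd_proj η)
    have hx : 𝒳'.p.obj x' = 𝒳.p.obj η.obj.fst :=
      (a.w_obj x').symm.trans (IsHomLift.domain_eq 𝒳.p (𝟙 (𝒳.p.obj η.obj.fst)) e.hom)
    have hy : 𝒴'.p.obj y' = 𝒳.p.obj η.obj.fst :=
      (b.w_obj y').symm.trans (IsHomLift.domain_eq 𝒴.p (𝟙 (𝒳.p.obj η.obj.fst)) e'.hom)
    let i : c.obj (F'.obj x') ≅ c.obj (G'.obj y') :=
      (isoApp α x').symm ≪≫ F.toFunctor.mapIso e ≪≫ η.obj.iso ≪≫ (G.toFunctor.mapIso e').symm ≪≫ (isoApp β y').symm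
    have hi : 𝒮.p.IsHomLift (𝟙 (𝒳.p.obj η.obj.fst)) i.hom := by
      have := isoApp_inv_lift α hx
      have := isoApp_inv_lift β hy
      have := fp_iso_lift η
      have : 𝒮.p.IsHomLift (𝟙 (𝒳.p.obj η.obj.fst)) (G.toFunctor.mapIso e').hom :=
        G.preserves_isHomLift _ e'.hom
      have := IsHomLift.lift_id_inv 𝒮.p (𝒳.p.obj η.obj.fst) (G.toFunctor.mapIso e')
      show 𝒮.p.IsHomLift (𝟙 (𝒳.p.obj η.obj.fst)) ((isoApp α x').inv ≫ F.map e.hom ≫ η.obj.iso.hom ≫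
        (G.toFunctor.mapIso e').inv ≫ (isoApp β y').inv)
      infer_instance
    refine ⟨⟨⟨x', y', c.toFunctor.preimageIso i⟩, ?_⟩, fpIsoMk e e' ?_, ?_⟩
    · show 𝒮'.p.IsHomLift (𝟙 (𝒳'.p.obj x')) (c.toFunctor.preimageIso i).hom
      rw [hx, ← c.isHomLift_iff, Functor.preimageIso_hom, Functor.map_preimage]
      exact hi
    · show F.map e.hom ≫ η.obj.iso.hom =
        ((isoApp α x').hom ≫ c.map (c.toFunctor.preimageIso i).hom ≫ (isoApp β y').hom) ≫ G.map e'.hom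
      rw [Functor.preimageIso_hom, Functor.map_preimage]
      simp only [i, Iso.trans_hom, Iso.symm_hom, Functor.mapIso_hom, Functor.mapIso_inv, Category.assoc,
        Iso.hom_inv_id_assoc, Iso.inv_hom_id_assoc]
      rw [← G.toFunctor.map_comp, Iso.inv_hom_id, G.toFunctor.map_id, Category.comp_id]
    · exact fp_isHomLift (𝟙 _) _ (h := he)

end Map

section Transfer

variable {S : Scheme.{u}} {𝒳 : BasedCategory.{v₂, u₂} (Over S)} {𝒴 : BasedCategory.{v₃, u₃} (Over S)} {k : 𝒳 ⥤ᵇ 𝒴}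

/-- A category equivalent to one represented by an algebraic space is represented by it. -/
theorem repByAlgSp_of_isEquivOver {𝒜 : BasedCategory.{v₂, u₂} (Over S)} {ℬ : BasedCategory.{v₃, u₃} (Over S)}
    {e : 𝒜 ⥤ᵇ ℬ} (he : FibCat.IsEquivOver e) (h : AlgSt.RepByAlgSp ℬ) : AlgSt.RepByAlgSp 𝒜 := by
  obtain ⟨F, e', he'⟩ := h
  obtain ⟨g, h₁, h₂⟩ := he
  exact ⟨F, BasedFunctor.comp e' g, isEquivOver_comp' he' ⟨e, h₂, h₁⟩⟩

theorem repByAlgSpWith_diag {P : MorphismProperty (Sp S)} (hk : FibCat.IsEquivOver k)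
    (h : AlgSt.RepByAlgSpWith P (FibCat.diag (FibCat.toSelf 𝒴))) :
    AlgSt.RepByAlgSpWith P (FibCat.diag (FibCat.toSelf 𝒳)) := by
  intro U y
  have hp : BasedFunctor.comp k (FibCat.toSelf 𝒴) = BasedFunctor.comp (FibCat.toSelf 𝒳) (BasedFunctor.id _) := by
    obtain ⟨F, w⟩ := k
    simp only [BasedFunctor.comp, BasedFunctor.id, FibCat.toSelf, BasedFunctor.mk.injEq]
    exact w.trans (Functor.comp_id _).symm
  let i := eqToIso hp
  have : (BasedFunctor.id (FibCat.selfOver (Over S))).toFunctor.Full := inferInstanceAs (𝟭 _).Full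
  have : (BasedFunctor.id (FibCat.selfOver (Over S))).toFunctor.Faithful := inferInstanceAs (𝟭 _).Faithful
  let c := fpMapH (F := FibCat.toSelf 𝒴) (G := FibCat.toSelf 𝒴) (F' := FibCat.toSelf 𝒳) (G' := FibCat.toSelf 𝒳)
    (a := k) (b := k) i i.symm
  have hc : FibCat.IsEquivOver c := fpMapH_isEquivOver _ _ hk hk
  let β : BasedFunctor.comp (FibCat.diag (FibCat.toSelf 𝒳)) c ≅ BasedFunctor.comp k (FibCat.diag (FibCat.toSelf 𝒴)) :=
    BasedNatIso.mkNatIso
      (NatIso.ofComponents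
        (fun x => fpIsoMk (x := (BasedFunctor.comp (FibCat.diag (FibCat.toSelf 𝒳)) c).obj x)
          (y := (BasedFunctor.comp k (FibCat.diag (FibCat.toSelf 𝒴))).obj x) (Iso.refl _) (Iso.refl _) (by
            show (FibCat.toSelf 𝒴).map (𝟙 (k.obj x)) ≫ 𝟙 _ =
              ((isoApp i x).hom ≫ 𝟙 _ ≫ (isoApp i x).inv) ≫ (FibCat.toSelf 𝒴).map (𝟙 (k.obj x))
            refine Eq.trans ?_ (congrArg (fun m => m ≫ (FibCat.toSelf 𝒴).map (𝟙 (k.obj x)))
              ((congrArg (fun m => (isoApp i x).hom ≫ m) (Category.id_comp _)).trans (isoApp i x).hom_inv_id).symm)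
            exact (Category.comp_id _).trans (Category.id_comp _).symm))
        (fun {x z} φ => by
          refine ObjectProperty.hom_ext _ (CategoricalPullback.hom_ext ?_ ?_)
          · show k.map φ ≫ 𝟙 _ = 𝟙 _ ≫ k.map φ
            simp
          · show k.map φ ≫ 𝟙 _ = 𝟙 _ ≫ k.map φ
            simp))
      (fun x => fp_isHomLift (F := FibCat.toSelf 𝒴) (G := FibCat.toSelf 𝒴) (𝟙 (𝒳.p.obj x)) _
        (h := IsHomLift.id (p := 𝒴.p) (k.w_obj x)))
  have := full_of_isEquivOver hc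
  have := faithful_of_isEquivOver hc
  let m := fpMapH (F := BasedFunctor.comp y c) (G := FibCat.diag (FibCat.toSelf 𝒴)) (F' := y)
    (G' := FibCat.diag (FibCat.toSelf 𝒳)) (a := BasedFunctor.id _) (b := k) (c := c) (Iso.refl _) β
  obtain ⟨g, ⟨c₁⟩, ⟨c₂⟩⟩ : FibCat.IsEquivOver m := fpMapH_isEquivOver _ _ isEquivOver_id hk
  obtain ⟨F, e, he, hP⟩ := h U (BasedFunctor.comp y c)
  refine ⟨F, BasedFunctor.comp e g, isEquivOver_comp' he ⟨m, ⟨c₂⟩, ⟨c₁⟩⟩, ?_⟩
  rw [spMapOfOver_congr (show BasedFunctor.comp (BasedFunctor.comp e g) (FibCat.fpFst y (FibCat.diag (FibCat.toSelf 𝒳))) ≅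
    BasedFunctor.comp e (FibCat.fpFst (BasedFunctor.comp y c) (FibCat.diag (FibCat.toSelf 𝒴))) from
    whiskerLeftIso e (whiskerRightIso c₂ (FibCat.fpFst (BasedFunctor.comp y c) (FibCat.diag (FibCat.toSelf 𝒴)))))]
  exact hP

theorem repByAlgSp1_diag (hk : FibCat.IsEquivOver k)
    (h : AlgSt.RepByAlgSp1 (FibCat.diag (FibCat.toSelf 𝒴))) :
    AlgSt.RepByAlgSp1 (FibCat.diag (FibCat.toSelf 𝒳)) := fun U y => by
  have h' : AlgSt.RepByAlgSpWith ⊤ (FibCat.diag (FibCat.toSelf 𝒴)) := fun U y => by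
    obtain ⟨F, e, he⟩ := h U y
    exact ⟨F, e, he, trivial⟩
  obtain ⟨F, e, he, -⟩ := repByAlgSpWith_diag hk h' U y
  exact ⟨F, e, he⟩

/-- Postcomposition with an equivalence. -/
theorem repByAlgSpWith_postcomp (hk : FibCat.IsEquivOver k) {Q : MorphismProperty (Sp S)} {U : Over S}
    {x : FibCat.overCat U ⥤ᵇ 𝒳} (hx : AlgSt.RepByAlgSpWith Q x) :
    AlgSt.RepByAlgSpWith Q (BasedFunctor.comp x k) := by
  have := full_of_isEquivOver hk
  have := faithful_of_isEquivOver hk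
  obtain ⟨g, -, ⟨c₂⟩⟩ := hk
  intro V y
  obtain ⟨F, e, he, hP⟩ := hx V (BasedFunctor.comp y g)
  let m := fpMapH (F := y) (G := BasedFunctor.comp x k) (F' := BasedFunctor.comp y g) (G' := x)
    (a := BasedFunctor.id _) (b := BasedFunctor.id _) (c := k) (whiskerLeftIso y c₂).symm (Iso.refl _)
  exact ⟨F, BasedFunctor.comp e m, isEquivOver_comp' he (fpMapH_isEquivOver _ _ isEquivOver_id isEquivOver_id), hP⟩

theorem hasAtlas (hk : FibCat.IsEquivOver k) {P : MorphismProperty (Sp S)} (h : AlgSt.HasAtlas P 𝒴) :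
    AlgSt.HasAtlas P 𝒳 := by
  obtain ⟨U, x, hx, hx'⟩ := h
  obtain ⟨g, ⟨c₁⟩, ⟨c₂⟩⟩ := hk
  have hg : FibCat.IsEquivOver g := ⟨k, ⟨c₂⟩, ⟨c₁⟩⟩
  have := full_of_isEquivOver hg
  have := faithful_of_isEquivOver hg
  have key : ∀ {Q : MorphismProperty (Sp S)}, AlgSt.RepByAlgSpWith Q x →
      AlgSt.RepByAlgSpWith Q (BasedFunctor.comp x g) := by
    intro Q hQ V y
    obtain ⟨F, e, he, hP⟩ := hQ V (BasedFunctor.comp y k)
    let m := fpMapH (F := y) (G := BasedFunctor.comp x g) (F' := BasedFunctor.comp y k) (G' := x)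
      (a := BasedFunctor.id _) (b := BasedFunctor.id _) (c := g) (whiskerLeftIso y c₁).symm (Iso.refl _)
    have hm : FibCat.IsEquivOver m := fpMapH_isEquivOver _ _ isEquivOver_id isEquivOver_id
    exact ⟨F, BasedFunctor.comp e m, isEquivOver_comp' he hm, hP⟩
  exact ⟨U, BasedFunctor.comp x g, key hx, key hx'⟩

/-- Algebraicity passes to an equivalent small category. -/
theorem isAlgStack (hk : FibCat.IsEquivOver k) {K : Precoverage Scheme.{u}} (h : AlgSt.IsAlgStack K 𝒴) :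
    AlgSt.IsAlgStack K 𝒳 :=
  ⟨(Groth.Agent.StkLib.isStack_iff_of_isEquivOver _ hk).2 h.isStack, repByAlgSp1_diag hk h.diag,
    hasAtlas hk h.atlas⟩

end Transfer

end Groth.Agent.FCov14.Het
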