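import Groth.Agent.AlgStLib.SheafGlue

/-! The sheaf of sections along a morphism of schemes over the base. -/

set_option autoImplicit false
set_option backward.isDefEq.respectTransparency false
set_option backward.isDefEq.respectTransparency.types false

universe u

open CategoryTheory CategoryTheory.Limits Opposite AlgebraicGeometry AlgSp
open Groth.Agent.AlgSpLib Groth.Agent.AlgStLib

namespace Groth.Agent.FCov14.Pushf

variable {S : Scheme.{u}} {B Z : Over S} (pz : Z ⟶ B) {F : Sp S} (π : F ⟶ (yon S).obj Z)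

/-- The base change of the source along a point of the target. -/
noncomputable def pb {W : Over S} (b : W ⟶ B) : Over S := pullback b pz

/-- The projection to the source. -/
noncomputable def prZ {W : Over S} (b : W ⟶ B) : pb pz b ⟶ Z := pullback.snd b pz

/-- The projection to the point. -/
noncomputable def prW {W : Over S} (b : W ⟶ B) : pb pz b ⟶ W := pullback.fst b pz

theorem isPullback_pb {W : Over S} (b : W ⟶ B) : IsPullback (prW pz b) (prZ pz b) b pz := IsPullback.of_hasPullback b pz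

/-- A map into a base change. -/
noncomputable def pbLift {W V : Over S} {b : W ⟶ B} (u : V ⟶ W) (v : V ⟶ Z) (h : u ≫ b = v ≫ pz) : V ⟶ pb pz b :=
  (isPullback_pb pz b).lift u v h

@[reassoc]
theorem pbLift_fst {W V : Over S} {b : W ⟶ B} (u : V ⟶ W) (v : V ⟶ Z) (h : u ≫ b = v ≫ pz) :
    pbLift pz u v h ≫ prW pz b = u := (isPullback_pb pz b).lift_fst u v h

@[reassoc]
theorem pbLift_snd {W V : Over S} {b : W ⟶ B} (u : V ⟶ W) (v : V ⟶ Z) (h : u ≫ b = v ≫ pz) :
    pbLift pz u v h ≫ prZ pz b = v := (isPullback_pb pz b).lift_snd u v h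

theorem pb_hom_ext {W V : Over S} {b : W ⟶ B} {x y : V ⟶ pb pz b} (h₁ : x ≫ prW pz b = y ≫ prW pz b)
    (h₂ : x ≫ prZ pz b = y ≫ prZ pz b) : x = y := (isPullback_pb pz b).hom_ext h₁ h₂

attribute [irreducible] pb prW prZ pbLift

@[reassoc]
theorem pb_condition {W : Over S} (b : W ⟶ B) : prW pz b ≫ b = prZ pz b ≫ pz := (isPullback_pb pz b).w

/-- The map on base changes given by a restriction. -/
noncomputable def pbMap {W W' : Over S} (g : W' ⟶ W) {b : W ⟶ B} {b' : W' ⟶ B} (h : g ≫ b = b') :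
    pb pz b' ⟶ pb pz b :=
  pbLift pz (prW pz b' ≫ g) (prZ pz b') (by rw [Category.assoc, h, pb_condition])

theorem pbMap_fst {W W' : Over S} (g : W' ⟶ W) {b : W ⟶ B} {b' : W' ⟶ B} (h : g ≫ b = b') :
    pbMap pz g h ≫ prW pz b = prW pz b' ≫ g := pbLift_fst _ _ _ _

theorem pbMap_snd {W W' : Over S} (g : W' ⟶ W) {b : W ⟶ B} {b' : W' ⟶ B} (h : g ≫ b = b') :
    pbMap pz g h ≫ prZ pz b = prZ pz b' := pbLift_snd _ _ _ _

theorem pbMap_id {W : Over S} {b : W ⟶ B} : pbMap pz (𝟙 W) (Category.id_comp b) = 𝟙 _ :=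
  pb_hom_ext pz (by rw [pbMap_fst]; simp) (by rw [pbMap_snd, Category.id_comp])

theorem pbMap_comp {W W' W'' : Over S} (g : W' ⟶ W) (g' : W'' ⟶ W') {b : W ⟶ B} {b' : W' ⟶ B} {b'' : W'' ⟶ B}
    (h : g ≫ b = b') (h' : g' ≫ b' = b'') :
    pbMap pz g' h' ≫ pbMap pz g h = pbMap pz (g' ≫ g) (by rw [Category.assoc, h, h']) :=
  pb_hom_ext pz (by rw [Category.assoc, pbMap_fst, ← Category.assoc, pbMap_fst, pbMap_fst, Category.assoc])
    (by rw [Category.assoc, pbMap_snd, pbMap_snd, pbMap_snd])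

theorem isPullback_pbMap {W W' : Over S} (g : W' ⟶ W) {b : W ⟶ B} {b' : W' ⟶ B} (h : g ≫ b = b') :
    IsPullback (pbMap pz g h) (prW pz b') (prW pz b) g := by
  refine IsPullback.of_right ?_ (pbMap_fst pz g h) (isPullback_pb pz b).flip
  rw [pbMap_snd, h]
  exact (isPullback_pb pz b').flip

/-- A section over a point. -/
@[ext (flat := false)]
structure Sec (W : Over S) : Type (u + 1) where
  b : W ⟶ B
  s : (yon S).obj (pb pz b) ⟶ F
  w : s ≫ π = (yon S).map (prZ pz b)

variable {pz π}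

theorem Sec.ext' {W : Over S} {x y : Sec pz π W} (hb : x.b = y.b)
    (hs : (yon S).map (pbMap pz (𝟙 W) (b := y.b) (b' := x.b) (by rw [Category.id_comp, hb])) ≫ y.s = x.s) : x = y := by
  obtain ⟨b, s, w⟩ := x
  obtain ⟨b', s', w'⟩ := y
  obtain rfl : b = b' := hb
  rw [pbMap_id, CategoryTheory.Functor.map_id, Category.id_comp] at hs
  obtain rfl : s' = s := hs
  rfl

/-- Restriction of sections. -/
noncomputable def Sec.res {W W' : Over S} (g : W' ⟶ W) (x : Sec pz π W) : Sec pz π W' where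
  b := g ≫ x.b
  s := (yon S).map (pbMap pz g rfl) ≫ x.s
  w := by rw [Category.assoc, x.w, ← Functor.map_comp, pbMap_snd]

theorem Sec.res_id {W : Over S} (x : Sec pz π W) : x.res (𝟙 W) = x :=
  Sec.ext' (Category.id_comp _) rfl

theorem Sec.res_comp {W W' W'' : Over S} (g : W' ⟶ W) (g' : W'' ⟶ W') (x : Sec pz π W) :
    x.res (g' ≫ g) = (x.res g).res g' := by
  refine Sec.ext' (Category.assoc _ _ _) ?_
  show (yon S).map _ ≫ (yon S).map _ ≫ (yon S).map _ ≫ x.s = (yon S).map _ ≫ x.s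
  simp only [← Functor.map_comp_assoc, pbMap_comp, Category.id_comp]

variable (pz π)

/-- The presheaf of sections. -/
noncomputable def presheaf : (Over S)ᵒᵖ ⥤ Type (u + 1) where
  obj W := Sec pz π W.unop
  map g := TypeCat.ofHom fun x => x.res g.unop
  map_id W := ConcreteCategory.hom_ext _ _ fun x => Sec.res_id x
  map_comp g g' := ConcreteCategory.hom_ext _ _ fun x => Sec.res_comp g.unop g'.unop x

variable {pz π}

/-- The components of a restriction. -/
theorem Sec.res_s {W V : Over S} {g : V ⟶ W} {x : Sec pz π W} {z : Sec pz π V} (h : x.res g = z)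
    (hb : g ≫ x.b = z.b) : (yon S).map (pbMap pz g hb) ≫ x.s = z.s := by
  subst h
  rfl

/-- Equal restrictions have equal components. -/
theorem Sec.res_s_eq {W V : Over S} {g : V ⟶ W} {x y : Sec pz π W} (h : x.res g = y.res g) (hb : g ≫ y.b = g ≫ x.b) :
    (yon S).map (pbMap pz g hb) ≫ y.s = (yon S).map (pbMap pz g rfl) ≫ x.s :=
  (Sec.res_s h.symm hb).trans rfl

/-- The lift to a base change of a map into the base change along the bottom. -/
noncomputable def self {W V : Over S} {b : W ⟶ B} (k : V ⟶ pb pz b) {b' : V ⟶ B} (h : (k ≫ prW pz b) ≫ b = b') :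
    V ⟶ pb pz b' :=
  pbLift pz (𝟙 V) (k ≫ prZ pz b) (by rw [Category.id_comp, ← h, Category.assoc, Category.assoc, pb_condition])

theorem self_pbMap {W V : Over S} {b : W ⟶ B} (k : V ⟶ pb pz b) :
    self k rfl ≫ pbMap pz (k ≫ prW pz b) rfl = k :=
  pb_hom_ext pz (by rw [Category.assoc, pbMap_fst, self, pbLift_fst_assoc, Category.id_comp])
    (by rw [Category.assoc, pbMap_snd, self, pbLift_snd])

theorem self_comp {W V V' : Over S} {b : W ⟶ B} (g : V' ⟶ V) (k : V ⟶ pb pz b)
    (h : g ≫ (k ≫ prW pz b) ≫ b = ((g ≫ k) ≫ prW pz b) ≫ b) :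
    self (g ≫ k) rfl ≫ pbMap pz g h = g ≫ self k rfl := by
  refine pb_hom_ext pz ?_ ?_
  · rw [Category.assoc, pbMap_fst, self, pbLift_fst_assoc, Category.id_comp, Category.assoc, self, pbLift_fst,
      Category.comp_id]
  · rw [Category.assoc, pbMap_snd, self, pbLift_snd, Category.assoc, Category.assoc, self, pbLift_snd]

theorem sec_ext_covering {W : Over S} {T : Sieve W} (hT : T ∈ J S W) (x y : Sec pz π W)
    (e : ∀ ⦃V : Over S⦄ (f : V ⟶ W), T f → x.res f = y.res f) : x = y := by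
  have hb : x.b = y.b := (yon S).map_injective (hom_ext_of_covering _ _ hT fun V f hf => by
    rw [← Functor.map_comp, ← Functor.map_comp]
    have hf' : f ≫ x.b = f ≫ y.b := congrArg Sec.b (e f hf)
    rw [hf'])
  refine Sec.ext' hb (hom_ext_of_covering _ _ ((J S).pullback_stable (prW pz x.b) hT) fun V k hk => ?_)
  have h2 := Sec.res_s_eq (e _ hk) (congrArg (fun t => (k ≫ prW pz x.b) ≫ t) hb.symm)
  have h3 : k ≫ pbMap pz (𝟙 W) (b := y.b) (b' := x.b) (by rw [Category.id_comp, hb]) =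
      self k rfl ≫ pbMap pz (k ≫ prW pz x.b) (congrArg (fun t => (k ≫ prW pz x.b) ≫ t) hb.symm) :=
    pb_hom_ext pz
      (by rw [Category.assoc, pbMap_fst, Category.assoc, pbMap_fst, self, pbLift_fst_assoc, Category.id_comp,
        Category.comp_id])
      (by rw [Category.assoc, pbMap_snd, Category.assoc, pbMap_snd, self, pbLift_snd])
  rw [← Functor.map_comp_assoc, h3, Functor.map_comp_assoc, h2, ← Functor.map_comp_assoc, self_pbMap]

theorem exists_glue_s {W : Over S} {T : Sieve W} (hT : T ∈ J S W) (b : W ⟶ B)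
    (sk : ∀ ⦃V : Over S⦄ (k : V ⟶ W), T k → ((yon S).obj (pb pz (k ≫ b)) ⟶ F))
    (hπ : ∀ ⦃V : Over S⦄ (k : V ⟶ W) (hk : T k), sk k hk ≫ π = (yon S).map (prZ pz (k ≫ b)))
    (hcompat : ∀ ⦃V' V : Over S⦄ (g : V' ⟶ V) (k : V ⟶ W) (hk : T k) (h : V' ⟶ W) (hh : T h) (w : g ≫ k ≫ b = h ≫ b),
      g ≫ k = h → (yon S).map (pbMap pz g w) ≫ sk k hk = sk h hh) :
    ∃ s : (yon S).obj (pb pz b) ⟶ F, s ≫ π = (yon S).map (prZ pz b) ∧
      ∀ ⦃V : Over S⦄ (k : V ⟶ W) (hk : T k), (yon S).map (pbMap pz k rfl) ≫ s = sk k hk := by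
  let m : ∀ ⦃V : Over S⦄ (k : V ⟶ pb pz b), T (k ≫ prW pz b) → ((yon S).obj V ⟶ F) := fun V k hk =>
    (yon S).map (self k rfl) ≫ sk _ hk
  obtain ⟨s, hs, -⟩ := SheafGlue.existsUnique_glue (T := T.pullback (prW pz b)) ((J S).pullback_stable _ hT) (Z := F) m
    fun V' V g k hk => by
      show (yon S).map _ ≫ _ = (yon S).map g ≫ (yon S).map _ ≫ _
      have hh : (g ≫ k) ≫ prW pz b = g ≫ (k ≫ prW pz b) := Category.assoc _ _ _
      have hw : g ≫ (k ≫ prW pz b) ≫ b = ((g ≫ k) ≫ prW pz b) ≫ b := by simp only [Category.assoc]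
      have h5 := hcompat g (k ≫ prW pz b) hk ((g ≫ k) ≫ prW pz b) (hh ▸ T.downward_closed hk g) hw hh.symm
      rw [← h5, ← Category.assoc, ← Category.assoc, ← Functor.map_comp, ← Functor.map_comp, self_comp g k hw]
  refine ⟨s, hom_ext_of_covering _ _ ((J S).pullback_stable (prW pz b) hT) fun V k hk => ?_, fun V k hk => ?_⟩
  · rw [reassoc_of% (hs k hk)]
    show (yon S).map _ ≫ sk _ hk ≫ π = _
    rw [hπ, ← Functor.map_comp, ← Functor.map_comp, self, pbLift_snd]
  · have hk2 : T (pbMap pz k (b := b) rfl ≫ prW pz b) := by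
      rw [pbMap_fst]
      exact T.downward_closed hk _
    have hw : prW pz (k ≫ b) ≫ k ≫ b = (pbMap pz k rfl ≫ prW pz b) ≫ b := by rw [pbMap_fst, Category.assoc]
    rw [hs (pbMap pz k rfl) hk2]
    show (yon S).map _ ≫ sk _ hk2 = sk k hk
    rw [← hcompat (prW pz (k ≫ b)) k hk _ hk2 hw (pbMap_fst pz k rfl).symm, ← Category.assoc, ← Functor.map_comp,
      show self (pbMap pz k (b := b) rfl) rfl ≫ pbMap pz (prW pz (k ≫ b)) hw = 𝟙 _ from pb_hom_ext pz
        ((Category.assoc _ _ _).trans (((congrArg (fun r => self (pbMap pz k (b := b) rfl) rfl ≫ r) (pbMap_fst _ _ _))).trans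
          ((pbLift_fst_assoc _ _ _ _ _).trans rfl)))
        ((Category.assoc _ _ _).trans (((congrArg (fun r => self (pbMap pz k (b := b) rfl) rfl ≫ r) (pbMap_snd _ _ _))).trans
          ((pbLift_snd _ _ _ _).trans ((pbMap_snd _ _ _).trans (Category.id_comp _).symm)))),
      CategoryTheory.Functor.map_id, Category.id_comp]

theorem exists_amalg {W : Over S} {T : Sieve W} (hT : T ∈ J S W) (fam : ∀ ⦃V : Over S⦄ (k : V ⟶ W), T k → Sec pz π V)
    (hres : ∀ ⦃V' V : Over S⦄ (g : V' ⟶ V) (k : V ⟶ W) (hk : T k),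
      fam (g ≫ k) (T.downward_closed hk g) = (fam k hk).res g) :
    ∃ x : Sec pz π W, ∀ ⦃V : Over S⦄ (k : V ⟶ W) (hk : T k), x.res k = fam k hk := by
  obtain ⟨b', hb', -⟩ := SheafGlue.existsUnique_glue hT (Z := (yon S).obj B)
    (fun V k hk => (yon S).map (fam k hk).b) fun V' V g k hk => by
      rw [hres g k hk, ← Functor.map_comp]; rfl
  obtain ⟨b, rfl⟩ := (yon S).map_surjective b'
  have hb : ∀ ⦃V : Over S⦄ (k : V ⟶ W) (hk : T k), k ≫ b = (fam k hk).b := fun V k hk =>
    (yon S).map_injective (by rw [Functor.map_comp]; exact hb' k hk)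
  have hid : ∀ ⦃V : Over S⦄ (k : V ⟶ W) (hk : T k), 𝟙 V ≫ (fam k hk).b = k ≫ b := fun V k hk => by
    rw [Category.id_comp, hb k hk]
  obtain ⟨s, hw, hs⟩ := exists_glue_s hT b (fun V k hk => (yon S).map (pbMap pz (𝟙 V) (hid k hk)) ≫ (fam k hk).s)
    (fun V k hk => by rw [Category.assoc, (fam k hk).w, ← Functor.map_comp, pbMap_snd])
    (fun V' V g k hk h hh w e => by
      subst e
      have hb' : g ≫ (fam k hk).b = (fam (g ≫ k) hh).b := by rw [← hb k hk, ← hb (g ≫ k) hh, Category.assoc]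
      rw [← Sec.res_s (hres g k hk).symm hb', ← Category.assoc, ← Category.assoc, ← Functor.map_comp,
        ← Functor.map_comp, pbMap_comp, pbMap_comp]
      refine congrArg (fun r => r ≫ (fam k hk).s) (congrArg ((yon S).map) (pb_hom_ext pz ?_ ?_))
      · rw [pbMap_fst, pbMap_fst, Category.comp_id, Category.id_comp]
      · rw [pbMap_snd, pbMap_snd])
  exact ⟨⟨b, s, hw⟩, fun V k hk => Sec.ext' (hb k hk) (hs k hk).symm⟩

variable (pz π)

theorem isSheaf_presheaf : Presheaf.IsSheaf (J S) (presheaf pz π) := by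
  rw [isSheaf_iff_isSheaf_of_type]
  intro W T hT
  rw [← Presieve.isSeparatedFor_and_exists_isAmalgamation_iff_isSheafFor]
  refine ⟨fun fam x y hx hy => sec_ext_covering hT x y fun V f hf => (hx f hf).trans (hy f hf).symm,
    fun fam hfam => ?_⟩
  exact exists_amalg hT fam fun V' V g k hk => (Presieve.compatible_iff_sieveCompatible fam).1 hfam k g hk

/-- The sheaf of sections. -/
noncomputable def sheaf : Sp S := ⟨presheaf pz π, isSheaf_presheaf pz π⟩

/-- Sections are points of the sheaf. -/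
noncomputable def pt {W : Over S} : Sec pz π W ≃ ((yon S).obj W ⟶ sheaf pz π) :=
  ((J S).uliftYonedaEquiv (X := W) (F := sheaf pz π)).symm

theorem map_pt {W W' : Over S} (g : W' ⟶ W) (x : Sec pz π W) : (yon S).map g ≫ pt pz π x = pt pz π (x.res g) :=
  GrothendieckTopology.uliftYonedaEquiv_symm_naturality_left ..

theorem pt_symm_map {W W' : Over S} (g : W' ⟶ W) (p : (yon S).obj W ⟶ sheaf pz π) :
    (pt pz π).symm ((yon S).map g ≫ p) = ((pt pz π).symm p).res g := by
  obtain ⟨x, rfl⟩ := (pt pz π).surjective p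
  rw [map_pt, Equiv.symm_apply_apply, Equiv.symm_apply_apply]

/-- The projection to the base. -/
noncomputable def proj : sheaf pz π ⟶ (yon S).obj B :=
  SheafGlue.homOfPoints (fun _ p => (yon S).map ((pt pz π).symm p).b) fun V W k p => by
    rw [pt_symm_map, ← Functor.map_comp]; rfl

theorem pt_proj {W : Over S} (x : Sec pz π W) : pt pz π x ≫ proj pz π = (yon S).map x.b := by
  rw [proj, SheafGlue.comp_homOfPoints, Equiv.symm_apply_apply]

section Map

variable {pz π} {F' : Sp S} {π' : F' ⟶ (yon S).obj Z} (h : F ⟶ F') (hh : h ≫ π' = π)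

/-- The map on sections induced by a map over the source. -/
noncomputable def Sec.push {W : Over S} (x : Sec pz π W) : Sec pz π' W where
  b := x.b
  s := x.s ≫ h
  w := by rw [Category.assoc, hh, x.w]

theorem Sec.push_res {W W' : Over S} (g : W' ⟶ W) (x : Sec pz π W) : (x.res g).push h hh = (x.push h hh).res g := by
  refine Sec.ext' rfl ?_
  show (yon S).map _ ≫ (yon S).map _ ≫ x.s ≫ h = ((yon S).map _ ≫ x.s) ≫ h
  rw [← Functor.map_comp_assoc, pbMap_comp]
  exact (congrArg (fun r => (yon S).map r ≫ x.s ≫ h)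
    (pb_hom_ext pz ((pbMap_fst _ _ _).trans ((congrArg (_ ≫ ·) (Category.id_comp g)).trans (pbMap_fst _ _ _).symm))
      ((pbMap_snd _ _ _).trans (pbMap_snd _ _ _).symm))).trans (Category.assoc _ _ _).symm

/-- The map of sheaves of sections. -/
noncomputable def map : sheaf pz π ⟶ sheaf pz π' :=
  SheafGlue.homOfPoints (fun _ p => pt pz π' (((pt pz π).symm p).push h hh)) fun V W k p => by
    rw [pt_symm_map, Sec.push_res, map_pt]

theorem pt_map {W : Over S} (x : Sec pz π W) : pt pz π x ≫ map h hh = pt pz π' (x.push h hh) := by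
  rw [map, SheafGlue.comp_homOfPoints, Equiv.symm_apply_apply]

theorem map_proj : map (pz := pz) h hh ≫ proj pz π' = proj pz π := SheafGlue.hom_ext_points fun W p => by
  obtain ⟨x, rfl⟩ := (pt pz π).surjective p
  rw [← Category.assoc, pt_map, pt_proj, pt_proj]
  rfl

end Map

end Groth.Agent.FCov14.Pushf
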