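import Groth.Agent.FCov14.IsomPts
import Groth.Agent.FCov14.Pushf

/-! Descent of objects of a stack along a covering morphism. -/

set_option autoImplicit false
set_option backward.isDefEq.respectTransparency false
set_option backward.isDefEq.respectTransparency.types false

universe u

open CategoryTheory CategoryTheory.Limits Opposite AlgebraicGeometry AlgSp
open Groth.Agent.AlgSpLib Groth.Agent.AlgStLib Groth.Agent.FibBase

namespace Groth.Agent.FCov14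

variable {S : Scheme.{u}} {𝒳 : BasedCategory.{u + 1, u + 2} (Over S)} {U A B Z : Over S}
  (hX : FibCat.IsFibGrpd 𝒳.p) (f : FibCat.overCat U ⥤ᵇ 𝒳) (pz : Z ⟶ B) (b : A ⟶ B)

/-- Descent data for values of a functor out of a slice along a base change. -/
structure Datum : Type (u + 1) where
  θ : ∀ ⦃V : Over S⦄ (w : V ⟶ A) (z₁ z₂ : V ⟶ Z), w ≫ b = z₁ ≫ pz → w ≫ b = z₂ ≫ pz → Arr f f V
  nat : ∀ ⦃V' V : Over S⦄ (g : V' ⟶ V) (w : V ⟶ A) (z₁ z₂ : V ⟶ Z) (e₁ : w ≫ b = z₁ ≫ pz) (e₂ : w ≫ b = z₂ ≫ pz)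
    (e₁' : (g ≫ w) ≫ b = (g ≫ z₁) ≫ pz) (e₂' : (g ≫ w) ≫ b = (g ≫ z₂) ≫ pz),
    θ (g ≫ w) (g ≫ z₁) (g ≫ z₂) e₁' e₂' = Arr.res hX g (θ w z₁ z₂ e₁ e₂)
  cocycle : ∀ ⦃V : Over S⦄ (w : V ⟶ A) (z₁ z₂ z₃ : V ⟶ Z) (e₁ : w ≫ b = z₁ ≫ pz) (e₂ : w ≫ b = z₂ ≫ pz)
    (e₃ : w ≫ b = z₃ ≫ pz), ∃ h : (θ w z₁ z₂ e₁ e₂).u₂ = (θ w z₂ z₃ e₂ e₃).u₁,
      Arr.comp (θ w z₁ z₂ e₁ e₂) (θ w z₂ z₃ e₂ e₃) h = θ w z₁ z₃ e₁ e₃

variable {hX f pz b} (D : Datum hX f pz b)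

/-- The common endpoint of the arrows of a datum. -/
def Datum.uA {V : Over S} (w : V ⟶ A) (z : V ⟶ Z) (e : w ≫ b = z ≫ pz) : V ⟶ U := (D.θ w z z e e).u₁

theorem Datum.θ_u₁ {V : Over S} (w : V ⟶ A) (z₁ z₂ : V ⟶ Z) (e₁ : w ≫ b = z₁ ≫ pz) (e₂ : w ≫ b = z₂ ≫ pz) :
    (D.θ w z₁ z₂ e₁ e₂).u₁ = D.uA w z₁ e₁ := by
  obtain ⟨h, hc⟩ := D.cocycle w z₁ z₁ z₂ e₁ e₁ e₂
  exact (congrArg Arr.u₁ hc).symm

theorem Datum.θ_u₂ {V : Over S} (w : V ⟶ A) (z₁ z₂ : V ⟶ Z) (e₁ : w ≫ b = z₁ ≫ pz) (e₂ : w ≫ b = z₂ ≫ pz) :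
    (D.θ w z₁ z₂ e₁ e₂).u₂ = D.uA w z₂ e₂ := by
  obtain ⟨h, hc⟩ := D.cocycle w z₁ z₂ z₂ e₁ e₂ e₂
  exact h

theorem Datum.θ_self {V : Over S} (w : V ⟶ A) (z : V ⟶ Z) (e : w ≫ b = z ≫ pz) :
    D.θ w z z e e = Arr.idA f (D.uA w z e) := by
  obtain ⟨h, hc⟩ := D.cocycle w z z z e e e
  set a := D.θ w z z e e with ha
  calc a = Arr.comp (Arr.idA f a.u₁) a rfl := (Arr.id_comp' a a.u₁ rfl).symm
    _ = Arr.comp (Arr.idA f a.u₂) a (D.θ_u₂ w z z e e) := by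
        congr 2
        exact ((D.θ_u₂ w z z e e).trans (D.θ_u₁ w z z e e).symm).symm
    _ = Arr.comp (Arr.comp (Arr.inv hX a) a rfl) a h := by
        congr 1
        exact (Arr.inv_comp hX a).symm
    _ = Arr.comp (Arr.inv hX a) (Arr.comp a a h) rfl := Arr.comp_assoc _ _ _ _ _
    _ = Arr.comp (Arr.inv hX a) a rfl := by congr 1
    _ = Arr.idA f a.u₂ := Arr.inv_comp hX a
    _ = _ := congrArg (Arr.idA f) (D.θ_u₂ w z z e e)

theorem Datum.uA_nat {V' V : Over S} (g : V' ⟶ V) (w : V ⟶ A) (z : V ⟶ Z) (e : w ≫ b = z ≫ pz)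
    (e' : (g ≫ w) ≫ b = (g ≫ z) ≫ pz) : D.uA (g ≫ w) (g ≫ z) e' = g ≫ D.uA w z e :=
  (congrArg Arr.u₁ (D.nat g w z z e e e' e')).trans (Arr.res_u₁ hX g _)

variable (pz b) in
/-- The sieve of maps lifting to the covering. -/
def liftSieve : Sieve A where
  arrows V w := ∃ z : V ⟶ Z, w ≫ b = z ≫ pz
  downward_closed := by
    rintro V V' w ⟨z, hz⟩ g
    exact ⟨g ≫ z, by rw [Category.assoc, hz, Category.assoc]⟩

variable (c : (Stk.sieveCat (liftSieve pz b)).obj)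

/-- A lift of an object of the sieve. -/
noncomputable def chosen : c.obj.left ⟶ Z := c.property.choose

theorem chosen_spec : c.obj.hom ≫ b = chosen c ≫ pz := c.property.choose_spec

/-- The object of the descent functor. -/
noncomputable def Datum.objU : c.obj.left ⟶ U := D.uA c.obj.hom (chosen c) (chosen_spec c)

variable {c} {c' : (Stk.sieveCat (liftSieve pz b)).obj} (g : c' ⟶ c)

theorem lift_eq : c'.obj.hom ≫ b = (g.hom.left ≫ chosen c) ≫ pz := by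
  rw [← Over.w g.hom, Category.assoc, Category.assoc, ← chosen_spec c]

/-- The transition arrow of a morphism of the sieve. -/
noncomputable def Datum.trans : Arr f f c'.obj.left :=
  D.θ c'.obj.hom (chosen c') (g.hom.left ≫ chosen c) (chosen_spec c') (lift_eq g)

theorem Datum.trans_u₁ : (D.trans g).u₁ = D.objU c' := D.θ_u₁ ..

theorem Datum.trans_u₂ : (D.trans g).u₂ = g.hom.left ≫ D.objU c := by
  rw [Datum.trans, D.θ_u₂]
  have e := D.uA_nat g.hom.left c.obj.hom (chosen c) (chosen_spec c)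
    (by rw [Category.assoc, chosen_spec c, Category.assoc])
  refine Eq.trans ?_ e
  congr 1
  exact (Over.w g.hom).symm

/-- The map of the descent functor. -/
noncomputable def Datum.mapM : f.obj (Over.mk (D.objU c')) ⟶ f.obj (Over.mk (D.objU c)) :=
  castM f (D.trans_u₁ g).symm ≫ (D.trans g).m ≫
    f.map (Over.homMk g.hom.left (D.trans_u₂ g).symm : Over.mk (D.trans g).u₂ ⟶ Over.mk (D.objU c))

theorem Datum.mapM_lift : 𝒳.p.IsHomLift g.hom.left (D.mapM g) := by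
  have := (D.trans g).lift
  have : 𝒳.p.IsHomLift g.hom.left
      (f.map (Over.homMk g.hom.left (D.trans_u₂ g).symm : Over.mk (D.trans g).u₂ ⟶ Over.mk (D.objU c))) :=
    let k : (Over.mk (D.trans g).u₂ : Over U) ⟶ Over.mk (D.objU c) := Over.homMk g.hom.left (D.trans_u₂ g).symm
    Groth.Agent.FCov14.isHomLift_map f k
  rw [Datum.mapM]
  infer_instance

theorem Datum.mapM_id : D.mapM (𝟙 c) = 𝟙 _ := by
  have h : D.trans (𝟙 c) = Arr.idA f (D.objU c) := by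
    refine Eq.trans ?_ (D.θ_self c.obj.hom (chosen c) (chosen_spec c))
    rw [Datum.trans]
    congr 1
  have key : ∀ (a : Arr f f c.obj.left) (ha : a = Arr.idA f (D.objU c)) (p : D.objU c = a.u₁)
      (q : 𝟙 c.obj.left ≫ D.objU c = a.u₂),
      castM f p ≫ a.m ≫ f.map (Over.homMk (𝟙 c.obj.left) q : Over.mk a.u₂ ⟶ Over.mk (D.objU c)) = 𝟙 _ := by
    rintro a rfl p q
    show castM f p ≫ 𝟙 _ ≫ castM f (q.symm.trans (Category.id_comp _)) = 𝟙 _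
    rw [Category.id_comp, castM_trans, castM_rfl]
  exact key _ h _ _

theorem Datum.mapM_comp {c'' : (Stk.sieveCat (liftSieve pz b)).obj} (g' : c'' ⟶ c') :
    D.mapM (g' ≫ g) = D.mapM g' ≫ D.mapM g := by
  have hr : Arr.res hX g'.hom.left (D.trans g) =
      D.θ c''.obj.hom (g'.hom.left ≫ chosen c') (g'.hom.left ≫ g.hom.left ≫ chosen c)
        (lift_eq g') (by rw [← Category.assoc g'.hom.left]; exact lift_eq (g' ≫ g)) := by
    rw [Datum.trans, ← D.nat g'.hom.left c'.obj.hom _ _ _ _ (by rw [Category.assoc, chosen_spec c', Category.assoc])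
      (by simp only [Category.assoc, lift_eq g])]
    congr 1
    exact Over.w g'.hom
  obtain ⟨h, hc⟩ := D.cocycle c''.obj.hom (chosen c'') (g'.hom.left ≫ chosen c') (g'.hom.left ≫ g.hom.left ≫ chosen c)
    (chosen_spec c'') (lift_eq g') (by rw [← Category.assoc g'.hom.left]; exact lift_eq (g' ≫ g))
  have htr : D.trans (g' ≫ g) = Arr.comp (D.trans g') (Arr.res hX g'.hom.left (D.trans g))
      ((D.trans_u₂ g').trans (((congrArg (g'.hom.left ≫ ·) (D.trans_u₁ g)).symm).trans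
        (Arr.res_u₁ hX g'.hom.left (D.trans g)).symm)) := by
    refine Eq.trans ?_ (hc.symm.trans ?_)
    · rw [Datum.trans]
      congr 1
    · congr 1
      exact hr.symm
  have key : ∀ (a : Arr f f c''.obj.left) (r : Arr f f c''.obj.left) (t : Arr f f c''.obj.left)
      (hcp : a.u₂ = r.u₁) (_ : t = Arr.comp a r hcp) (hr : Arr.IsRes g'.hom.left r (D.trans g))
      (p : D.objU c'' = t.u₁) (p' : D.objU c'' = a.u₁) (q : (g' ≫ g).hom.left ≫ D.objU c = t.u₂)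
      (q' : g'.hom.left ≫ D.objU c' = a.u₂),
      castM f p ≫ t.m ≫ f.map (Over.homMk (g' ≫ g).hom.left q : Over.mk t.u₂ ⟶ Over.mk (D.objU c)) =
        (castM f p' ≫ a.m ≫ f.map (Over.homMk g'.hom.left q' : Over.mk a.u₂ ⟶ Over.mk (D.objU c'))) ≫ D.mapM g := by
    intro a r t hcp ht hr p p' q q'
    subst ht
    have e1 : f.map (Over.homMk g'.hom.left q' : Over.mk a.u₂ ⟶ Over.mk (D.objU c')) ≫ castM f (D.trans_u₁ g).symm =
        castM f hcp ≫ f.map (Over.homMk g'.hom.left hr.h₁.symm : Over.mk r.u₁ ⟶ Over.mk (D.trans g).u₁) := by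
      simp only [castM, ← f.toFunctor.map_comp]
      exact congrArg f.map (Over.OverMorphism.ext ((Category.comp_id _).trans (Category.id_comp _).symm))
    show castM f p ≫ (a.m ≫ castM f hcp ≫ r.m) ≫ _ = _
    rw [Datum.mapM]
    simp only [Category.assoc]
    rw [reassoc_of% e1, ← reassoc_of% hr.w, ← f.toFunctor.map_comp]
    rfl
  exact key _ _ _ _ htr (Arr.isRes_res hX _ _) _ _ _ _

/-- The descent functor out of the sieve. -/
noncomputable def Datum.descFun : Stk.sieveCat (liftSieve pz b) ⥤ᵇ 𝒳 where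
  toFunctor :=
    { obj := fun c => f.obj (Over.mk (D.objU c))
      map := fun g => D.mapM g
      map_id := fun c => D.mapM_id
      map_comp := fun g' g => D.mapM_comp g g' }
  w := CategoryTheory.Functor.ext (fun c => f.w_obj (Over.mk (D.objU c))) fun c' c g => by
    have := D.mapM_lift g
    exact IsHomLift.fac' 𝒳.p g.hom.left (D.mapM g)

theorem Datum.exists_object (hst : Stk.IsStack (J S) 𝒳) (hcov : liftSieve pz b ∈ J S A) :
    ∃ (x : FibCat.overCat A ⥤ᵇ 𝒳) (α : ∀ ⦃V : Over S⦄ (w : V ⟶ A) (z : V ⟶ Z), w ≫ b = z ≫ pz → Arr x f V),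
      (∀ ⦃V : Over S⦄ (w : V ⟶ A) (z : V ⟶ Z) (e : w ≫ b = z ≫ pz), (α w z e).u₁ = w ∧ (α w z e).u₂ = D.uA w z e) ∧
      (∀ ⦃V' V : Over S⦄ (g : V' ⟶ V) (w : V ⟶ A) (z : V ⟶ Z) (e : w ≫ b = z ≫ pz)
        (e' : (g ≫ w) ≫ b = (g ≫ z) ≫ pz), α (g ≫ w) (g ≫ z) e' = Arr.res hX g (α w z e)) ∧
      ∀ ⦃V : Over S⦄ (w : V ⟶ A) (z₁ z₂ : V ⟶ Z) (e₁ : w ≫ b = z₁ ≫ pz) (e₂ : w ≫ b = z₂ ≫ pz),
        ∃ h : (α w z₁ e₁).u₂ = (D.θ w z₁ z₂ e₁ e₂).u₁, Arr.comp (α w z₁ e₁) (D.θ w z₁ z₂ e₁ e₂) h = α w z₂ e₂ := by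
  have : (Stk.resSieve (liftSieve pz b) 𝒳).IsEquivalence := hst.2 _ hcov
  let x := (Stk.resSieve (liftSieve pz b) 𝒳).objPreimage D.descFun
  let γ := (Stk.resSieve (liftSieve pz b) 𝒳).objObjPreimageIso D.descFun
  let β : ∀ c : (Stk.sieveCat (liftSieve pz b)).obj, Arr x f c.obj.left := fun c =>
    ⟨c.obj.hom, D.objU c, γ.hom.toNatTrans.app c, BasedNatTrans.isHomLift γ.hom rfl⟩
  have hβ : ∀ {c' c : (Stk.sieveCat (liftSieve pz b)).obj} (g : c' ⟶ c),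
      Arr.IsRes g.hom.left (Arr.comp (β c') (D.trans g) (D.trans_u₁ g).symm) (β c) := fun {c' c} g => by
    refine ⟨(Over.w g.hom).symm, D.trans_u₂ g, ?_⟩
    show (γ.hom.toNatTrans.app c' ≫ castM f _ ≫ (D.trans g).m) ≫ _ = _
    have hn := γ.hom.toNatTrans.naturality g
    refine Eq.trans ?_ (hn.symm.trans ?_)
    · simp only [Category.assoc]
      rfl
    · exact congrArg (fun k => x.map k ≫ γ.hom.toNatTrans.app c) (Over.OverMorphism.ext rfl)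
  let mem : ∀ {V : Over S} (w : V ⟶ A) (z : V ⟶ Z) (_ : w ≫ b = z ≫ pz), (Stk.sieveCat (liftSieve pz b)).obj :=
    fun w z e => ⟨Over.mk w, z, e⟩
  let α : ∀ ⦃V : Over S⦄ (w : V ⟶ A) (z : V ⟶ Z), w ≫ b = z ≫ pz → Arr x f V := fun V w z e =>
    Arr.comp (β (mem w z e)) (D.θ w (chosen (mem w z e)) z (chosen_spec (mem w z e)) e) (D.θ_u₁ ..).symm
  have hα : ∀ ⦃V : Over S⦄ (w : V ⟶ A) (z₁ z₂ : V ⟶ Z) (e₁ : w ≫ b = z₁ ≫ pz) (e₂ : w ≫ b = z₂ ≫ pz),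
      ∃ h : (α w z₁ e₁).u₂ = (D.θ w z₁ z₂ e₁ e₂).u₁, Arr.comp (α w z₁ e₁) (D.θ w z₁ z₂ e₁ e₂) h = α w z₂ e₂ := by
    intro V w z₁ z₂ e₁ e₂
    refine ⟨(D.θ_u₂ ..).trans (D.θ_u₁ ..).symm, ?_⟩
    obtain ⟨h, hc⟩ := D.cocycle w (chosen (mem w z₁ e₁)) z₁ z₂ (chosen_spec (mem w z₁ e₁)) e₁ e₂
    show Arr.comp (Arr.comp _ _ _) _ _ = Arr.comp _ _ _
    rw [Arr.comp_assoc]
    congr 1
  refine ⟨x, α, fun V w z e => ⟨rfl, D.θ_u₂ ..⟩, fun V' V g w z e e' => ?_, hα⟩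
  let c := mem w z e
  let c' := mem (g ≫ w) (g ≫ z) e'
  let gg : c' ⟶ c := ObjectProperty.homMk (Over.homMk g rfl)
  obtain ⟨h, hc⟩ := D.cocycle (g ≫ w) (chosen c') (g ≫ chosen c) (g ≫ z) (chosen_spec c') (lift_eq gg) e'
  have e1 : Arr.res hX g (β c) = Arr.comp (β c') (D.trans gg) (D.trans_u₁ gg).symm := Arr.res_eq hX (hβ gg)
  symm
  calc Arr.res hX g (α w z e)
      = Arr.comp (Arr.res hX g (β c)) (Arr.res hX g (D.θ w (chosen c) z (chosen_spec c) e))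
          (by rw [Arr.res_u₂, Arr.res_u₁, D.θ_u₁]; rfl) := Arr.res_comp hX g _ _ _
    _ = Arr.comp (Arr.comp (β c') (D.trans gg) (D.trans_u₁ gg).symm)
          (D.θ (g ≫ w) (g ≫ chosen c) (g ≫ z) (lift_eq gg) e') (by rw [Arr.comp_u₂]; exact h) := by
        congr 1
        exact (D.nat g w (chosen c) z _ e (lift_eq gg) e').symm
    _ = Arr.comp (β c') (Arr.comp (D.trans gg) (D.θ (g ≫ w) (g ≫ chosen c) (g ≫ z) (lift_eq gg) e') h)
          (D.trans_u₁ gg).symm := Arr.comp_assoc _ _ _ _ _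
    _ = α (g ≫ w) (g ≫ z) e' := by congr 1

end Groth.Agent.FCov14
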