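import Groth.Agent.FCov14.Ev
import Groth.Agent.FCov14.Descend

/-! The space of descent data along a finite flat cover, and the comparison with framed sections. -/

set_option autoImplicit false
set_option backward.isDefEq.respectTransparency false
set_option backward.isDefEq.respectTransparency.types false

universe u

open CategoryTheory CategoryTheory.Limits Opposite AlgebraicGeometry AlgSp
open Groth.Agent.AlgSpLib Groth.Agent.AlgStLib

namespace Groth.Agent.FCov14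

variable {S : Scheme.{u}}

theorem hom_ext_base {F : Sp S} (a b : F ⟶ (yon S).obj (Over.mk (𝟙 S))) : a = b :=
  SheafGlue.hom_ext_points fun W p => by
    obtain ⟨x, hx⟩ := (yon S).map_surjective (p ≫ a)
    obtain ⟨y, hy⟩ := (yon S).map_surjective (p ≫ b)
    rw [← hx, ← hy, show x = y from Over.mkIdTerminal.hom_ext x y]

/-- Products of algebraic spaces are algebraic spaces. -/
theorem isAlgSpace_prod {F G : Sp S} (hF : IsAlgSpace F) (hG : IsAlgSpace G) : IsAlgSpace (F ⨯ G) := by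
  let t : ∀ H : Sp S, H ⟶ (yon S).obj (Over.mk (𝟙 S)) := fun H => SheafGlue.homOfPoints
    (fun W _ => (yon S).map (Over.mkIdTerminal.from W)) fun V W k _ => by
      rw [← Functor.map_comp]; exact congrArg _ (Over.mkIdTerminal.hom_ext _ _)
  refine (isAlgSpace_pullback hF hG (IsAlgSpace.yon_obj _) (t F) (t G)).of_iso
    { hom := prod.lift (pullback.fst _ _) (pullback.snd _ _)
      inv := pullback.lift prod.fst prod.snd (hom_ext_base _ _)
      hom_inv_id := pullback.hom_ext (by simp) (by simp)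
      inv_hom_id := Limits.prod.hom_ext (by simp) (by simp) }

open Pushf

namespace Chart

variable {𝒳 : BasedCategory.{u + 1, u + 2} (Over S)} {U : Over S}
  (hX : Stk.IsPrestack (J S) 𝒳) (f : FibCat.overCat U ⥤ᵇ 𝒳)
  {B Z : Over S} (pz : Z ⟶ B)

/-- The base change of the cover along itself. -/
noncomputable abbrev Z₂ : Over S := pb pz pz

/-- The map from the double cover. -/
noncomputable abbrev pz₂ : Z₂ pz ⟶ B := prW pz pz ≫ pz

/-- The triple cover. -/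
noncomputable abbrev Z₃ : Over S := pb pz (pz₂ pz)

/-- The map from the triple cover. -/
noncomputable abbrev pz₃ : Z₃ pz ⟶ B := prW pz (pz₂ pz) ≫ pz₂ pz

/-- The sheaf of isomorphisms of the functor with itself. -/
noncomputable abbrev R : Sp S := isomP hX f f

/-- Composable pairs. -/
noncomputable abbrev C₂ : Sp S := pullback (isomP₂ hX f f) (isomP₁ hX f f)

variable {f}

theorem composable {W : Over S} (p : (yon S).obj W ⟶ C₂ hX f) :
    ((arrPt hX).symm (p ≫ pullback.fst _ _)).u₂ = ((arrPt hX).symm (p ≫ pullback.snd _ _)).u₁ :=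
  (yon S).map_injective (by
    rw [← arrPt_snd hX, ← arrPt_fst hX, Equiv.apply_symm_apply, Equiv.apply_symm_apply, Category.assoc,
      Category.assoc, pullback.condition])

variable (f)

/-- Composition. -/
noncomputable def compR : C₂ hX f ⟶ R hX f :=
  SheafGlue.homOfPoints (fun _ p => arrPt hX (Arr.comp _ _ (composable hX p))) fun V W k p => by
    rw [map_arrPt, Arr.res_comp]
    congr 2 <;> apply (arrPt hX).injective <;>
      rw [← map_arrPt, Equiv.apply_symm_apply, Equiv.apply_symm_apply, Category.assoc]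

/-- The graph of composition. -/
noncomputable def graph : C₂ hX f ⟶ R hX f ⨯ (R hX f ⨯ R hX f) :=
  prod.lift (pullback.fst _ _) (prod.lift (pullback.snd _ _) (compR hX f))

theorem graph_cancel {W : Over S} {p q : (yon S).obj W ⟶ C₂ hX f} (h : p ≫ graph hX f = q ≫ graph hX f) : p = q := by
  refine pullback.hom_ext ?_ ?_
  · simpa [graph] using congrArg (· ≫ prod.fst) h
  · simpa [graph] using congrArg (fun r => r ≫ prod.snd ≫ prod.fst) h

variable {pz} {f}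

/-- A point of the double cover. -/
noncomputable def pair {V : Over S} (z₁ z₂ : V ⟶ Z) (e : z₁ ≫ pz = z₂ ≫ pz) : V ⟶ Z₂ pz := pbLift pz z₁ z₂ e

theorem pair_p₁ {V : Over S} (z₁ z₂ : V ⟶ Z) (e : z₁ ≫ pz = z₂ ≫ pz) : pair z₁ z₂ e ≫ prW pz pz = z₁ :=
  pbLift_fst _ _ _ _

theorem pair_p₂ {V : Over S} (z₁ z₂ : V ⟶ Z) (e : z₁ ≫ pz = z₂ ≫ pz) : pair z₁ z₂ e ≫ prZ pz pz = z₂ :=
  pbLift_snd _ _ _ _

theorem comp_pair {V V' : Over S} (g : V' ⟶ V) (z₁ z₂ : V ⟶ Z) (e : z₁ ≫ pz = z₂ ≫ pz)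
    (e' : (g ≫ z₁) ≫ pz = (g ≫ z₂) ≫ pz) : g ≫ pair z₁ z₂ e = pair (g ≫ z₁) (g ≫ z₂) e' :=
  pb_hom_ext pz (by rw [Category.assoc, pair_p₁, pair_p₁]) (by rw [Category.assoc, pair_p₂, pair_p₂])

theorem pair_base {W V : Over S} {b : W ⟶ B} {w : V ⟶ W} {z₁ z₂ : V ⟶ Z} (e₁ : w ≫ b = z₁ ≫ pz)
    (e : z₁ ≫ pz = z₂ ≫ pz) : w ≫ b = pair z₁ z₂ e ≫ pz₂ pz := by
  rw [e₁, pz₂, ← Category.assoc, pair_p₁]

/-- The first component of a point of the triple cover. -/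
noncomputable abbrev t₁ {V : Over S} (z : V ⟶ Z₃ pz) : V ⟶ Z := z ≫ prW pz (pz₂ pz) ≫ prW pz pz

/-- The second component of a point of the triple cover. -/
noncomputable abbrev t₂ {V : Over S} (z : V ⟶ Z₃ pz) : V ⟶ Z := z ≫ prW pz (pz₂ pz) ≫ prZ pz pz

/-- The third component of a point of the triple cover. -/
noncomputable abbrev t₃ {V : Over S} (z : V ⟶ Z₃ pz) : V ⟶ Z := z ≫ prZ pz (pz₂ pz)

theorem t₁_base {V : Over S} (z : V ⟶ Z₃ pz) : t₁ z ≫ pz = z ≫ pz₃ pz := by simp [pz₃, pz₂]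

theorem t₂_base {V : Over S} (z : V ⟶ Z₃ pz) : t₂ z ≫ pz = z ≫ pz₃ pz := by
  simp [pz₃, pz₂, pb_condition]

theorem t₃_base {V : Over S} (z : V ⟶ Z₃ pz) : t₃ z ≫ pz = z ≫ pz₃ pz := by
  simp only [t₃, pz₃, Category.assoc, ← pb_condition]

/-- The values of a double section on pairs. -/
noncomputable def val₂ {W : Over S} (x : CSec (pz₂ pz) (R hX f) W) {V : Over S} (w : V ⟶ W) (z₁ z₂ : V ⟶ Z)
    (e₁ : w ≫ x.b = z₁ ≫ pz) (e₂ : w ≫ x.b = z₂ ≫ pz) : Arr f f V :=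
  (arrPt hX).symm (CSec.val x w (pair z₁ z₂ (e₁.symm.trans e₂)) (pair_base e₁ _))

theorem val₂_nat {W : Over S} (x : CSec (pz₂ pz) (R hX f) W) {V V' : Over S} (g : V' ⟶ V) (w : V ⟶ W)
    (z₁ z₂ : V ⟶ Z) (e₁ : w ≫ x.b = z₁ ≫ pz) (e₂ : w ≫ x.b = z₂ ≫ pz) (e₁' : (g ≫ w) ≫ x.b = (g ≫ z₁) ≫ pz)
    (e₂' : (g ≫ w) ≫ x.b = (g ≫ z₂) ≫ pz) :
    val₂ hX x (g ≫ w) (g ≫ z₁) (g ≫ z₂) e₁' e₂' = Arr.res hX.1 g (val₂ hX x w z₁ z₂ e₁ e₂) := by
  apply (arrPt hX).injective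
  rw [← map_arrPt, val₂, val₂, Equiv.apply_symm_apply, Equiv.apply_symm_apply,
    CSec.val_comp x g w _ (pair_base e₁ _) (by
      rw [comp_pair g z₁ z₂ _ (e₁'.symm.trans e₂')]; exact pair_base e₁' _)]
  congr 1
  exact (comp_pair g z₁ z₂ _ _).symm

theorem val₂_res {W W' : Over S} (x : CSec (pz₂ pz) (R hX f) W) (k : W' ⟶ W) {V : Over S} (w : V ⟶ W')
    (z₁ z₂ : V ⟶ Z) (e₁ : w ≫ (x.res k).b = z₁ ≫ pz) (e₂ : w ≫ (x.res k).b = z₂ ≫ pz)
    (e₁' : (w ≫ k) ≫ x.b = z₁ ≫ pz) (e₂' : (w ≫ k) ≫ x.b = z₂ ≫ pz) :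
    val₂ hX (x.res k) w z₁ z₂ e₁ e₂ = val₂ hX x (w ≫ k) z₁ z₂ e₁' e₂' := by
  rw [val₂, val₂, CSec.val_res x k w _ _ (pair_base e₁' _)]

/-- The values on the triples. -/
noncomputable def tri {W : Over S} (x : CSec (pz₂ pz) (R hX f) W) : CSec (pz₃ pz) (R hX f ⨯ (R hX f ⨯ R hX f)) W :=
  mkCSec x.b fun V w z e => prod.lift
    (arrPt hX (val₂ hX x w (t₁ z) (t₂ z) (e.trans (t₁_base z).symm) (e.trans (t₂_base z).symm)))
    (prod.lift (arrPt hX (val₂ hX x w (t₂ z) (t₃ z) (e.trans (t₂_base z).symm) (e.trans (t₃_base z).symm)))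
      (arrPt hX (val₂ hX x w (t₁ z) (t₃ z) (e.trans (t₁_base z).symm) (e.trans (t₃_base z).symm))))

theorem tri_val {W : Over S} (x : CSec (pz₂ pz) (R hX f) W) {V : Over S} (w : V ⟶ W) (z : V ⟶ Z₃ pz)
    (e : w ≫ x.b = z ≫ pz₃ pz) : CSec.val (tri hX x) w z e = prod.lift
    (arrPt hX (val₂ hX x w (t₁ z) (t₂ z) (e.trans (t₁_base z).symm) (e.trans (t₂_base z).symm)))
    (prod.lift (arrPt hX (val₂ hX x w (t₂ z) (t₃ z) (e.trans (t₂_base z).symm) (e.trans (t₃_base z).symm)))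
      (arrPt hX (val₂ hX x w (t₁ z) (t₃ z) (e.trans (t₁_base z).symm) (e.trans (t₃_base z).symm)))) := by
  refine mkCSec_val _ _ (fun V' V g w z e => ?_) w z e
  have q : ∀ (z₁ z₂ : V ⟶ Z) (z₁' z₂' : V' ⟶ Z) (h₁ : z₁' = g ≫ z₁) (h₂ : z₂' = g ≫ z₂)
      (e₁ : w ≫ x.b = z₁ ≫ pz) (e₂ : w ≫ x.b = z₂ ≫ pz) (e₁' : (g ≫ w) ≫ x.b = z₁' ≫ pz)
      (e₂' : (g ≫ w) ≫ x.b = z₂' ≫ pz),
      arrPt hX (val₂ hX x (g ≫ w) z₁' z₂' e₁' e₂') = (yon S).map g ≫ arrPt hX (val₂ hX x w z₁ z₂ e₁ e₂) := by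
    rintro z₁ z₂ z₁' z₂' rfl rfl e₁ e₂ e₁' e₂'
    rw [val₂_nat hX x g w z₁ z₂ e₁ e₂, map_arrPt]
  rw [prod.comp_lift, prod.comp_lift]
  congr 1
  · exact q _ _ _ _ (Category.assoc _ _ _) (Category.assoc _ _ _) _ _ _ _
  · congr 1
    · exact q _ _ _ _ (Category.assoc _ _ _) (Category.assoc _ _ _) _ _ _ _
    · exact q _ _ _ _ (Category.assoc _ _ _) (Category.assoc _ _ _) _ _ _ _

theorem tri_res {W W' : Over S} (x : CSec (pz₂ pz) (R hX f) W) (k : W' ⟶ W) :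
    tri hX (x.res k) = (tri hX x).res k := by
  refine CSec.ext_val rfl fun V w z e => ?_
  have e' : (w ≫ k) ≫ x.b = z ≫ pz₃ pz := by rw [Category.assoc]; exact e
  have h1 := tri_val hX (x.res k) w z e
  have h2 := CSec.val_res (tri hX x) k w z e e'
  have h3 := tri_val hX x (w ≫ k) z e'
  have q : ∀ (z₁ z₂ : V ⟶ Z) (a₁ : w ≫ (x.res k).b = z₁ ≫ pz) (a₂ : w ≫ (x.res k).b = z₂ ≫ pz)
      (b₁ : (w ≫ k) ≫ x.b = z₁ ≫ pz) (b₂ : (w ≫ k) ≫ x.b = z₂ ≫ pz),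
      arrPt hX (val₂ hX (x.res k) w z₁ z₂ a₁ a₂) = arrPt hX (val₂ hX x (w ≫ k) z₁ z₂ b₁ b₂) :=
    fun z₁ z₂ a₁ a₂ b₁ b₂ => congrArg _ (val₂_res hX x k w z₁ z₂ a₁ a₂ b₁ b₂)
  rw [h1, h2, h3, q, q, q]

variable (f) (pz)

/-- The map to triples. -/
noncomputable def toTri : cst (pz₂ pz) (R hX f) ⟶ cst (pz₃ pz) (R hX f ⨯ (R hX f ⨯ R hX f)) :=
  SheafGlue.homOfPoints (fun _ p => Pushf.pt _ _ (tri hX ((Pushf.pt _ _).symm p))) fun V W k p => by
    rw [pt_symm_map, tri_res, map_pt]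

theorem pt_toTri {W : Over S} (x : CSec (pz₂ pz) (R hX f) W) :
    Pushf.pt _ _ x ≫ toTri hX f pz = Pushf.pt _ _ (tri hX x) := by
  rw [toTri, SheafGlue.comp_homOfPoints]
  erw [Equiv.symm_apply_apply]

/-- The space of descent data. -/
noncomputable def M : Sp S := pullback (toTri hX f pz) (cstMap (pz₃ pz) (graph hX f))

theorem isFinite_base [IsFinite pz.left] [Flat pz.left] [LocallyOfFinitePresentation pz.left] {W : Over S} (b : W ⟶ B) :
    IsFinite (prW pz b).left ∧ Flat (prW pz b).left ∧ LocallyOfFinitePresentation (prW pz b).left :=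
  have hp := ((isPullback_pb pz b).map (Over.forget S)).flip
  ⟨MorphismProperty.of_isPullback hp ‹IsFinite pz.left›, MorphismProperty.of_isPullback hp ‹Flat pz.left›,
    MorphismProperty.of_isPullback hp ‹LocallyOfFinitePresentation pz.left›⟩

theorem isAlgSpace_M [IsFinite pz.left] [Flat pz.left] [LocallyOfFinitePresentation pz.left]
    (hd : AlgSt.RepByAlgSp1 (FibCat.diag (FibCat.toSelf 𝒳))) : IsAlgSpace (M hX f pz) := by
  obtain ⟨_, _, _⟩ := isFinite_base pz pz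
  have : IsFinite (pz₂ pz).left := inferInstanceAs (IsFinite ((prW pz pz).left ≫ pz.left))
  have : Flat (pz₂ pz).left := inferInstanceAs (Flat ((prW pz pz).left ≫ pz.left))
  have : LocallyOfFinitePresentation (pz₂ pz).left :=
    inferInstanceAs (LocallyOfFinitePresentation ((prW pz pz).left ≫ pz.left))
  obtain ⟨_, _, _⟩ := isFinite_base pz (pz₂ pz)
  have : IsFinite (pz₃ pz).left := inferInstanceAs (IsFinite ((prW pz (pz₂ pz)).left ≫ (pz₂ pz).left))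
  have : Flat (pz₃ pz).left := inferInstanceAs (Flat ((prW pz (pz₂ pz)).left ≫ (pz₂ pz).left))
  have : LocallyOfFinitePresentation (pz₃ pz).left :=
    inferInstanceAs (LocallyOfFinitePresentation ((prW pz (pz₂ pz)).left ≫ (pz₂ pz).left))
  have hR : IsAlgSpace (R hX f) := isAlgSpace_isomP hX hd
  have hC : IsAlgSpace (C₂ hX f) := isAlgSpace_pullback hR hR (IsAlgSpace.yon_obj U) _ _
  exact isAlgSpace_pullback (isAlgSpace_sheaf _ _ (isAlgSpace_prod hR (IsAlgSpace.yon_obj _)))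
    (isAlgSpace_sheaf _ _ (isAlgSpace_prod hC (IsAlgSpace.yon_obj _)))
    (isAlgSpace_sheaf _ _ (isAlgSpace_prod (isAlgSpace_prod hR (isAlgSpace_prod hR hR)) (IsAlgSpace.yon_obj _))) _ _

variable {f} {pz}

/-- The double section of a point. -/
noncomputable def sec₂ {W : Over S} (p : (yon S).obj W ⟶ M hX f pz) : CSec (pz₂ pz) (R hX f) W :=
  (Pushf.pt _ _).symm (p ≫ pullback.fst _ _)

theorem pt_sec₂ {W : Over S} (p : (yon S).obj W ⟶ M hX f pz) :
    Pushf.pt _ _ (sec₂ hX p) = p ≫ pullback.fst _ _ := Equiv.apply_symm_apply _ _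

theorem sec₂_map {W W' : Over S} (k : W' ⟶ W) (p : (yon S).obj W ⟶ M hX f pz) :
    sec₂ hX ((yon S).map k ≫ p) = (sec₂ hX p).res k := by
  rw [sec₂, Category.assoc, pt_symm_map]
  rfl

theorem pt_cocycle {W : Over S} (p : (yon S).obj W ⟶ M hX f pz) {V : Over S} (w : V ⟶ W)
    (z₁ z₂ z₃ : V ⟶ Z) (e₁ : w ≫ (sec₂ hX p).b = z₁ ≫ pz) (e₂ : w ≫ (sec₂ hX p).b = z₂ ≫ pz)
    (e₃ : w ≫ (sec₂ hX p).b = z₃ ≫ pz) :
    ∃ h : (val₂ hX (sec₂ hX p) w z₁ z₂ e₁ e₂).u₂ = (val₂ hX (sec₂ hX p) w z₂ z₃ e₂ e₃).u₁,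
      Arr.comp (val₂ hX (sec₂ hX p) w z₁ z₂ e₁ e₂) (val₂ hX (sec₂ hX p) w z₂ z₃ e₂ e₃) h =
        val₂ hX (sec₂ hX p) w z₁ z₃ e₁ e₃ := by
  let x := sec₂ hX p
  obtain ⟨y, hy⟩ := (Pushf.pt _ _).surjective (p ≫ pullback.snd _ _)
  have h0 : tri hX x = Sec.push
      (π' := (prod.snd : (R hX f ⨯ (R hX f ⨯ R hX f)) ⨯ (yon S).obj (Z₃ pz) ⟶ _))
      (prod.map (graph hX f) (𝟙 _)) ((prod.map_snd (graph hX f) (𝟙 _)).trans (Category.comp_id _)) y := by
    refine (Pushf.pt _ _).injective ?_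
    rw [← pt_toTri, ← pt_map (prod.map (graph hX f) (𝟙 _)), pt_sec₂, hy, Category.assoc, Category.assoc]
    exact congrArg (p ≫ ·) pullback.condition
  let z : V ⟶ Z₃ pz := pbLift pz (pair z₁ z₂ (e₁.symm.trans e₂)) z₃ (by
    rw [← pair_base e₁ _, e₃])
  have hz₁ : t₁ z = z₁ := by simp only [t₁, z, pbLift_fst_assoc, pair_p₁]
  have hz₂ : t₂ z = z₂ := by simp only [t₂, z, pbLift_fst_assoc, pair_p₂]
  have hz₃ : t₃ z = z₃ := by simp only [t₃, z, pbLift_snd]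
  have e : w ≫ x.b = z ≫ pz₃ pz := by rw [← t₁_base, hz₁]; exact e₁
  have hb : y.b = x.b := (congrArg Sec.b h0).symm
  obtain ⟨c, hc⟩ : ∃ c : (yon S).obj V ⟶ C₂ hX f, c ≫ graph hX f = CSec.val (tri hX x) w z e := by
    refine ⟨CSec.val y w z (by rw [hb]; exact e), ?_⟩
    rw [← val_push (graph hX f) y w z]
    simp only [h0]
  have key : ∀ a b c', CSec.val (tri hX x) w z e = prod.lift (arrPt hX a) (prod.lift (arrPt hX b) (arrPt hX c')) →
      ∃ h : a.u₂ = b.u₁, Arr.comp a b h = c' := by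
    intro a b c' habc
    rw [habc] at hc
    have h1 : c ≫ pullback.fst _ _ = arrPt hX a := by simpa [graph] using congrArg (· ≫ prod.fst) hc
    have h2 : c ≫ pullback.snd _ _ = arrPt hX b := by
      simpa [graph] using congrArg (fun r => r ≫ prod.snd ≫ prod.fst) hc
    have h3 : c ≫ compR hX f = arrPt hX c' := by
      simpa [graph] using congrArg (fun r => r ≫ prod.snd ≫ prod.snd) hc
    rw [compR, SheafGlue.comp_homOfPoints] at h3
    have ha : (arrPt hX).symm (c ≫ pullback.fst _ _) = a := by rw [h1, Equiv.symm_apply_apply]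
    have hb : (arrPt hX).symm (c ≫ pullback.snd _ _) = b := by rw [h2, Equiv.symm_apply_apply]
    subst ha hb
    exact ⟨composable hX c, (arrPt hX).injective h3⟩
  refine key _ _ _ ((tri_val hX x w z e).trans ?_)
  congr <;> assumption

/-- The descent datum of a point. -/
noncomputable def toDatum {W : Over S} (p : (yon S).obj W ⟶ M hX f pz) : Datum hX.1 f pz (sec₂ hX p).b where
  θ _ w z₁ z₂ e₁ e₂ := val₂ hX (sec₂ hX p) w z₁ z₂ e₁ e₂
  nat _ _ g w z₁ z₂ e₁ e₂ e₁' e₂' := val₂_nat hX _ g w z₁ z₂ e₁ e₂ e₁' e₂'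
  cocycle _ w z₁ z₂ z₃ e₁ e₂ e₃ := pt_cocycle hX p w z₁ z₂ z₃ e₁ e₂ e₃

theorem toDatum_θ {W : Over S} (p : (yon S).obj W ⟶ M hX f pz) {V : Over S} (w : V ⟶ W) (z₁ z₂ : V ⟶ Z)
    (e₁ : w ≫ (sec₂ hX p).b = z₁ ≫ pz) (e₂ : w ≫ (sec₂ hX p).b = z₂ ≫ pz) :
    (toDatum hX p).θ w z₁ z₂ e₁ e₂ = val₂ hX (sec₂ hX p) w z₁ z₂ e₁ e₂ := rfl

theorem sec₂_injective {W : Over S} : Function.Injective (sec₂ hX (f := f) (pz := pz) (W := W)) := by
  intro p q hpq
  have h1 : p ≫ pullback.fst _ _ = q ≫ pullback.fst _ _ := (Pushf.pt _ _).symm.injective hpq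
  refine pullback.hom_ext h1 ?_
  obtain ⟨y, hy⟩ := (Pushf.pt _ _).surjective (p ≫ pullback.snd _ _)
  obtain ⟨y', hy'⟩ := (Pushf.pt _ _).surjective (q ≫ pullback.snd _ _)
  have hpush : y.push (π' := (prod.snd : (R hX f ⨯ (R hX f ⨯ R hX f)) ⨯ (yon S).obj (Z₃ pz) ⟶ _))
      (prod.map (graph hX f) (𝟙 _)) ((prod.map_snd (graph hX f) (𝟙 _)).trans (Category.comp_id _)) = y'.push
      (π' := (prod.snd : (R hX f ⨯ (R hX f ⨯ R hX f)) ⨯ (yon S).obj (Z₃ pz) ⟶ _))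
      (prod.map (graph hX f) (𝟙 _)) ((prod.map_snd (graph hX f) (𝟙 _)).trans (Category.comp_id _)) := by
    refine (Pushf.pt _ _).injective ?_
    rw [← pt_map (prod.map (graph hX f) (𝟙 _)), ← pt_map (prod.map (graph hX f) (𝟙 _)), hy, hy', Category.assoc,
      Category.assoc]
    refine ((congrArg (p ≫ ·) pullback.condition).symm.trans ?_).trans (congrArg (q ≫ ·) pullback.condition)
    rw [← Category.assoc, h1, Category.assoc]
  rw [← hy, ← hy']
  refine congrArg _ (CSec.ext_val (congrArg (fun s => s.b) hpush :) fun V w z e => graph_cancel hX f ?_)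
  rw [← val_push (graph hX f) y w z e, ← val_push (graph hX f) y' w z]
  simp only [hpush]

/-- The point of a descent datum. -/
theorem exists_pt {W : Over S} {b : W ⟶ B} (D : Datum hX.1 f pz b) :
    ∃ p : (yon S).obj W ⟶ M hX f pz, ∃ hb : (sec₂ hX p).b = b,
      ∀ {V : Over S} (w : V ⟶ W) (z₁ z₂ : V ⟶ Z) (e₁ : w ≫ b = z₁ ≫ pz) (e₂ : w ≫ b = z₂ ≫ pz),
        val₂ hX (sec₂ hX p) w z₁ z₂ (by rw [hb]; exact e₁) (by rw [hb]; exact e₂) = D.θ w z₁ z₂ e₁ e₂ := by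
  have hz : ∀ {V : Over S} (w : V ⟶ W) (z : V ⟶ Z₂ pz) (e : w ≫ b = z ≫ pz₂ pz),
      (w ≫ b = (z ≫ prW pz pz) ≫ pz) ∧ w ≫ b = (z ≫ prZ pz pz) ≫ pz := fun w z e =>
    ⟨by rw [e, Category.assoc], by rw [e, Category.assoc, ← pb_condition]⟩
  let x : CSec (pz₂ pz) (R hX f) W := mkCSec b fun V w z e =>
    arrPt hX (D.θ w (z ≫ prW pz pz) (z ≫ prZ pz pz) (hz w z e).1 (hz w z e).2)
  have hxv : ∀ {V : Over S} (w : V ⟶ W) (z₁ z₂ : V ⟶ Z) (e₁ : w ≫ b = z₁ ≫ pz) (e₂ : w ≫ b = z₂ ≫ pz),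
      val₂ hX x w z₁ z₂ e₁ e₂ = D.θ w z₁ z₂ e₁ e₂ := by
    intro V w z₁ z₂ e₁ e₂
    rw [val₂]
    refine (congrArg _ (mkCSec_val b _ (fun V' V g w z e => ?_) w _ _)).trans ?_
    · rw [map_arrPt, ← D.nat g w _ _ _ _ (by rw [Category.assoc, e]; simp [pz₂])
        (by rw [Category.assoc, e]; simp [pz₂, pb_condition])]
      simp only [Category.assoc]
    · rw [Equiv.symm_apply_apply]
      simp only [pair_p₁, pair_p₂]
  let cc : ∀ {V : Over S} (w : V ⟶ W) (z : V ⟶ Z₃ pz), w ≫ b = z ≫ pz₃ pz → ((yon S).obj V ⟶ C₂ hX f) :=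
    fun {V} w z e => pullback.lift
      (arrPt hX (D.θ w (t₁ z) (t₂ z) (e.trans (t₁_base z).symm) (e.trans (t₂_base z).symm)))
      (arrPt hX (D.θ w (t₂ z) (t₃ z) (e.trans (t₂_base z).symm) (e.trans (t₃_base z).symm)))
      (by
        rw [arrPt_snd, arrPt_fst]
        exact congrArg _ (D.cocycle w (t₁ z) (t₂ z) (t₃ z) _ _ _).choose)
  let y : CSec (pz₃ pz) (C₂ hX f) W := mkCSec b fun V w z e => cc w z e
  have hy : ∀ {V : Over S} (w : V ⟶ W) (z : V ⟶ Z₃ pz) (e : w ≫ b = z ≫ pz₃ pz),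
      CSec.val y w z e = cc w z e := by
    intro V w z e
    refine mkCSec_val b _ (fun V' V g w z e => ?_) w z e
    refine pullback.hom_ext ?_ ?_
    · simp only [cc, Category.assoc, pullback.lift_fst, pullback.lift_snd]
      rw [map_arrPt, ← D.nat g w _ _ _ _ (by rw [Category.assoc, Category.assoc, t₁_base, e])
        (by rw [Category.assoc, Category.assoc, t₂_base, e])]
    · simp only [cc, Category.assoc, pullback.lift_fst, pullback.lift_snd]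
      rw [map_arrPt, ← D.nat g w _ _ _ _ (by rw [Category.assoc, Category.assoc, t₂_base, e])
        (by rw [Category.assoc, Category.assoc, t₃_base, e])]
  have hxy : tri hX x = Sec.push (π' := (prod.snd : (R hX f ⨯ (R hX f ⨯ R hX f)) ⨯ (yon S).obj (Z₃ pz) ⟶ _))
      (prod.map (graph hX f) (𝟙 _)) ((prod.map_snd (graph hX f) (𝟙 _)).trans (Category.comp_id _)) y := by
    refine CSec.ext_val rfl fun V w z e => ?_
    rw [val_push, tri_val hX x w z e, hy w z e, hxv, hxv, hxv]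
    simp only [graph, cc, prod.comp_lift, pullback.lift_fst, pullback.lift_snd]
    congr 2
    rw [compR, SheafGlue.comp_homOfPoints]
    refine congrArg _ ?_
    obtain ⟨h, hc⟩ := D.cocycle w (t₁ z) (t₂ z) (t₃ z) (e.trans (t₁_base z).symm) (e.trans (t₂_base z).symm)
      (e.trans (t₃_base z).symm)
    refine hc.symm.trans ?_
    congr 1 <;> simp only [pullback.lift_fst, pullback.lift_snd, Equiv.symm_apply_apply]
  let p : (yon S).obj W ⟶ M hX f pz := pullback.lift (Pushf.pt _ _ x) (Pushf.pt _ _ y) (by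
    rw [pt_toTri, cstMap, pt_map, hxy])
  have hp : sec₂ hX p = x := by
    refine (congrArg (Pushf.pt _ _).symm (pullback.lift_fst _ _ _)).trans ?_
    exact Equiv.symm_apply_apply _ _
  refine ⟨p, by rw [hp]; rfl, fun w z₁ z₂ e₁ e₂ => ?_⟩
  simp only [hp]
  exact hxv w z₁ z₂ e₁ e₂

theorem pt_ext {W : Over S} {p q : (yon S).obj W ⟶ M hX f pz} (hb : (sec₂ hX p).b = (sec₂ hX q).b)
    (h : ∀ {V : Over S} (w : V ⟶ W) (z₁ z₂ : V ⟶ Z) (e₁ : w ≫ (sec₂ hX p).b = z₁ ≫ pz)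
      (e₂ : w ≫ (sec₂ hX p).b = z₂ ≫ pz),
      val₂ hX (sec₂ hX p) w z₁ z₂ e₁ e₂ =
        val₂ hX (sec₂ hX q) w z₁ z₂ (by rw [← hb]; exact e₁) (by rw [← hb]; exact e₂)) : p = q := by
  refine sec₂_injective hX (CSec.ext_val hb fun V w z e => ?_)
  have e₁ : w ≫ (sec₂ hX p).b = (z ≫ prW pz pz) ≫ pz := by rw [e, Category.assoc]
  have e₂ : w ≫ (sec₂ hX p).b = (z ≫ prZ pz pz) ≫ pz := by rw [e, Category.assoc, ← pb_condition]
  have hz : pair (z ≫ prW pz pz) (z ≫ prZ pz pz) (e₁.symm.trans e₂) = z :=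
    pb_hom_ext pz (pair_p₁ _ _ _) (pair_p₂ _ _ _)
  have := congrArg (arrPt hX) (h w _ _ e₁ e₂)
  simp only [val₂, Equiv.apply_symm_apply, hz] at this
  exact this

end Chart

end Groth.Agent.FCov14
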