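import Groth.Agent.AlgStLib.DiagCover
import Groth.Agent.AlgStLib.Source
import Groth.Agent.AlgStLib.LocEss
import Groth.Agent.AlgStLib.SpaceCalc
import Groth.Agent.AlgStLib.SpProps
import Groth.Agent.AlgSpPts.OpenSub
import Groth.Agent.AlgSpDec.LimAffineStage
import Groth.Agent.GerbFlat.Section

/-! Quasi-compactness of the diagonal by Noetherian induction. -/

set_option autoImplicit false
set_option backward.isDefEq.respectTransparency false
set_option backward.isDefEq.respectTransparency.types false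

universe u

open CategoryTheory CategoryTheory.Functor CategoryTheory.Limits Opposite AlgebraicGeometry AlgSp
open Groth.Agent.AlgSpLib Groth.Agent.AlgSpDec Groth.Agent.AlgStLib Groth.Agent.FibBase

namespace Groth.Agent.FCov14.DiagQC

/-- A space over a noetherian spectrum is quasi-compact if it is so generically over every irreducible closed set. -/
theorem compactSpace_of_generic {R : Type u} [CommRing R] [IsNoetherianRing R] {Q : Type*} [TopologicalSpace Q]
    (π : Q → PrimeSpectrum R)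
    (h : ∀ I : Ideal R, I.IsPrime → ∃ a ∉ I, ∃ K : Set Q, IsCompact K ∧
      K ⊆ {z | I ≤ (π z).asIdeal} ∧ ∀ z, I ≤ (π z).asIdeal → a ∉ (π z).asIdeal → z ∈ K) :
    CompactSpace Q := by
  suffices ∀ I : Ideal R, IsCompact {z | I ≤ (π z).asIdeal} from ⟨by simpa using this ⊥⟩
  intro I
  refine IsWellFounded.induction (· > ·) I (motive := fun I : Ideal R => IsCompact {z | I ≤ (π z).asIdeal})
    fun I ih => ?_
  by_cases htop : I = ⊤
  · convert isCompact_empty
    exact Set.eq_empty_of_forall_notMem fun z hz => (π z).2.ne_top (top_le_iff.mp (htop ▸ hz))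
  have hlt : ∀ c, c ∉ I → I < I ⊔ Ideal.span {c} := fun c hc => lt_of_le_of_ne le_sup_left fun e =>
    hc (e ▸ Ideal.mem_sup_right (Ideal.mem_span_singleton_self c))
  by_cases hI : I.IsPrime
  · obtain ⟨a, ha, K, hK, hKI, hKa⟩ := h I hI
    convert (ih _ (hlt a ha)).union hK using 1
    ext z
    refine ⟨fun hz => ?_, fun hz => hz.elim (fun (hz : I ⊔ Ideal.span {a} ≤ (π z).asIdeal) => le_sup_left.trans hz) fun hz => hKI hz⟩
    by_cases haz : a ∈ (π z).asIdeal
    · exact Or.inl (sup_le hz ((Ideal.span_singleton_le_iff_mem _).mpr haz))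
    · exact Or.inr (hKa z hz haz)
  · obtain ⟨a, ha, b, hb, hab⟩ := (Ideal.not_isPrime_iff.mp hI).resolve_left htop
    convert (ih _ (hlt a ha)).union (ih _ (hlt b hb)) using 1
    ext z
    exact ⟨fun hz => ((π z).2.mem_or_mem (hz hab)).imp
      (fun h => sup_le hz ((Ideal.span_singleton_le_iff_mem _).mpr h))
      (fun h => sup_le hz ((Ideal.span_singleton_le_iff_mem _).mpr h)),
      fun hz => hz.elim (fun (hz : I ⊔ Ideal.span {a} ≤ (π z).asIdeal) => le_sup_left.trans hz)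
        fun (hz : I ⊔ Ideal.span {b} ≤ (π z).asIdeal) => le_sup_left.trans hz⟩

variable {S : Scheme.{u}} {𝒳 : AlgSt.Cat S}

/-- An isomorphism of pairs of objects from isomorphisms of the components. -/
def pairIso {𝒜 : AlgSt.Cat S} {a b : 𝒜 ⥤ᵇ (FibCat.fp (FibCat.toSelf 𝒳) (FibCat.toSelf 𝒳))}
    (k₁ : BasedFunctor.comp a (FibCat.fpFst _ _) ≅ BasedFunctor.comp b (FibCat.fpFst _ _))
    (k₂ : BasedFunctor.comp a (FibCat.fpSnd _ _) ≅ BasedFunctor.comp b (FibCat.fpSnd _ _)) : a ≅ b :=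
  BasedNatIso.mkNatIso
    (NatIso.ofComponents
      (fun x => fpIsoMk (F := FibCat.toSelf 𝒳) (G := FibCat.toSelf 𝒳) (x := a.obj x) (y := b.obj x)
        (isoApp k₁ x) (isoApp k₂ x) (by
        let t := FibCat.toSelf 𝒳
        have l₁ : (𝟭 (Over S)).IsHomLift (𝟙 (𝒜.p.obj x)) (t.map (isoApp k₁ x).hom) := by
          have h : 𝒳.p.IsHomLift (𝟙 (𝒜.p.obj x)) (isoApp k₁ x).hom := isoApp_lift k₁ (a := x) rfl
          exact @BasedFunctor.preserves_isHomLift _ _ _ _ t _ _ _ _ _ (isoApp k₁ x).hom h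
        have l₂ : (𝟭 (Over S)).IsHomLift (𝟙 (𝒜.p.obj x)) (t.map (isoApp k₂ x).hom) := by
          have h : 𝒳.p.IsHomLift (𝟙 (𝒜.p.obj x)) (isoApp k₂ x).hom := isoApp_lift k₂ (a := x) rfl
          exact @BasedFunctor.preserves_isHomLift _ _ _ _ t _ _ _ _ _ (isoApp k₂ x).hom h
        have la : (𝟭 (Over S)).IsHomLift (𝟙 (𝒜.p.obj x)) (a.obj x).obj.iso.hom := by
          have e : 𝒳.p.obj (a.obj x).obj.fst = 𝒜.p.obj x := a.w_obj x
          exact e ▸ (a.obj x).property
        have lb : (𝟭 (Over S)).IsHomLift (𝟙 (𝒜.p.obj x)) (b.obj x).obj.iso.hom := by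
          have e : 𝒳.p.obj (b.obj x).obj.fst = 𝒜.p.obj x := b.w_obj x
          exact e ▸ (b.obj x).property
        refine (self_hom_eq (S := 𝒜.p.obj x) (φ := t.map (isoApp k₁ x).hom ≫ (b.obj x).obj.iso.hom) ?_).trans
          (self_hom_eq (S := 𝒜.p.obj x) (φ := (a.obj x).obj.iso.hom ≫ t.map (isoApp k₂ x).hom) ?_).symm
        · exact @IsHomLift.comp_lift_id_left' _ _ _ _ (𝟭 (Over S)) _ _ _ _ _ l₁ _ _ (𝟙 _) _ lb
        · exact @IsHomLift.comp_lift_id_left' _ _ _ _ (𝟭 (Over S)) _ _ _ _ _ la _ _ (𝟙 _) _ l₂))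
      (fun {x x'} φ => by
        refine ObjectProperty.hom_ext _ (CategoricalPullback.hom_ext ?_ ?_)
        · exact natural k₁ φ
        · exact natural k₂ φ))
    (fun x => fp_isHomLift (F := FibCat.toSelf 𝒳) (G := FibCat.toSelf 𝒳) (𝟙 _) _
      (h := BasedNatTrans.isHomLift k₁.hom (rfl : 𝒜.p.obj x = 𝒜.p.obj x)))

/-- Pairs of values of a locally essentially surjective functor cover pairs of objects. -/
theorem locEssSurj_pair {V : Over S} {x : FibCat.overCat V ⥤ᵇ 𝒳} (hx : LocEssSurj x)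
    (j : BasedFunctor.comp (BasedFunctor.comp (AlgSt.overMap (prod.fst : V ⨯ V ⟶ V)) x) (FibCat.toSelf 𝒳) ≅
      BasedFunctor.comp (BasedFunctor.comp (AlgSt.overMap (prod.snd : V ⨯ V ⟶ V)) x) (FibCat.toSelf 𝒳)) :
    LocEssSurj (FibCat.fpLift (BasedFunctor.comp (AlgSt.overMap (prod.fst : V ⨯ V ⟶ V)) x)
      (BasedFunctor.comp (AlgSt.overMap (prod.snd : V ⨯ V ⟶ V)) x) j) := fun U y => by
  obtain ⟨R₁, hR₁, hz₁⟩ := hx U (BasedFunctor.comp y (FibCat.fpFst _ _))
  obtain ⟨R₂, hR₂, hz₂⟩ := hx U (BasedFunctor.comp y (FibCat.fpSnd _ _))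
  refine ⟨R₁ ⊓ R₂, GrothendieckTopology.intersection_covering _ hR₁ hR₂, fun Z h hh => ?_⟩
  obtain ⟨z₁, ⟨i₁⟩⟩ := hz₁ h hh.1
  obtain ⟨z₂, ⟨i₂⟩⟩ := hz₂ h hh.2
  obtain ⟨m₁, ⟨j₁⟩⟩ := Groth.Agent.GerbFlat.exists_overMap_iso z₁
  obtain ⟨m₂, ⟨j₂⟩⟩ := Groth.Agent.GerbFlat.exists_overMap_iso z₂
  refine ⟨AlgSt.overMap (prod.lift m₁ m₂), ⟨pairIso ?_ ?_⟩⟩
  · exact whiskerRightIso (Groth.Agent.AlgStLib.overMapCompIso (prod.lift m₁ m₂) (prod.fst : V ⨯ V ⟶ V) ≪≫
      eqToIso (congrArg AlgSt.overMap (prod.lift_fst m₁ m₂)) ≪≫ j₁.symm) x ≪≫ i₁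
  · exact whiskerRightIso (Groth.Agent.AlgStLib.overMapCompIso (prod.lift m₁ m₂) (prod.snd : V ⨯ V ⟶ V) ≪≫
      eqToIso (congrArg AlgSt.overMap (prod.lift_snd m₁ m₂)) ≪≫ j₂.symm) x ≪≫ i₂

variable {U : Over S} {y : FibCat.overCat U ⥤ᵇ (FibCat.fp (FibCat.toSelf 𝒳) (FibCat.toSelf 𝒳))} {F : Sp S} {e : AlgSt.ofSp F ⥤ᵇ FibCat.fp y (FibCat.diag (FibCat.toSelf 𝒳))}

/-- A point of the fibre of the diagonal makes the two objects isomorphic there. -/
theorem nonempty_iso_of_point {W : Over S} (p : (yon S).obj W ⟶ F) (g : W ⟶ U)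
    (hg : p ≫ AlgSt.spMapOfOver (BasedFunctor.comp e (FibCat.fpFst y (FibCat.diag (FibCat.toSelf 𝒳)))) = (yon S).map g) :
    Nonempty (BasedFunctor.comp (AlgSt.overMap g) (BasedFunctor.comp y (FibCat.fpFst _ _)) ≅
      BasedFunctor.comp (AlgSt.overMap g) (BasedFunctor.comp y (FibCat.fpSnd _ _))) := by
  let L : FibCat.overCat W ⥤ᵇ FibCat.fp y (FibCat.diag (FibCat.toSelf 𝒳)) := BasedFunctor.comp (overOfMap p) e
  let j : BasedFunctor.comp L (FibCat.fpFst y (FibCat.diag (FibCat.toSelf 𝒳))) ≅ AlgSt.overMap g :=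
    whiskerLeftIso (overOfMap p) (isoSpMapOfOver (BasedFunctor.comp e (FibCat.fpFst y (FibCat.diag (FibCat.toSelf 𝒳))))) ≪≫
      whiskerLeftIso (AlgSt.ofOverCat W) (whiskerRightIso (isoOfSpMap _ ≪≫ eqToIso (congrArg (fun k => AlgSt.ofSpMap k)
        (show spHom (BasedFunctor.comp (AlgSt.ofSpMap p) (AlgSt.ofSpMap (AlgSt.spMapOfOver (BasedFunctor.comp e
          (FibCat.fpFst y (FibCat.diag (FibCat.toSelf 𝒳))))))) = (yon S).map g by rw [spHom_comp, spHom_ofSpMap, spHom_ofSpMap, hg])))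
        (AlgSt.toOverCat U)) ≪≫
      overIso _ _ fun z => by
        show 𝟙 z.left ≫ z.hom ≫ g = z.hom ≫ g
        simp
  let i : BasedFunctor.comp (BasedFunctor.comp L (FibCat.fpSnd y (FibCat.diag (FibCat.toSelf 𝒳)))) (FibCat.diag (FibCat.toSelf 𝒳)) ≅ BasedFunctor.comp (AlgSt.overMap g) y :=
    (whiskerLeftIso L (FibCat.fpIso y (FibCat.diag (FibCat.toSelf 𝒳)))).symm ≪≫ whiskerRightIso j y
  exact ⟨(whiskerRightIso i (FibCat.fpFst _ _)).symm ≪≫ whiskerRightIso i (FibCat.fpSnd _ _)⟩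

/-- Restriction of a representation of the fibre of the diagonal. -/
theorem property_pullback {P : MorphismProperty (Sp S)} (hPb : StableBC P) (hF : IsAlgSpace F)
    (he : FibCat.IsEquivOver e) {D : Over S} (ι : D ⟶ U) {y' : FibCat.overCat D ⥤ᵇ (FibCat.fp (FibCat.toSelf 𝒳) (FibCat.toSelf 𝒳))}
    (i : y' ≅ BasedFunctor.comp (AlgSt.overMap ι) y) (h : RepOver P (FibCat.fpFst y' (FibCat.diag (FibCat.toSelf 𝒳)))) :
    P (pullback.fst ((yon S).map ι) (AlgSt.spMapOfOver (BasedFunctor.comp e (FibCat.fpFst y (FibCat.diag (FibCat.toSelf 𝒳)))))) := by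
  let q := FibCat.fpFst y (FibCat.diag (FibCat.toSelf 𝒳))
  let a := AlgSt.spMapOfOver (BasedFunctor.comp e q)
  let y'' := BasedFunctor.comp (AlgSt.overMap ι) y
  have : (BasedFunctor.id (FibCat.fp (FibCat.toSelf 𝒳) (FibCat.toSelf 𝒳))).toFunctor.Full := inferInstanceAs (𝟭 _).Full
  have : (BasedFunctor.id (FibCat.fp (FibCat.toSelf 𝒳) (FibCat.toSelf 𝒳))).toFunctor.Faithful := inferInstanceAs (𝟭 _).Faithful
  let c₀ : FibCat.fp y' (FibCat.diag (FibCat.toSelf 𝒳)) ⥤ᵇ FibCat.fp y'' (FibCat.diag (FibCat.toSelf 𝒳)) :=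
    fpMap (F := y'') (G := (FibCat.diag (FibCat.toSelf 𝒳))) (F' := y') (G' := (FibCat.diag (FibCat.toSelf 𝒳))) (a := BasedFunctor.id _) (b := BasedFunctor.id 𝒳)
      (c := BasedFunctor.id (FibCat.fp (FibCat.toSelf 𝒳) (FibCat.toSelf 𝒳))) i.symm (Iso.refl _)
  have hc₀ : FibCat.IsEquivOver c₀ := fpMap_isEquivOver _ _ isEquivOver_id isEquivOver_id
  have h₁ : RepOver P (FibCat.fpFst y'' (FibCat.diag (FibCat.toSelf 𝒳))) := h.of_equiv c₀ hc₀ (Iso.refl _)
  obtain ⟨c₁, hc₁, -, ⟨l₁⟩⟩ := isEquivOver_inv (pasteVert_isEquivOver (AlgSt.overMap ι) y (FibCat.diag (FibCat.toSelf 𝒳)))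
  have h₂ : RepOver P (FibCat.fpFst (AlgSt.overMap ι) q) :=
    h₁.of_equiv c₁ hc₁ (whiskerRightIso l₁ (FibCat.fpFst y'' (FibCat.diag (FibCat.toSelf 𝒳))))
  obtain ⟨k, hk, ⟨k₁⟩, -⟩ := exists_spCone (IsPullback.of_hasPullback ((yon S).map ι) a)
  have := full_of_isEquivOver (isEquivOver_toOverCat U)
  have := faithful_of_isEquivOver (isEquivOver_toOverCat U)
  let α : BasedFunctor.comp (AlgSt.toOverCat D) (AlgSt.overMap ι) ≅
      BasedFunctor.comp (AlgSt.ofSpMap ((yon S).map ι)) (AlgSt.toOverCat U) :=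
    overIso _ _ fun z => by
      show 𝟙 z.base ≫ z.sec.down ≫ ι = z.sec.down ≫ ι
      simp
  let m := fpMap (F := AlgSt.overMap ι) (G := q) (F' := AlgSt.ofSpMap ((yon S).map ι)) (G' := AlgSt.ofSpMap a)
    (a := AlgSt.toOverCat D) (b := e) (c := AlgSt.toOverCat U) α (isoSpMapOfOver (BasedFunctor.comp e q)).symm
  have hm : FibCat.IsEquivOver m := fpMap_isEquivOver _ _ (isEquivOver_toOverCat D) he
  have h₃ := (h₂.property_of_stableBC hPb (BasedFunctor.comp k m) (isEquivOver_comp hk hm)).2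
  rwa [spMapOfOver_congr (show BasedFunctor.comp (BasedFunctor.comp k m) (FibCat.fpFst (AlgSt.overMap ι) q) ≅
      BasedFunctor.comp (AlgSt.ofSpMap (pullback.fst ((yon S).map ι) a)) (AlgSt.toOverCat D) from
    whiskerRightIso k₁ (AlgSt.toOverCat D)), spMapOfOver_ofSpMap_toOverCat] at h₃

/-- Over an affine Noetherian scheme the fibre of the diagonal is quasi-compact. -/
theorem compactSpace_fibre (hF : IsAlgSpace F) (he : FibCat.IsEquivOver e) [IsAffine U.left]
    [IsLocallyNoetherian U.left]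
    (hi : ∀ (V : Over S), IsAffine V.left → ∀ (x : FibCat.overCat V ⥤ᵇ 𝒳),
      ∃ (F : AlgSp.Space S) (e : AlgSt.ofSp F.obj ⥤ᵇ FibCat.fp (FibCat.fpLift x x (Iso.refl _)) (FibCat.diag (FibCat.toSelf 𝒳))),
        FibCat.IsEquivOver e ∧
          AlgSp.IsQuasiCompactMor (AlgSt.spMapOfOver (BasedFunctor.comp e (FibCat.fpFst _ _))))
    (hii : ∀ (V : Over S), IsAffine V.left → IsIntegral V.left → ∀ (x y : FibCat.overCat V ⥤ᵇ 𝒳)
      (D : Set ↥V.left), Dense D →
      (∀ t ∈ D, ∃ (L : Type u) (_ : Field L) (g : Spec (CommRingCat.of L) ⟶ V.left), Set.range g.base = {t} ∧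
        Nonempty (BasedFunctor.comp (AlgSt.overMap (Over.homMk g rfl : Over.mk (g ≫ V.hom) ⟶ V)) x ≅
          BasedFunctor.comp (AlgSt.overMap (Over.homMk g rfl : Over.mk (g ≫ V.hom) ⟶ V)) y)) →
      ∃ O : V.left.Opens, Dense (O : Set ↥V.left) ∧
        Nonempty (BasedFunctor.comp (AlgSt.overMap (Over.homMk O.ι rfl : Over.mk (O.ι ≫ V.hom) ⟶ V)) x ≅
          BasedFunctor.comp (AlgSt.overMap (Over.homMk O.ι rfl : Over.mk (O.ι ≫ V.hom) ⟶ V)) y)) :
    CompactSpace (Points F) := by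
  let R := Γ(U.left, ⊤)
  have : IsNoetherianRing R := IsLocallyNoetherian.component_noetherian ⟨⊤, isAffineOpen_top U.left⟩
  let ψ : U.left ≅ Spec R := U.left.isoSpec
  let a := AlgSt.spMapOfOver (BasedFunctor.comp e (FibCat.fpFst y (FibCat.diag (FibCat.toSelf 𝒳))))
  let π : Points F → PrimeSpectrum R := fun z => ψ.hom ((Points.schemeHomeo U).symm (Points.map a z))
  refine compactSpace_of_generic π fun I hI => ?_
  let A := CommRingCat.of (R ⧸ I)
  have : IsDomain A := inferInstanceAs (IsDomain (R ⧸ I))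
  let c : Spec A ⟶ U.left := Spec.map (CommRingCat.ofHom (Ideal.Quotient.mk I)) ≫ ψ.inv
  let Z : Over S := Over.mk (c ≫ U.hom)
  let cZ : Z ⟶ U := Over.homMk c rfl
  have : IsAffine Z.left := inferInstanceAs (IsAffine (Spec A))
  have : IsIntegral Z.left := inferInstanceAs (IsIntegral (Spec A))
  have hπc : ∀ t : Z.left, ψ.hom (c t) = PrimeSpectrum.comap (Ideal.Quotient.mk I) t := fun t => by
    show ψ.hom (ψ.inv _) = _
    rw [← Scheme.Hom.comp_apply, Iso.inv_hom_id]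
    rfl
  have hlift : ∀ z, I ≤ (π z).asIdeal → ∃ t : Z.left,
      Points.map a z = Points.map ((yon S).map cZ) (Points.schemeHomeo Z t) := fun z hz => by
    obtain ⟨t, ht⟩ : π z ∈ Set.range (PrimeSpectrum.comap (Ideal.Quotient.mk I)) := by
      rw [range_comap_of_surjective _ _ Ideal.Quotient.mk_surjective, Ideal.mk_ker]
      exact hz
    refine ⟨t, (Points.schemeHomeo U).symm.injective (ψ.hom.homeomorph.injective ?_)⟩
    show π z = ψ.hom _
    rw [Points.map_yon_map_eq, ← ht]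
    simp only [Function.comp_apply, Homeomorph.symm_apply_apply]
    exact (hπc t).symm
  let sqZ := IsPullback.of_hasPullback ((yon S).map cZ) a
  have hFZ := isAlgSpace_pullback (IsAlgSpace.yon_obj Z) hF (IsAlgSpace.yon_obj U) ((yon S).map cZ) a
  let D : Set ↥Z.left := (Points.schemeHomeo Z) ⁻¹' Set.range (Points.map (pullback.fst ((yon S).map cZ) a))
  have hD : ∀ z, ∀ t : Z.left, Points.map a z = Points.map ((yon S).map cZ) (Points.schemeHomeo Z t) → t ∈ D := by
    intro z t hzt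
    obtain ⟨w, hw, -⟩ := exists_point_of_isPullback sqZ hzt.symm
    exact ⟨w, hw⟩
  by_cases hdense : Dense D
  swap
  · obtain ⟨q, hq⟩ : ∃ q, q ∉ closure D := by
      by_contra hne
      push Not at hne
      exact hdense (fun x => hne x)
    obtain ⟨_, ⟨b, rfl⟩, hqb, hbD⟩ :=
      PrimeSpectrum.isTopologicalBasis_basic_opens.exists_subset_of_mem_open hq isClosed_closure.isOpen_compl
    obtain ⟨b, rfl⟩ := Ideal.Quotient.mk_surjective b
    refine ⟨b, fun h => hqb ?_, ∅, isCompact_empty, Set.empty_subset _, fun z hz hbz => ?_⟩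
    · show Ideal.Quotient.mk I b ∈ q.asIdeal
      rw [Ideal.Quotient.eq_zero_iff_mem.mpr h]
      exact zero_mem _
    · obtain ⟨t, ht⟩ := hlift z hz
      refine absurd (subset_closure (hD z t ht)) (hbD ?_)
      intro htb
      refine hbz ?_
      have e1 : π z = PrimeSpectrum.comap (Ideal.Quotient.mk I) t := by
        show ψ.hom _ = _
        rw [ht, Points.map_yon_map_eq]
        simp only [Function.comp_apply, Homeomorph.symm_apply_apply]
        exact hπc t
      rw [e1]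
      exact htb
  let x₁ := BasedFunctor.comp (AlgSt.overMap cZ) (BasedFunctor.comp y (FibCat.fpFst _ _))
  let x₂ := BasedFunctor.comp (AlgSt.overMap cZ) (BasedFunctor.comp y (FibCat.fpSnd _ _))
  obtain ⟨O, hO, ⟨φ⟩⟩ := hii Z inferInstance inferInstance x₁ x₂ D hdense fun t ht => by
    obtain ⟨w, hw⟩ := ht
    induction w using Points.ind with
    | h q =>
    let p : (yon S).obj q.pt ⟶ pullback ((yon S).map cZ) a := q.toHom
    obtain ⟨g, hg⟩ := (yon S).map_surjective (p ≫ pullback.fst _ _)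
    have hgt : ∀ s, g.left s = t := fun s => by
      refine (Points.schemeHomeo Z).injective ?_
      have hq : Points.map p (Points.schemeHomeo q.pt s) = Points.mk q := by
        have : Subsingleton ↥(q.pt).left := inferInstanceAs (Subsingleton (PrimeSpectrum q.K))
        obtain rfl : s = IsLocalRing.closedPoint q.K := Subsingleton.elim _ _
        rw [mk_eq_ofPt, Points.ofPt_eq_map_ofScheme]
        rfl
      rw [← hw, ← hq, ← Points.map_comp, ← hg, Points.map_yon_map_eq]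
      simp
    refine ⟨q.K, q.field, g.left, ?_, ?_⟩
    · exact Set.eq_singleton_iff_nonempty_unique_mem.2 ⟨Set.range_nonempty _, by rintro _ ⟨s, rfl⟩; exact hgt s⟩
    · have hgc : (p ≫ pullback.snd _ _) ≫ a = (yon S).map (g ≫ cZ) := by
        refine ((Category.assoc _ _ _).trans (congrArg (p ≫ ·) pullback.condition.symm)).trans ?_
        rw [Functor.map_comp, hg]
        exact (Category.assoc _ _ _).symm
      obtain ⟨j⟩ := nonempty_iso_of_point (e := e) _ _ hgc
      have hw' : g.left ≫ Z.hom = q.str := Over.w g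
      let r : (Over.mk (g.left ≫ Z.hom) : Over S) ⟶ q.pt := Over.homMk (𝟙 _) ((Category.id_comp _).trans hw'.symm)
      let σ : BasedFunctor.comp (AlgSt.overMap r) (AlgSt.overMap (g ≫ cZ)) ≅
          BasedFunctor.comp (AlgSt.overMap (Over.homMk g.left rfl : Over.mk (g.left ≫ Z.hom) ⟶ Z))
            (AlgSt.overMap cZ) :=
        Groth.Agent.AlgStLib.overMapCompIso r (g ≫ cZ) ≪≫ eqToIso (congrArg AlgSt.overMap
          (Over.OverMorphism.ext (by simp [r]))) ≪≫ (Groth.Agent.AlgStLib.overMapCompIso _ _).symm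
      exact ⟨(whiskerRightIso σ (BasedFunctor.comp y (FibCat.fpFst _ _))).symm ≪≫ whiskerLeftIso (AlgSt.overMap r) j ≪≫
        whiskerRightIso σ (BasedFunctor.comp y (FibCat.fpSnd _ _))⟩
  obtain ⟨q, hq⟩ := hO.nonempty
  obtain ⟨_, ⟨b, rfl⟩, hqb, hbO⟩ :=
    PrimeSpectrum.isTopologicalBasis_basic_opens.exists_subset_of_mem_open hq O.2
  let E : (Z.left).Opens := PrimeSpectrum.basicOpen b
  have hE : IsAffineOpen E := IsAffineOpen.Spec_basicOpen b
  have hEO : E ≤ O := hbO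
  let T : Over S := Over.mk (E.ι ≫ Z.hom)
  have : IsAffine T.left := hE
  let ιE : T ⟶ Z := Over.homMk E.ι rfl
  let rE : T ⟶ Over.mk (O.ι ≫ Z.hom) := Over.homMk ((Z.left).homOfLE hEO) (by
    show (Z.left).homOfLE hEO ≫ O.ι ≫ Z.hom = E.ι ≫ Z.hom
    rw [← Category.assoc, Scheme.homOfLE_ι])
  let x₀ := BasedFunctor.comp (AlgSt.overMap (ιE ≫ cZ)) (BasedFunctor.comp y (FibCat.fpFst _ _))
  obtain ⟨F₀, e₀, he₀, hqc⟩ := hi T inferInstance x₀
  let σ : BasedFunctor.comp (AlgSt.overMap rE) (BasedFunctor.comp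
      (AlgSt.overMap (Over.homMk O.ι rfl : Over.mk (O.ι ≫ Z.hom) ⟶ Z)) (AlgSt.overMap cZ)) ≅
      AlgSt.overMap (ιE ≫ cZ) :=
    whiskerLeftIso _ (Groth.Agent.AlgStLib.overMapCompIso _ _) ≪≫ Groth.Agent.AlgStLib.overMapCompIso _ _ ≪≫
      eqToIso (congrArg AlgSt.overMap (by
        rw [← Category.assoc]
        exact congrArg (· ≫ cZ) (Over.OverMorphism.ext (Scheme.homOfLE_ι _ hEO))))
  let φ' : x₀ ≅ BasedFunctor.comp (AlgSt.overMap (ιE ≫ cZ)) (BasedFunctor.comp y (FibCat.fpSnd _ _)) :=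
    (whiskerRightIso σ (BasedFunctor.comp y (FibCat.fpFst _ _))).symm ≪≫ whiskerLeftIso (AlgSt.overMap rE) φ ≪≫
      whiskerRightIso σ (BasedFunctor.comp y (FibCat.fpSnd _ _))
  let i : FibCat.fpLift x₀ x₀ (Iso.refl _) ≅ BasedFunctor.comp (AlgSt.overMap (ιE ≫ cZ)) y :=
    pairIso (Iso.refl _) φ'
  have hG := property_pullback (e := e) stableBC_isQuasiCompactMor hF he (ιE ≫ cZ) i ⟨F₀, e₀, he₀, hqc⟩
  let G := pullback ((yon S).map (ιE ≫ cZ)) a
  have hGs : IsAlgSpace G := isAlgSpace_pullback (IsAlgSpace.yon_obj T) hF (IsAlgSpace.yon_obj U) _ _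
  have : CompactSpace T.left := inferInstance
  have hGq : IsQuasiCompactSp G :=
    hG (IsAlgSpace.yon_obj T) (Groth.Agent.AlgSpLib.isQuasiCompactSp_yon T) (𝟙 _) (𝟙 _) (pullback.fst _ _)
      (IsPullback.of_horiz_isIso ⟨(Category.id_comp _).trans (Category.comp_id _).symm⟩)
  have : CompactSpace (Points G) := (AlgSpPts.isQuasiCompactSp_iff hGs).1 hGq
  obtain ⟨b, rfl⟩ := Ideal.Quotient.mk_surjective b
  refine ⟨b, fun h => hqb ?_, Points.map (pullback.snd ((yon S).map (ιE ≫ cZ)) a) '' Set.univ,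
    isCompact_univ.image (Points.continuous_map _), ?_, fun z hz hbz => ?_⟩
  · show Ideal.Quotient.mk I b ∈ q.asIdeal
    rw [Ideal.Quotient.eq_zero_iff_mem.mpr h]
    exact zero_mem _
  · rintro _ ⟨w, -, rfl⟩
    obtain ⟨s, hs⟩ := (Points.schemeHomeo T).surjective (Points.map (pullback.fst _ _) w)
    show I ≤ (ψ.hom _).asIdeal
    rw [← Points.map_comp, ← pullback.condition, Points.map_comp, ← hs, Points.map_yon_map_eq]
    simp only [Function.comp_apply, Homeomorph.symm_apply_apply]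
    rw [Over.comp_left, Scheme.Hom.comp_apply, show cZ.left = c from rfl]
    refine le_of_le_of_eq ?_ (congrArg PrimeSpectrum.asIdeal (hπc _)).symm
    intro r hr
    refine Ideal.mem_comap.mpr ?_
    rw [Ideal.Quotient.eq_zero_iff_mem.mpr hr]
    exact zero_mem _
  · obtain ⟨t, ht⟩ := hlift z hz
    have e1 : π z = PrimeSpectrum.comap (Ideal.Quotient.mk I) t := by
      show ψ.hom _ = _
      rw [ht, Points.map_yon_map_eq]
      simp only [Function.comp_apply, Homeomorph.symm_apply_apply]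
      exact hπc t
    have htE : t ∈ E := by
      rw [e1] at hbz
      exact hbz
    obtain ⟨w, -, hw⟩ := exists_point_of_isPullback (IsPullback.of_hasPullback ((yon S).map (ιE ≫ cZ)) a)
      (x := Points.schemeHomeo T ⟨t, htE⟩) (y := z) (by
        rw [ht, Functor.map_comp, Points.map_comp, Points.map_yon_map_eq ιE]
        simp only [Function.comp_apply, Homeomorph.symm_apply_apply]
        rfl)
    exact ⟨w, trivial, hw⟩

/-- The diagonal is quasi-compact. -/
theorem repByAlgSpWith_diag [IsLocallyNoetherian S] (h𝒳 : AlgSt.IsAlgStack Scheme.fppfPrecoverage 𝒳)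
    (hlfp : ∀ (U : Over S) (x : FibCat.overCat U ⥤ᵇ 𝒳),
      AlgSt.RepByAlgSpWith (AlgSp.LocP @Smooth) x → LocallyOfFinitePresentation U.hom)
    (hfib : ∀ (U : Over S) [IsAffine U.left] [IsLocallyNoetherian U.left] (y : FibCat.overCat U ⥤ᵇ (FibCat.fp (FibCat.toSelf 𝒳) (FibCat.toSelf 𝒳)))
      (F : Sp S) (e : AlgSt.ofSp F ⥤ᵇ FibCat.fp y (FibCat.diag (FibCat.toSelf 𝒳))), IsAlgSpace F → FibCat.IsEquivOver e → CompactSpace (Points F)) :
    AlgSt.RepByAlgSpWith AlgSp.IsQuasiCompactMor (FibCat.diag (FibCat.toSelf 𝒳)) := by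
  obtain ⟨V, x, hx, hx'⟩ := h𝒳.atlas
  have := hlfp V x hx
  have hV : IsLocallyNoetherian V.left := LocallyOfFiniteType.isLocallyNoetherian V.hom
  let W := V ⨯ V
  have sq : IsPullback (prod.snd : W ⟶ V).left (prod.fst : W ⟶ V).left V.hom V.hom := by
    have h := (IsPullback.of_is_product' (prodIsProd V V) Over.mkIdTerminal).map (Over.forget S)
    have e : (Over.mkIdTerminal.from V).left = V.hom := by simpa using Over.w (Over.mkIdTerminal.from V)
    exact (show IsPullback (prod.fst : W ⟶ V).left (prod.snd : W ⟶ V).left V.hom V.hom by simpa [e] using h).flip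
  have : LocallyOfFinitePresentation (prod.fst : W ⟶ V).left :=
    MorphismProperty.of_isPullback sq ‹LocallyOfFinitePresentation V.hom›
  have : IsLocallyNoetherian W.left := LocallyOfFiniteType.isLocallyNoetherian (prod.fst : W ⟶ V).left
  have hxe : LocEssSurj x := locEssSurj_of_repByAlgSp
    (repByAlgSpWith_mono (fun _ _ _ => locP_mono fun _ _ g (_ : Smooth g) => (inferInstance : Flat g)) hx)
    (repByAlgSpWith_mono (fun _ _ _ => locP_mono fun _ _ g (_ : Smooth g) =>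
      (inferInstance : LocallyOfFinitePresentation g)) hx) hx'
  let w₀ : FibCat.overCat W ⥤ᵇ (FibCat.fp (FibCat.toSelf 𝒳) (FibCat.toSelf 𝒳)) := FibCat.fpLift (BasedFunctor.comp (AlgSt.overMap (prod.fst : V ⨯ V ⟶ V)) x)
    (BasedFunctor.comp (AlgSt.overMap (prod.snd : V ⨯ V ⟶ V)) x) (selfIso _ _)
  let w : AlgSt.ofSch W ⥤ᵇ (FibCat.fp (FibCat.toSelf 𝒳) (FibCat.toSelf 𝒳)) := BasedFunctor.comp (AlgSt.toOverCat W) w₀
  have hW := isEquivOver_toOverCat W
  have hwe : LocEssSurj w := locEssSurj_comp (locEssSurj_of_repByAlgSp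
    (repByAlgSpWith_of_isEquivOver (fun φ _ => locP_mono (fun _ _ g (_ : Smooth g) => (inferInstance : Flat g))
      (locP_smooth_of_isIso φ)) hW)
    (repByAlgSpWith_of_isEquivOver (fun φ _ => locP_mono (fun _ _ g (_ : Smooth g) =>
      (inferInstance : LocallyOfFinitePresentation g)) (locP_smooth_of_isIso φ)) hW)
    (repByAlgSpWith_of_isEquivOver (fun φ _ => Groth.Agent.AlgSpLib.isSurjectiveMor_of_isIso φ) hW))
    (locEssSurj_pair hxe _)
  obtain ⟨F, e, he⟩ := h𝒳.diag W w₀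
  let a := AlgSt.spMapOfOver (BasedFunctor.comp e (FibCat.fpFst w₀ (FibCat.diag (FibCat.toSelf 𝒳))))
  have hqc : IsQuasiCompactMor a := by
    let Ui : W.left.affineOpens → Over S := fun K => Over.mk (K.1.ι ≫ W.hom)
    let gi : ∀ K, Ui K ⟶ W := fun K => Over.homMk K.1.ι rfl
    have hU : ∀ K, IsAlgSpace ((yon S).obj (Ui K)) := fun K => IsAlgSpace.yon_obj _
    refine (isLocalOnBase_fppf_of_fpqc isLocalOnBase_fpqc_isQuasiCompactMor (fun K => (yon S).obj (Ui K))
      (fun K => (yon S).map (gi K)) (IsAlgSpace.yon_obj W) hU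
      (isFppfCover_yon_map Ui gi (fun K => inferInstanceAs (Flat K.1.ι))
        (fun K => inferInstanceAs (LocallyOfFinitePresentation K.1.ι)) fun t => ?_)
      a F.property (fun K => pullback a ((yon S).map (gi K))) (fun _ => pullback.snd _ _) (fun _ => pullback.fst _ _)
      (fun K => isAlgSpace_pullback F.property (hU K) (IsAlgSpace.yon_obj W) _ _)
      fun K => IsPullback.of_hasPullback _ _).2 fun K => ?_
    · obtain ⟨K, hK, ht, -⟩ := exists_isAffineOpen_mem_and_subset (U := (⊤ : W.left.Opens)) (x := t) trivial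
      exact ⟨⟨K, hK⟩, ⟨t, ht⟩, rfl⟩
    · have : IsAffine (Ui K).left := K.2
      have : IsLocallyNoetherian (Ui K).left := inferInstanceAs (IsLocallyNoetherian K.1.toScheme)
      obtain ⟨F', e', he'⟩ := h𝒳.diag (Ui K) (BasedFunctor.comp (AlgSt.overMap (gi K)) w₀)
      have hc := hfib (Ui K) _ F'.obj e' F'.property he'
      have hqs : IsQuasiSeparatedSp ((yon S).obj (Ui K)) :=
        (isQuasiSeparatedSp_yon_iff' _).2 (quasiSeparated_hom_of_affine _)
      have hP := property_pullback (e := e) stableBC_isQuasiCompactMor F.property he (gi K) (Iso.refl _)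
        ⟨F', e', he', AlgSpPts.isQuasiCompactMor_of_qc_qs F'.property (hU K)
          ((AlgSpPts.isQuasiCompactSp_iff F'.property).2 hc) hqs _⟩
      rw [← pullbackSymmetry_hom_comp_fst]
      exact stableBC_isQuasiCompactMor.precomp
        (isAlgSpace_pullback (hU K) F.property (IsAlgSpace.yon_obj W) _ _) (hU K) (pullbackSymmetry _ _).hom hP
  have : (BasedFunctor.id (FibCat.fp (FibCat.toSelf 𝒳) (FibCat.toSelf 𝒳))).toFunctor.Full := inferInstanceAs (𝟭 _).Full
  have : (BasedFunctor.id (FibCat.fp (FibCat.toSelf 𝒳) (FibCat.toSelf 𝒳))).toFunctor.Faithful := inferInstanceAs (𝟭 _).Faithful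
  let α : BasedFunctor.comp (AlgSt.ofOverCat W) w ≅ BasedFunctor.comp w₀ (BasedFunctor.id _) :=
    whiskerRightIso (ofOverCatIso W) w₀
  let m : FibCat.fp w₀ (FibCat.diag (FibCat.toSelf 𝒳)) ⥤ᵇ FibCat.fp w (FibCat.diag (FibCat.toSelf 𝒳)) :=
    fpMap (F := w) (G := (FibCat.diag (FibCat.toSelf 𝒳))) (F' := w₀) (G' := (FibCat.diag (FibCat.toSelf 𝒳))) (a := AlgSt.ofOverCat W) (b := BasedFunctor.id 𝒳) α (Iso.refl _)
  have hm : FibCat.IsEquivOver m := fpMap_isEquivOver _ _ (isEquivOver_ofOverCat W) isEquivOver_id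
  refine (repByAlgSpWith_iff_exists_cover stableBC_isQuasiCompactMor
    (isLocalOnBase_fppf_of_fpqc isLocalOnBase_fpqc_isQuasiCompactMor) h𝒳.isStack.1
    (fp_isFibGrpd h𝒳.isStack.1 h𝒳.isStack.1 isFibGrpd_selfOver) h𝒳.diag
    ⟨_, IsAlgSpace.yon_obj W⟩ w hwe).2 ⟨F, ObjectProperty.homMk a,
      BasedFunctor.comp e m, isEquivOver_comp he hm, ⟨?_⟩, hqc⟩
  exact whiskerRightIso (isoSpMapOfOver (BasedFunctor.comp e (FibCat.fpFst w₀ (FibCat.diag (FibCat.toSelf 𝒳))))) (AlgSt.ofOverCat W) ≪≫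
    whiskerLeftIso (AlgSt.ofSpMap a) (toOverCatIso W)

end Groth.Agent.FCov14.DiagQC
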