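import Groth.Agent.AlgStLib.SepUnivClosed
import Groth.Agent.AlgStLib.SpaceCalc
import Groth.Agent.AlgStLib.FppfSite
import Groth.Agent.AlgStLib.Pts
import Groth.Agent.AlgStLib.SpProps
import Groth.Agent.AlgStLib.Diag

/-! Properties of representable functors are local for etale families of functors. -/

set_option autoImplicit false
set_option linter.style.haveILetI false
set_option backward.isDefEq.respectTransparency false
set_option backward.isDefEq.respectTransparency.types false

noncomputable section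

universe u

open CategoryTheory CategoryTheory.Functor CategoryTheory.Limits AlgebraicGeometry Opposite AlgSp

namespace Groth.Agent.FCov14.EtDescend

open Groth.Agent.FibBase Groth.Agent.AlgSpLib Groth.Agent.AlgStLib

variable {S : Scheme.{u}} {ℐ 𝒳 : AlgSt.Cat S}

theorem toOverCat_overMapIso {Q U : Over S} (k : Q ⟶ U) :
    Nonempty (BasedFunctor.comp (AlgSt.toOverCat Q) (AlgSt.overMap k) ≅
      BasedFunctor.comp (AlgSt.ofSpMap ((yon S).map k)) (AlgSt.toOverCat U)) :=
  ⟨overIso _ _ fun x => by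
    show 𝟙 x.base ≫ (x.sec.down ≫ k) = x.sec.down ≫ k
    simp⟩

/-- A property local for flat coverings is read on an etale family of functors through all points. -/
theorem repByAlgSpWith_of_etale_cover {P : MorphismProperty (Sp S)} (hPb : StableBC P)
    (hPl : IsLocalOnBase IsFppfCover P) (h𝒳 : FibCat.IsFibGrpd 𝒳.p) {f : ℐ ⥤ᵇ 𝒳} (hf : AlgSt.RepByAlgSp1 f)
    (hloc : ∀ x : AlgSt.Points 𝒳, ∃ (𝒰 : AlgSt.Cat S) (h : 𝒰 ⥤ᵇ 𝒳), FibCat.IsFibGrpd 𝒰.p ∧
      x ∈ Set.range (AlgSt.Points.map h) ∧ AlgSt.RepByAlgSpWith IsEtaleMor h ∧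
      AlgSt.RepByAlgSpWith P (FibCat.fpFst h f)) :
    AlgSt.RepByAlgSpWith P f := by
  intro U y
  obtain ⟨G, eG, heG⟩ := hf U y
  let b := AlgSt.spMapOfOver (BasedFunctor.comp eG (FibCat.fpFst y f))
  have key : ∀ t : U.left, ∃ (Q : Over S) (κ : Q ⟶ U), Etale κ.left ∧ t ∈ Set.range κ.left ∧
      RepOver P (FibCat.fpFst (BasedFunctor.comp (AlgSt.overMap κ) y) f) := fun t => by
    obtain ⟨𝒰, h, hU, ⟨x, hx⟩, he, hP⟩ := hloc (AlgSt.Points.map y (ptAt U t))
    obtain ⟨w, hw, -⟩ := exists_pts_fp hU h𝒳 (isFibGrpd_overCat U) h y (ptAt U t) x hx.symm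
    obtain ⟨F, e, hee, ha⟩ := he U y
    let a := AlgSt.spMapOfOver (BasedFunctor.comp e (FibCat.fpFst y h))
    obtain ⟨Q, c, hc, hcs⟩ := F.property.atlas
    let κ : Q ⟶ U := (yon S).preimage (c ≫ a)
    have hκ : (yon S).map κ = c ≫ a := (yon S).map_preimage _
    have hla : LocP @Etale a := (isEtaleMor_iff_locP F.property (IsAlgSpace.yon_obj U) a).1 ha
    haveI : Etale κ.left := hla c (𝟙 _) κ hc (repWith_id _ _) (by rw [Category.comp_id, hκ])
    obtain ⟨w', hw'⟩ := (pts_bijective_of_isEquivOver hee).2 w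
    obtain ⟨q, hq⟩ := surjective_map_of_repWith hcs (spPt w')
    refine ⟨Q, κ, inferInstance, ⟨(Points.schemeHomeo Q).symm q, ?_⟩, ?_⟩
    · refine (Points.schemeHomeo U).injective ?_
      have h1 : Points.schemeHomeo U t = Points.map a (spPt w') := by
        refine (Points.schemeHomeo U).symm.injective ?_
        rw [Homeomorph.symm_apply_apply]
        show t = Points.toScheme U (Points.map a (spPt w'))
        rw [← toSch_map, pts_map_comp, hw', hw, toSch_ptAt]
      rw [h1, ← hq, ← Points.map_comp, ← hκ, Points.map_yon_map_eq, Function.comp_apply, Function.comp_apply]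
    · let o : FibCat.overCat Q ⥤ᵇ FibCat.fp y h := BasedFunctor.comp (overOfMap c) e
      let z : FibCat.overCat Q ⥤ᵇ 𝒰 := BasedFunctor.comp o (FibCat.fpSnd y h)
      let j : BasedFunctor.comp o (FibCat.fpFst y h) ≅ AlgSt.overMap κ :=
        whiskerLeftIso (overOfMap c) (isoSpMapOfOver (BasedFunctor.comp e (FibCat.fpFst y h))) ≪≫
          overIso _ _ (fun x => by
            show 𝟙 x.left ≫ (x.hom ≫ κ) = 𝟙 x.left ≫ ((c ≫ a).hom.app (op x.left) ⟨x.hom⟩).down
            rw [← hκ]
            rfl)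
      exact repOver_congr ((whiskerLeftIso o (FibCat.fpIso y h)).symm ≪≫ whiskerRightIso j y)
        (RepOver.of_equiv (hP Q z) (pasteVert z h f) (pasteVert_isEquivOver z h f) (Iso.refl _))
  choose Q κ hκe hκt hP using key
  refine ⟨G, eG, heG, (hPl (fun t => (yon S).obj (Q t)) (fun t => (yon S).map (κ t)) (IsAlgSpace.yon_obj U)
    (fun t => IsAlgSpace.yon_obj _) (isFppfCover_yon_map Q κ (fun t => by have := hκe t; infer_instance)
      (fun t => by have := hκe t; infer_instance) fun t => ⟨t, hκt t⟩) b G.property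
    (fun t => pullback b ((yon S).map (κ t))) (fun t => pullback.snd _ _) (fun t => pullback.fst _ _)
    (fun t => isAlgSpace_pullback G.property (IsAlgSpace.yon_obj _) (IsAlgSpace.yon_obj U) _ _)
    (fun t => IsPullback.of_hasPullback _ _)).2 fun t => ?_⟩
  obtain ⟨k, hk, ⟨k₁⟩, -⟩ := exists_spCone (IsPullback.of_hasPullback b ((yon S).map (κ t))).flip
  haveI := full_of_isEquivOver (isEquivOver_toOverCat U)
  haveI := faithful_of_isEquivOver (isEquivOver_toOverCat U)
  obtain ⟨i₀⟩ := toOverCat_overMapIso (κ t)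
  let m := fpMap (F := AlgSt.overMap (κ t)) (G := FibCat.fpFst y f) (F' := AlgSt.ofSpMap ((yon S).map (κ t)))
    (G' := AlgSt.ofSpMap b) (a := AlgSt.toOverCat (Q t)) (b := eG) (c := AlgSt.toOverCat U) i₀
    (isoSpMapOfOver (BasedFunctor.comp eG (FibCat.fpFst y f))).symm
  let E := BasedFunctor.comp k (BasedFunctor.comp m (pasteVert (AlgSt.overMap (κ t)) y f))
  have hE : FibCat.IsEquivOver E := isEquivOver_comp hk (isEquivOver_comp
    (fpMap_isEquivOver _ _ (isEquivOver_toOverCat (Q t)) heG) (pasteVert_isEquivOver _ y f))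
  have h1 := (RepOver.property_of_stableBC hPb (hP t) E hE).2
  rw [spMapOfOver_congr (show BasedFunctor.comp E (FibCat.fpFst _ f) ≅
    BasedFunctor.comp (AlgSt.ofSpMap (pullback.snd b ((yon S).map (κ t)))) (AlgSt.toOverCat (Q t)) from
    whiskerRightIso k₁ (AlgSt.toOverCat (Q t))), spMapOfOver_ofSpMap_toOverCat] at h1
  exact h1

end Groth.Agent.FCov14.EtDescend
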