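import Groth.Agent.FCov14.PushfSpace

/-! Sections along a morphism as natural families of values. -/

set_option autoImplicit false
set_option backward.isDefEq.respectTransparency false
set_option backward.isDefEq.respectTransparency.types false

universe u

open CategoryTheory CategoryTheory.Limits Opposite AlgebraicGeometry AlgSp
open Groth.Agent.AlgSpLib Groth.Agent.AlgStLib

namespace Groth.Agent.FCov14.Pushf

variable {S : Scheme.{u}} {B Z : Over S} {pz : Z ⟶ B} {F : Sp S} {π : F ⟶ (yon S).obj Z}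

/-- The value of a section. -/
noncomputable def Sec.ev {W : Over S} (x : Sec pz π W) {V : Over S} (w : V ⟶ W) (z : V ⟶ Z)
    (e : w ≫ x.b = z ≫ pz) : (yon S).obj V ⟶ F :=
  (yon S).map (pbLift pz w z e) ≫ x.s

theorem Sec.ev_π {W : Over S} (x : Sec pz π W) {V : Over S} (w : V ⟶ W) (z : V ⟶ Z) (e : w ≫ x.b = z ≫ pz) :
    x.ev w z e ≫ π = (yon S).map z := by
  rw [Sec.ev, Category.assoc, x.w, ← Functor.map_comp, pbLift_snd]

theorem Sec.ev_congr {W : Over S} (x : Sec pz π W) {V : Over S} {w w' : V ⟶ W} {z z' : V ⟶ Z}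
    (e : w ≫ x.b = z ≫ pz) (e' : w' ≫ x.b = z' ≫ pz) (hw : w = w') (hz : z = z') :
    x.ev w z e = x.ev w' z' e' := by
  subst hw hz; rfl

theorem pbLift_comp {W V V' : Over S} {b : W ⟶ B} (g : V' ⟶ V) (w : V ⟶ W) (z : V ⟶ Z) (e : w ≫ b = z ≫ pz)
    (e' : (g ≫ w) ≫ b = (g ≫ z) ≫ pz) : g ≫ pbLift pz w z e = pbLift pz (g ≫ w) (g ≫ z) e' :=
  pb_hom_ext pz (by rw [Category.assoc, pbLift_fst, pbLift_fst]) (by rw [Category.assoc, pbLift_snd, pbLift_snd])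

theorem Sec.ev_comp {W : Over S} (x : Sec pz π W) {V V' : Over S} (g : V' ⟶ V) (w : V ⟶ W) (z : V ⟶ Z)
    (e : w ≫ x.b = z ≫ pz) (e' : (g ≫ w) ≫ x.b = (g ≫ z) ≫ pz) :
    (yon S).map g ≫ x.ev w z e = x.ev (g ≫ w) (g ≫ z) e' := by
  rw [Sec.ev, Sec.ev, ← Functor.map_comp_assoc, pbLift_comp g w z e e']

theorem Sec.ev_res {W W' : Over S} (x : Sec pz π W) (k : W' ⟶ W) {V : Over S} (w : V ⟶ W') (z : V ⟶ Z)
    (e : w ≫ (x.res k).b = z ≫ pz) (e' : (w ≫ k) ≫ x.b = z ≫ pz) :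
    (x.res k).ev w z e = x.ev (w ≫ k) z e' := by
  show (yon S).map _ ≫ (yon S).map _ ≫ x.s = _
  rw [← Functor.map_comp_assoc, Sec.ev]
  congr 2
  exact pb_hom_ext pz ((Category.assoc _ _ _).trans ((congrArg (_ ≫ ·) (pbMap_fst _ _ _)).trans
    ((pbLift_fst_assoc _ _ _ _ _).trans (pbLift_fst _ _ _ _).symm)))
    ((Category.assoc _ _ _).trans ((congrArg (_ ≫ ·) (pbMap_snd _ _ _)).trans
    ((pbLift_snd _ _ _ _).trans (pbLift_snd _ _ _ _).symm)))

theorem pbLift_pr {W : Over S} (b : W ⟶ B) : pbLift pz (prW pz b) (prZ pz b) (pb_condition pz b) = 𝟙 _ :=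
  pb_hom_ext pz (by rw [pbLift_fst, Category.id_comp]) (by rw [pbLift_snd, Category.id_comp])

theorem Sec.ext_ev {W : Over S} {x y : Sec pz π W} (hb : x.b = y.b)
    (h : ∀ (V : Over S) (w : V ⟶ W) (z : V ⟶ Z) (e : w ≫ x.b = z ≫ pz),
      x.ev w z e = y.ev w z (by rw [← hb]; exact e)) : x = y := by
  obtain ⟨b, s, hs⟩ := x
  obtain ⟨b', s', hs'⟩ := y
  obtain rfl : b = b' := hb
  have := h _ (prW pz b) (prZ pz b) (pb_condition pz b)
  simp only [Sec.ev, pbLift_pr, CategoryTheory.Functor.map_id, Category.id_comp] at this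
  subst this
  rfl

/-- A section from a natural family of values. -/
noncomputable def mkSec {W : Over S} (b : W ⟶ B)
    (val : ∀ ⦃V : Over S⦄ (w : V ⟶ W) (z : V ⟶ Z), w ≫ b = z ≫ pz → ((yon S).obj V ⟶ F))
    (hπ : ∀ ⦃V : Over S⦄ (w : V ⟶ W) (z : V ⟶ Z) (e : w ≫ b = z ≫ pz), val w z e ≫ π = (yon S).map z) :
    Sec pz π W :=
  ⟨b, val (prW pz b) (prZ pz b) (pb_condition pz b), hπ _ _ _⟩

theorem mkSec_ev {W : Over S} (b : W ⟶ B)
    (val : ∀ ⦃V : Over S⦄ (w : V ⟶ W) (z : V ⟶ Z), w ≫ b = z ≫ pz → ((yon S).obj V ⟶ F))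
    (hπ : ∀ ⦃V : Over S⦄ (w : V ⟶ W) (z : V ⟶ Z) (e : w ≫ b = z ≫ pz), val w z e ≫ π = (yon S).map z)
    (hnat : ∀ ⦃V' V : Over S⦄ (g : V' ⟶ V) (w : V ⟶ W) (z : V ⟶ Z) (e : w ≫ b = z ≫ pz),
      val (g ≫ w) (g ≫ z) (by rw [Category.assoc, e, Category.assoc]) = (yon S).map g ≫ val w z e)
    {V : Over S} (w : V ⟶ W) (z : V ⟶ Z) (e : w ≫ b = z ≫ pz) : (mkSec b val hπ).ev w z e = val w z e := by
  refine (hnat _ _ _ _).symm.trans ?_
  congr 1
  · exact pbLift_fst _ _ _ _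
  · exact pbLift_snd _ _ _ _

/-- Sections with values in a sheaf. -/
noncomputable def cst (pz : Z ⟶ B) (G : Sp S) : Sp S := sheaf pz (prod.snd : G ⨯ (yon S).obj Z ⟶ (yon S).obj Z)

/-- Constant sections. -/
abbrev CSec (pz : Z ⟶ B) (G : Sp S) (W : Over S) : Type (u + 1) :=
  Sec pz (prod.snd : G ⨯ (yon S).obj Z ⟶ (yon S).obj Z) W

variable {G : Sp S}

/-- The value of a constant section. -/
noncomputable def CSec.val {W : Over S} (x : CSec pz G W) {V : Over S} (w : V ⟶ W) (z : V ⟶ Z)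
    (e : w ≫ x.b = z ≫ pz) : (yon S).obj V ⟶ G :=
  x.ev w z e ≫ prod.fst

theorem CSec.val_comp {W : Over S} (x : CSec pz G W) {V V' : Over S} (g : V' ⟶ V) (w : V ⟶ W) (z : V ⟶ Z)
    (e : w ≫ x.b = z ≫ pz) (e' : (g ≫ w) ≫ x.b = (g ≫ z) ≫ pz) :
    (yon S).map g ≫ CSec.val x w z e = CSec.val x (g ≫ w) (g ≫ z) e' := by
  rw [CSec.val, CSec.val, ← Category.assoc, Sec.ev_comp x g w z e e']

theorem CSec.val_res {W W' : Over S} (x : CSec pz G W) (k : W' ⟶ W) {V : Over S} (w : V ⟶ W') (z : V ⟶ Z)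
    (e : w ≫ (x.res k).b = z ≫ pz) (e' : (w ≫ k) ≫ x.b = z ≫ pz) :
    CSec.val (x.res k) w z e = CSec.val x (w ≫ k) z e' := by
  rw [CSec.val, CSec.val, Sec.ev_res x k w z e e']

theorem CSec.ext_val {W : Over S} {x y : CSec pz G W} (hb : x.b = y.b)
    (h : ∀ (V : Over S) (w : V ⟶ W) (z : V ⟶ Z) (e : w ≫ x.b = z ≫ pz),
      CSec.val x w z e = CSec.val y w z (by rw [← hb]; exact e)) : x = y :=
  Sec.ext_ev hb fun V w z e => Limits.prod.hom_ext (h V w z e) ((x.ev_π w z e).trans (y.ev_π w z _).symm)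

/-- A constant section from a natural family of values. -/
noncomputable def mkCSec {W : Over S} (b : W ⟶ B)
    (val : ∀ ⦃V : Over S⦄ (w : V ⟶ W) (z : V ⟶ Z), w ≫ b = z ≫ pz → ((yon S).obj V ⟶ G)) : CSec pz G W :=
  mkSec b (fun V w z e => prod.lift (val w z e) ((yon S).map z)) fun V w z e => prod.lift_snd _ _

theorem mkCSec_val {W : Over S} (b : W ⟶ B)
    (val : ∀ ⦃V : Over S⦄ (w : V ⟶ W) (z : V ⟶ Z), w ≫ b = z ≫ pz → ((yon S).obj V ⟶ G))
    (hnat : ∀ ⦃V' V : Over S⦄ (g : V' ⟶ V) (w : V ⟶ W) (z : V ⟶ Z) (e : w ≫ b = z ≫ pz),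
      val (g ≫ w) (g ≫ z) (by rw [Category.assoc, e, Category.assoc]) = (yon S).map g ≫ val w z e)
    {V : Over S} (w : V ⟶ W) (z : V ⟶ Z) (e : w ≫ b = z ≫ pz) : CSec.val (mkCSec b val) w z e = val w z e := by
  refine (congrArg (· ≫ prod.fst) (mkSec_ev b (fun V w z e => prod.lift (val w z e) ((yon S).map z))
    (fun V w z e => prod.lift_snd _ _) (fun V' V g w z e => by
      rw [prod.comp_lift, hnat g w z e, Functor.map_comp]) w z e)).trans ?_
  exact prod.lift_fst _ _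

/-- The map on constant sections of a map of sheaves. -/
noncomputable def cstMap (pz : Z ⟶ B) {G' : Sp S} (g : G ⟶ G') : cst pz G ⟶ cst pz G' :=
  map (pz := pz) (π := (prod.snd : G ⨯ (yon S).obj Z ⟶ (yon S).obj Z))
    (π' := (prod.snd : G' ⨯ (yon S).obj Z ⟶ (yon S).obj Z)) (prod.map g (𝟙 _))
    ((prod.map_snd g (𝟙 _)).trans (Category.comp_id _))

theorem val_push {G' : Sp S} (g : G ⟶ G') {W : Over S} (x : CSec pz G W) {V : Over S} (w : V ⟶ W) (z : V ⟶ Z)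
    (e : w ≫ x.b = z ≫ pz) :
    CSec.val (Sec.push (π' := (prod.snd : G' ⨯ (yon S).obj Z ⟶ (yon S).obj Z)) (prod.map g (𝟙 _))
      ((prod.map_snd g (𝟙 _)).trans (Category.comp_id _)) x) w z e = CSec.val x w z e ≫ g := by
  show ((yon S).map _ ≫ x.s ≫ prod.map g (𝟙 _)) ≫ prod.fst = ((yon S).map _ ≫ x.s) ≫ prod.fst ≫ g
  simp only [Category.assoc, prod.map_fst]

end Groth.Agent.FCov14.Pushf
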