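import Groth.Agent.GrpSchLib.ExtSmooth
import Groth.Agent.EtFound.FinitePoints

/-! Smooth surjections onto finite schemes over algebraically closed fields have sections. -/

set_option autoImplicit false
set_option backward.isDefEq.respectTransparency false
set_option backward.isDefEq.respectTransparency.types false

universe u

open CategoryTheory CategoryTheory.Limits AlgebraicGeometry

namespace Groth.Agent.FCov14

variable {K : Type u} [Field K] [IsAlgClosed K]

/-- A smooth surjection onto a one-point finite scheme over an algebraically closed field has a section. -/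
theorem exists_section_subsingleton {Q P : Scheme.{u}} (a : Q ⟶ Spec (CommRingCat.of K)) [IsFinite a]
    [Subsingleton Q] [Nonempty Q] (e : P ⟶ Q) [Smooth e] [Surjective e] : ∃ s, s ≫ e = 𝟙 Q := by
  have : IsAffine Q := isAffine_of_isAffineHom a
  let A := Γ(Q, ⊤)
  obtain ⟨φ, hφ⟩ := Spec.map_surjective (Q.isoSpec.inv ≫ a)
  letI : Algebra K A := φ.hom.toAlgebra
  have hfin : IsFinite (Spec.map φ) := hφ ▸ inferInstanceAs (IsFinite (Q.isoSpec.inv ≫ a))
  haveI : Module.Finite K A := RingHom.finite_algebraMap.1 ((IsFinite.SpecMap_iff φ).1 hfin)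
  haveI : Subsingleton (PrimeSpectrum A) := Q.isoSpec.inv.homeomorph.injective.subsingleton
  obtain ⟨l, hl, -⟩ := Groth.Agent.EtFound.exists_section_of_integral (Spec.map φ) (Q.isoSpec.hom.base (Classical.arbitrary Q))
  obtain ⟨ψ, hψ⟩ := Spec.map_surjective l
  have hψK : φ ≫ ψ = 𝟙 _ := Spec.map_injective (by rw [Spec.map_comp, hψ, hl, Spec.map_id])
  let χ : A →ₐ[K] K := AlgHom.mk ψ.hom fun r => ConcreteCategory.congr_hom hψK r
  have hn : IsNilpotent (RingHom.ker χ.toRingHom) := by
    haveI : IsNoetherianRing A := IsNoetherianRing.of_finite K A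
    refine Ideal.FG.isNilpotent_iff_le_nilradical (IsNoetherian.noetherian _) |>.2 ?_
    rw [nilradical_eq_sInf]
    refine le_sInf fun P hP => ?_
    have : P.IsPrime := hP
    have hk : (RingHom.ker χ.toRingHom).IsPrime := RingHom.ker_isPrime _
    have := Subsingleton.elim (⟨P, hP⟩ : PrimeSpectrum A) ⟨_, hk⟩
    exact le_of_eq (congrArg PrimeSpectrum.asIdeal this).symm
  have : LocallyOfFiniteType ((e ≫ Q.isoSpec.hom) ≫ Spec.map (CommRingCat.ofHom (algebraMap K A))) := by
    haveI : LocallyOfFiniteType (Spec.map (CommRingCat.ofHom (algebraMap K A))) := by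
      rw [show CommRingCat.ofHom (algebraMap K A) = φ from rfl]
      infer_instance
    infer_instance
  obtain ⟨s, hs⟩ := Groth.Agent.GrpSchLib.ExtSmooth.exists_section A χ hn (e ≫ Q.isoSpec.hom)
  exact ⟨Q.isoSpec.hom ≫ s, by rw [← cancel_mono Q.isoSpec.hom, Category.assoc, Category.assoc, hs]; exact (Category.comp_id _).trans (Category.id_comp _).symm⟩

/-- A smooth surjection onto a finite scheme over an algebraically closed field has a section. -/
theorem exists_section_finite {Q P : Scheme.{u}} (a : Q ⟶ Spec (CommRingCat.of K)) [IsFinite a]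
    (e : P ⟶ Q) [Smooth e] [Surjective e] : ∃ s, s ≫ e = 𝟙 Q := by
  have : DiscreteTopology Q := by
    have h1 := a.isDiscrete_preimage_singleton (IsLocalRing.closedPoint K)
    rw [show a ⁻¹' {IsLocalRing.closedPoint K} = Set.univ from
      Set.eq_univ_of_forall fun x => Subsingleton.elim _ _] at h1
    exact isDiscrete_univ_iff.1 h1
  let O : Q → Q.Opens := fun q => ⟨{q}, isOpen_discrete _⟩
  have hO : ⨆ q, O q = ⊤ := TopologicalSpace.Opens.ext (Set.eq_univ_of_forall fun q =>
    TopologicalSpace.Opens.mem_iSup.2 ⟨q, rfl⟩)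
  have hsec : ∀ q, ∃ s : (O q).toScheme ⟶ P, s ≫ e = (O q).ι := fun q => by
    have : Subsingleton (O q).toScheme := ⟨fun x y => Subtype.ext ((Set.mem_singleton_iff.1 x.2).trans
      (Set.mem_singleton_iff.1 y.2).symm)⟩
    have : Nonempty (O q).toScheme := ⟨⟨q, rfl⟩⟩
    have : IsClosedImmersion (O q).ι := IsClosedImmersion.of_isPreimmersion _ (by
      rw [Scheme.Opens.range_ι]; exact isClosed_discrete _)
    obtain ⟨s, hs⟩ := exists_section_subsingleton ((O q).ι ≫ a) (pullback.snd e (O q).ι)
    exact ⟨s ≫ pullback.fst _ _, by rw [Category.assoc, pullback.condition, ← Category.assoc, hs, Category.id_comp]⟩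
  choose s hs using hsec
  let 𝒰 := Scheme.openCoverOfIsOpenCover Q O hO
  have hc : ∀ i j, pullback.fst (𝒰.f i) (𝒰.f j) ≫ s i = pullback.snd (𝒰.f i) (𝒰.f j) ≫ s j := by
    intro i j
    by_cases hij : i = j
    · subst hij
      haveI : Mono (𝒰.f i) := inferInstanceAs (Mono (O i).ι)
      rw [show pullback.fst (𝒰.f i) (𝒰.f i) = pullback.snd (𝒰.f i) (𝒰.f i) from
        (cancel_mono (𝒰.f i)).1 pullback.condition]
    · have : IsEmpty ↥(pullback (𝒰.f i) (𝒰.f j)) := ⟨fun z => hij (by
        have h := congrArg (fun f => f z) (pullback.condition (f := 𝒰.f i) (g := 𝒰.f j))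
        have hi : (pullback.fst (𝒰.f i) (𝒰.f j) ≫ 𝒰.f i) z = i := ((pullback.fst (𝒰.f i) (𝒰.f j)) z).2
        have hj : (pullback.snd (𝒰.f i) (𝒰.f j) ≫ 𝒰.f j) z = j := ((pullback.snd (𝒰.f i) (𝒰.f j)) z).2
        exact hi.symm.trans (h.trans hj))⟩
      exact isInitialOfIsEmpty.hom_ext _ _
  refine ⟨𝒰.glueMorphisms s hc, 𝒰.hom_ext _ _ fun i => ?_⟩
  rw [Scheme.Cover.ι_glueMorphisms_assoc, hs, Category.comp_id]
  rfl

end Groth.Agent.FCov14
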