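import Mathlib

/-! A criterion of smoothness at a prime by lifting to local rings. -/

universe u

set_option autoImplicit false
set_option maxHeartbeats 800000

open TensorProduct

namespace Groth.Agent.FCov14


/-- A quotient of a local formally smooth algebra is formally smooth when local lifts exist. -/
theorem formallySmooth_of_lifts {R E P A : Type u} [CommRing R] [CommRing E] [Algebra R E] [CommRing P] [IsLocalRing P]
    [Algebra R P] [Algebra.FormallySmooth R P] [CommRing A] [IsLocalRing A] [Algebra R A] [Algebra E A]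
    [IsScalarTower R E A] (W : Submonoid E) [IsLocalization W A] (f : P →ₐ[R] A) (hf : Function.Surjective f)
    (H : ∀ (R' : Type u) [CommRing R'] [IsLocalRing R'] [Algebra R R'] (π : R' →ₐ[R] A),
      Function.Surjective π → RingHom.ker π ^ 2 = ⊥ → ∃ g : E →ₐ[R] R', π.comp g = IsScalarTower.toAlgHom R E A) :
    Algebra.FormallySmooth R A := by
  have hks : Function.Surjective f.kerSquareLift := Ideal.Quotient.lift_surjective_of_surjective _ _ hf
  have hsq : RingHom.ker f.kerSquareLift ^ 2 = ⊥ := by
    show RingHom.ker f.kerSquareLift.toRingHom ^ 2 = ⊥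
    rw [AlgHom.ker_kerSquareLift, Ideal.cotangentIdeal_square]
  have : Nontrivial (P ⧸ RingHom.ker f.toRingHom ^ 2) := f.kerSquareLift.toRingHom.domain_nontrivial
  have : IsLocalRing (P ⧸ RingHom.ker f.toRingHom ^ 2) := IsLocalRing.of_surjective' (Ideal.Quotient.mk _) Ideal.Quotient.mk_surjective
  obtain ⟨g, hg⟩ := H _ f.kerSquareLift hks hsq
  have hu : ∀ y : W, IsUnit (g y) := fun y => by
    have h1 : IsUnit (f.kerSquareLift (g y)) := by
      rw [← AlgHom.comp_apply, hg]
      exact IsLocalization.map_units A y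
    obtain ⟨v, hv⟩ := h1.exists_right_inv
    obtain ⟨v, rfl⟩ := hks v
    have h2 : g y * v - 1 ∈ RingHom.ker f.kerSquareLift := by
      rw [RingHom.mem_ker, map_sub, map_mul, hv, map_one, sub_self]
    have h3 : IsNilpotent (g y * v - 1) := ⟨2, by
      have := Ideal.pow_mem_pow h2 2
      rwa [hsq, Ideal.mem_bot] at this⟩
    have h4 := h3.isUnit_add_one
    rw [sub_add_cancel] at h4
    exact isUnit_of_mul_isUnit_left h4
  refine Algebra.FormallySmooth.of_split f (IsLocalization.liftAlgHom (S := A) (f := g) hu) ?_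
  refine IsLocalization.algHom_ext W (AlgHom.ext fun x => ?_)
  show f.kerSquareLift (IsLocalization.liftAlgHom (S := A) (f := g) hu (algebraMap E A x)) = algebraMap E A x
  rw [show IsLocalization.liftAlgHom (S := A) (f := g) hu (algebraMap E A x) = g x from IsLocalization.lift_eq _ x]
  exact DFunLike.congr_fun hg x

/-- Lifts through square zero thickenings of local rings give smoothness at a prime. -/
theorem isSmoothAt_of_lifts {R E : Type u} [CommRing R] [CommRing E] [Algebra R E] [Algebra.FiniteType R E] (q : Ideal E)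
    [q.IsPrime]
    (H : ∀ (R' : Type u) [CommRing R'] [IsLocalRing R'] [Algebra R R'] (π : R' →ₐ[R] Localization.AtPrime q),
      Function.Surjective π → RingHom.ker π ^ 2 = ⊥ →
        ∃ g : E →ₐ[R] R', π.comp g = IsScalarTower.toAlgHom R E (Localization.AtPrime q)) :
    Algebra.IsSmoothAt R q := by
  obtain ⟨n, θ, hθ⟩ := Algebra.FiniteType.iff_quotient_mvPolynomial''.1 (inferInstance : Algebra.FiniteType R E)
  let p : Ideal (MvPolynomial (Fin n) R) := q.comap θ
  let Pp := Localization.AtPrime p
  let Eq := Localization.AtPrime q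
  let f : Pp →ₐ[R] Eq :=
    IsLocalization.liftAlgHom (f := (IsScalarTower.toAlgHom R E Eq).comp θ) fun y : p.primeCompl =>
      IsLocalization.map_units Eq (⟨θ y, y.2⟩ : q.primeCompl)
  have hf0 : ∀ a, f (algebraMap _ Pp a) = algebraMap E Eq (θ a) := fun a => IsLocalization.lift_eq _ a
  have hf : Function.Surjective f := fun z => by
    obtain ⟨⟨x, s⟩, hs⟩ := IsLocalization.surj q.primeCompl z
    obtain ⟨a, rfl⟩ := hθ x
    obtain ⟨b, hb⟩ := hθ s
    have hbp : b ∉ p := fun h => s.2 (by rw [← hb]; exact h)
    obtain ⟨u, hu⟩ := IsLocalization.map_units Pp (⟨b, hbp⟩ : p.primeCompl)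
    refine ⟨algebraMap _ Pp a * ↑u⁻¹, ?_⟩
    rw [← (IsLocalization.map_units Eq s).mul_left_inj]
    conv_lhs => rw [← hb, ← hf0, ← map_mul, mul_assoc, ← hu, Units.inv_mul, mul_one, hf0]
    exact hs.symm
  have : Algebra.FormallySmooth (MvPolynomial (Fin n) R) Pp := Algebra.FormallySmooth.of_isLocalization p.primeCompl
  have : Algebra.FormallySmooth R Pp := Algebra.FormallySmooth.comp R (MvPolynomial (Fin n) R) Pp
  exact formallySmooth_of_lifts q.primeCompl f hf H

end Groth.Agent.FCov14
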