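import Groth.Agent.FCov14.SliceLift
import Groth.Agent.FCov14.SmoothAt

/-! The moduli of framed finite slices is smooth at a geometric slice. -/

universe u

set_option autoImplicit false
set_option backward.isDefEq.respectTransparency false
set_option backward.isDefEq.respectTransparency.types false

open IsLocalRing TensorProduct

namespace Groth.Agent.FCov14

variable {R C E : Type u} [CommRing R] [CommRing C] [Algebra R C] [CommRing E] [Algebra R E]
  {AE : Type u} [CommRing AE] [Algebra E AE] {n d : ℕ}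

variable (R) in
/-- Existence in the universal property of framed algebras with a map from `C`. -/
def FramedExists (eE : Module.Basis (Fin d) E AE) (φE : C →+* AE) : Prop :=
  ∀ (R' : Type u) [CommRing R'] [Algebra R R'] (A' : Type u) [CommRing A'] [Algebra R' A']
    (e' : Module.Basis (Fin d) R' A') (φ' : C →+* A'),
    (∀ r, φ' (algebraMap R C r) = algebraMap R' A' (algebraMap R R' r)) →
      ∃ (g : E →ₐ[R] R') (θ : AE →+* A'), (∀ x, θ (algebraMap E AE x) = algebraMap R' A' (g x)) ∧
        (∀ i, θ (eE i) = e' i) ∧ ∀ c, θ (φE c) = φ' c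

variable (R) in
/-- Uniqueness in the universal property of framed algebras with a map from `C`. -/
def FramedUnique (eE : Module.Basis (Fin d) E AE) (φE : C →+* AE) : Prop :=
  ∀ (R' : Type u) [CommRing R'] [Algebra R R'] (A' : Type u) [CommRing A'] [Algebra R' A']
    (e' : Module.Basis (Fin d) R' A') (g g' : E →ₐ[R] R') (θ θ' : AE →+* A'),
    (∀ x, θ (algebraMap E AE x) = algebraMap R' A' (g x)) → (∀ i, θ (eE i) = e' i) →
    (∀ x, θ' (algebraMap E AE x) = algebraMap R' A' (g' x)) → (∀ i, θ' (eE i) = e' i) →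
    (∀ c, θ (φE c) = θ' (φE c)) → g = g'

/-- The moduli of framed finite algebras with a map from a flat algebra is smooth at a geometric slice. -/
theorem isSmoothAt_of_slice [Algebra.FinitePresentation R C] [Module.Flat R C] [Algebra.FiniteType R E]
    {f : Fin n → C} (hf : (MvPolynomial.aeval f : MvPolynomial (Fin n) R →ₐ[R] C).toRingHom.Flat)
    (eE : Module.Basis (Fin d) E AE) (φE : C →+* AE)
    (hφE : ∀ r, φE (algebraMap R C r) = algebraMap E AE (algebraMap R E r))
    (hex : FramedExists R eE φE) (huniq : FramedUnique R eE φE)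
    {k : Type u} [Field k] [Algebra E k] [Algebra R k] [IsScalarTower R E k] (q : Ideal E) [q.IsPrime]
    (hq : RingHom.ker (algebraMap E k) = q) {Ak : Type u} [CommRing Ak] [Algebra k Ak]
    (ek : Module.Basis (Fin d) k Ak) (hd : 0 < d) (σE : AE →+* Ak)
    (hσE : ∀ x, σE (algebraMap E AE x) = algebraMap k Ak (algebraMap E k x)) (heσ : ∀ i, σE (eE i) = ek i)
    (φk : k ⊗[R] C →ₐ[k] Ak) (hφk : ∀ c, φk (1 ⊗ₜ c) = σE (φE c)) (hφks : Function.Surjective φk)
    (t : Fin n → k) (hker : RingHom.ker φk = Ideal.span (Set.range fun i => (1 : k) ⊗ₜ[R] f i - t i ⊗ₜ[R] 1)) :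
    Algebra.IsSmoothAt R q := by
  refine isSmoothAt_of_lifts q fun R' _ _ _ π hπ hsq => ?_
  let Eq := Localization.AtPrime q
  have hunit : ∀ y : q.primeCompl, IsUnit (algebraMap E k y) := fun y => isUnit_iff_ne_zero.2 fun h0 =>
    y.2 ((SetLike.ext_iff.1 hq (y : E)).1 (RingHom.mem_ker.2 h0))
  let l : Eq →+* k := IsLocalization.lift hunit
  have hl : ∀ x, l (algebraMap E Eq x) = algebraMap E k x := fun x => IsLocalization.lift_eq hunit x
  haveI : IsLocalHom l := ⟨fun z hz => by
    obtain ⟨⟨x, s⟩, hs⟩ := IsLocalization.surj q.primeCompl z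
    have hx : x ∉ q := fun hx => by
      have hx' := RingHom.mem_ker.1 ((SetLike.ext_iff.1 hq x).2 hx)
      rw [← hl, ← hs, map_mul, hl] at hx'
      exact (mul_ne_zero hz.ne_zero (hunit s).ne_zero) hx'
    have : IsUnit (z * algebraMap E Eq s) := hs.symm ▸ IsLocalization.map_units Eq (⟨x, hx⟩ : q.primeCompl)
    exact (IsUnit.mul_iff.1 this).1⟩
  haveI : IsLocalHom (π : R' →+* Eq) := IsLocalHom.of_surjective (π : R' →+* Eq) hπ
  letI : Algebra R' k := (l.comp (π : R' →+* Eq)).toAlgebra
  haveI : IsLocalHom (algebraMap R' k) := RingHom.isLocalHom_comp l (π : R' →+* Eq)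
  haveI : IsScalarTower R R' k := IsScalarTower.of_algebraMap_eq fun r => by
    show algebraMap R k r = l (π (algebraMap R R' r))
    rw [π.commutes, IsScalarTower.algebraMap_apply R E Eq, hl, ← IsScalarTower.algebraMap_apply]
  -- the algebra over the quotient
  let A₀ := Eq ⊗[E] AE
  let I : Ideal R' := RingHom.ker π
  let π' : (R' ⧸ I) ≃+* Eq := RingHom.quotientKerEquivOfSurjective (f := (π : R' →+* Eq)) hπ
  letI : Algebra R' A₀ := ((algebraMap Eq A₀).comp (π : R' →+* Eq)).toAlgebra
  letI : Algebra (R' ⧸ I) A₀ := ((algebraMap Eq A₀).comp π'.toRingHom).toAlgebra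
  haveI : IsScalarTower R' (R' ⧸ I) A₀ := IsScalarTower.of_algebraMap_eq fun _ => rfl
  let e₀ : Module.Basis (Fin d) (R' ⧸ I) A₀ := (Algebra.TensorProduct.basis Eq eE).mapCoeffs π'.symm fun c x => by
    rw [Algebra.smul_def, Algebra.smul_def]
    show algebraMap Eq A₀ (π' (π'.symm c)) * x = _
    rw [RingEquiv.apply_symm_apply]
  have he₀ : ∀ i, e₀ i = (1 : Eq) ⊗ₜ[E] eE i := fun i => by
    rw [Module.Basis.coe_mapCoeffs, Algebra.TensorProduct.basis_apply]
  let φ : C →+* A₀ := (Algebra.TensorProduct.includeRight : AE →ₐ[E] A₀).toRingHom.comp φE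
  have hinc : ∀ x, (1 : Eq) ⊗ₜ[E] algebraMap E AE x = algebraMap Eq A₀ (algebraMap E Eq x) := fun x => by
    rw [← Algebra.TensorProduct.tmul_one_eq_one_tmul]
    rfl
  have hφR : ∀ r, φ (algebraMap R C r) = algebraMap R' A₀ (algebraMap R R' r) := fun r => by
    show (1 : Eq) ⊗ₜ[E] φE (algebraMap R C r) = algebraMap Eq A₀ (π (algebraMap R R' r))
    rw [hφE, π.commutes, IsScalarTower.algebraMap_apply R E Eq]
    exact hinc _
  letI : Algebra E Ak := ((algebraMap k Ak).comp (algebraMap E k)).toAlgebra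
  let σ : A₀ →ₐ[E] Ak := Algebra.TensorProduct.lift
    { toRingHom := (algebraMap k Ak).comp l, commutes' := fun x => congrArg (algebraMap k Ak) (hl x) }
    { toRingHom := σE, commutes' := hσE } fun _ _ => Commute.all _ _
  have hσ : ∀ z a, σ (z ⊗ₜ[E] a) = algebraMap k Ak (l z) * σE a := fun z a => Algebra.TensorProduct.lift_tmul _ _ _ z a
  obtain ⟨A, _, _, e, φ', πA, hπe, hπφ⟩ := Lift.exists_lift_of_point hf I hsq e₀ φ hφR ek hd σ.toRingHom
    (fun r => by
      show σ ((π r) ⊗ₜ[E] (1 : AE)) = _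
      rw [hσ, map_one, mul_one]
      rfl)
    (fun i => by
      show σ (e₀ i) = _
      rw [he₀, hσ, map_one, map_one, one_mul, heσ])
    φk (fun c => by
      show _ = σ ((1 : Eq) ⊗ₜ[E] φE c)
      rw [hσ, map_one, map_one, one_mul, hφk]) hφks t hker
  obtain ⟨g, θ, hθ, hθe, hθc⟩ := hex R' A e (φ'.toRingHom.comp Algebra.TensorProduct.includeRight.toRingHom) fun r => by
    show φ' ((1 : R') ⊗ₜ[R] algebraMap R C r) = _
    rw [← Algebra.TensorProduct.tmul_one_eq_one_tmul]
    exact φ'.commutes (algebraMap R R' r)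
  refine ⟨g, huniq Eq A₀ (Algebra.TensorProduct.basis Eq eE) (π.comp g) _ (πA.toRingHom.comp θ)
    (Algebra.TensorProduct.includeRight : AE →ₐ[E] A₀).toRingHom (fun x => ?_) (fun i => ?_) hinc
    (fun i => (Algebra.TensorProduct.basis_apply _ _).symm) fun c => ?_⟩
  · show πA (θ (algebraMap E AE x)) = algebraMap Eq A₀ (π (g x))
    rw [hθ]
    exact πA.commutes (g x)
  · show πA (θ (eE i)) = _
    rw [hθe, hπe, he₀, Algebra.TensorProduct.basis_apply]
  · show πA (θ (φE c)) = _
    rw [hθc]
    exact hπφ c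

end Groth.Agent.FCov14
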