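import Groth.Agent.GrpSchLib.WeilAlgFree
import Mathlib

/-! Weil restriction of affine schemes along a finite free algebra: finite presentation and etale sections. -/

universe u

set_option autoImplicit false
set_option backward.isDefEq.respectTransparency false
set_option backward.isDefEq.respectTransparency.types false

open TensorProduct Algebra.TensorProduct

namespace Groth.Agent.FCov14.WeilAff

open Groth.Agent.GrpSchLib.WeilAlgFree

variable {k : Type u} [CommRing k] {L : Type u} [CommRing L] [Algebra k L] {J : Type} [Fintype J] [DecidableEq J]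
  (e : Module.Basis J k L) {R : Type u} [CommRing R] [Algebra k R]

/-- The induced map on the extended rings. -/
noncomputable abbrev bc (L : Type u) [CommRing L] [Algebra k L] {R R' : Type u} [CommRing R] [Algebra k R] [CommRing R'] [Algebra k R']
    (g : R →ₐ[k] R') : L ⊗[k] R →ₐ[k] L ⊗[k] R' := Algebra.TensorProduct.map (AlgHom.id k L) g

theorem eq_zero_iff_coord (z : L ⊗[k] R) : z = 0 ↔ ∀ i, coord e i z = 0 :=
  ⟨fun h i => by rw [h, map_zero], fun h => ext_coord e fun i => by rw [h, map_zero]⟩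

theorem bc_comp {R' R'' : Type u} [CommRing R'] [Algebra k R'] [CommRing R''] [Algebra k R'']
    (g : R →ₐ[k] R') (g' : R' →ₐ[k] R'') : (bc L g').comp (bc L g) = bc L (g'.comp g) :=
  (Algebra.TensorProduct.map_comp _ _ _ _).symm

variable {A : Type u} [CommRing A] [Algebra k A]

theorem hom_ext {g g' : W e A →ₐ[k] R} (h : (bc L g).comp (univ e A) = (bc L g').comp (univ e A)) : g = g' :=
  (existsUnique e A ((bc L g').comp (univ e A))).unique h rfl

theorem finitePresentation [Algebra.FinitePresentation k A] : Algebra.FinitePresentation k (W e A) := by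
  classical
  obtain ⟨n, φ, hφ, s, hs⟩ := ‹Algebra.FinitePresentation k A›.out
  let G : MvPolynomial (Fin n) k →ₐ[k] L ⊗[k] MvPolynomial (Fin n × J) k :=
    MvPolynomial.aeval fun a => ∑ j, e j ⊗ₜ[k] MvPolynomial.X (a, j)
  let I : Ideal (MvPolynomial (Fin n × J) k) :=
    Ideal.span ((s ×ˢ (Finset.univ : Finset J)).image fun p => coord e p.2 (G p.1) : Finset _)
  have hI : I.FG := ⟨_, rfl⟩
  let mk : MvPolynomial (Fin n × J) k →ₐ[k] MvPolynomial (Fin n × J) k ⧸ I := Ideal.Quotient.mkₐ k I
  have hker : ∀ z ∈ RingHom.ker φ, (bc L mk).comp G z = 0 := by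
    suffices RingHom.ker φ ≤ RingHom.ker ((bc L mk).comp G) by exact fun z hz => this hz
    rw [show RingHom.ker φ = RingHom.ker φ.toRingHom from rfl, ← hs, Ideal.span_le]
    intro g hg
    refine (eq_zero_iff_coord e _).2 fun i => ?_
    rw [AlgHom.comp_apply, coord_map]
    exact Ideal.Quotient.eq_zero_iff_mem.2
      (Ideal.subset_span (Finset.mem_coe.2 (Finset.mem_image.2 ⟨(g, i), Finset.mem_product.2 ⟨hg, Finset.mem_univ _⟩, rfl⟩)))
  let f : A →ₐ[k] L ⊗[k] (MvPolynomial (Fin n × J) k ⧸ I) := AlgHom.liftOfSurjective φ hφ ((bc L mk).comp G) hker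
  obtain ⟨χ, hχ, -⟩ := existsUnique e A f
  let ψ₀ : MvPolynomial (Fin n × J) k →ₐ[k] W e A :=
    MvPolynomial.aeval fun p => coord e p.2 (univ e A (φ (MvPolynomial.X p.1)))
  have hψ₀ : (bc L ψ₀).comp G = (univ e A).comp φ := MvPolynomial.algHom_ext fun a => ext_coord e fun i => by
    rw [AlgHom.comp_apply, coord_map, MvPolynomial.aeval_X, coord_sum, MvPolynomial.aeval_X]
    rfl
  have hI0 : ∀ z ∈ I, ψ₀ z = 0 := by
    suffices I ≤ RingHom.ker ψ₀ by exact fun z hz => this hz
    refine Ideal.span_le.2 fun z hz => ?_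
    obtain ⟨⟨g, i⟩, hgi, rfl⟩ := Finset.mem_image.1 (Finset.mem_coe.1 hz)
    rw [SetLike.mem_coe, RingHom.mem_ker, ← coord_map]
    have hg : φ g = 0 := by
      have : g ∈ RingHom.ker φ.toRingHom := hs ▸ Ideal.subset_span (Finset.mem_product.1 hgi).1
      exact this
    have h := DFunLike.congr_fun hψ₀ g
    rw [AlgHom.comp_apply, AlgHom.comp_apply, hg, map_zero] at h
    show coord e i (bc L ψ₀ (G g)) = 0
    rw [h, map_zero]
  let ψ : (MvPolynomial (Fin n × J) k ⧸ I) →ₐ[k] W e A := Ideal.Quotient.liftₐ I ψ₀ hI0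
  have hψ : ψ.comp mk = ψ₀ := Ideal.Quotient.liftₐ_comp I ψ₀ hI0
  have hf : ∀ a, f (φ a) = bc L mk (G a) := fun a => AlgHom.liftOfSurjective_apply φ hφ _ hker a
  have h₁ : ψ.comp χ = AlgHom.id k _ := by
    refine hom_ext e ?_
    rw [← bc_comp, AlgHom.comp_assoc, hχ]
    refine AlgHom.ext fun a => ?_
    obtain ⟨a, rfl⟩ := hφ a
    show bc L ψ (f (φ a)) = bc L (AlgHom.id k _) (univ e A (φ a))
    rw [hf, ← AlgHom.comp_apply (bc L ψ), bc_comp, hψ, ← AlgHom.comp_apply (bc L ψ₀), hψ₀, AlgHom.comp_apply]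
    simp [bc, Algebra.TensorProduct.map_id]
  have h₂ : χ.comp ψ = AlgHom.id k _ := by
    refine Ideal.Quotient.algHom_ext _ (MvPolynomial.algHom_ext fun p => ?_)
    obtain ⟨a, i⟩ := p
    show χ (ψ₀ (MvPolynomial.X (a, i))) = mk (MvPolynomial.X (a, i))
    have h := congrArg (coord e i) (DFunLike.congr_fun hχ (φ (MvPolynomial.X a)))
    rw [AlgHom.comp_apply, coord_map, hf, coord_map, MvPolynomial.aeval_X, coord_sum] at h
    rw [MvPolynomial.aeval_X]
    exact h
  have := Algebra.FinitePresentation.quotient (R := k) hI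
  exact Algebra.FinitePresentation.equiv (AlgEquiv.ofAlgHom ψ χ h₁ h₂)

section Sections

variable (C : Type u) [CommRing C] [Algebra k C] [Algebra L C] [IsScalarTower k L C]

/-- The relations cutting out sections. -/
noncomputable def relS : Ideal (W e C) :=
  Ideal.span (Set.range fun p : J × J =>
    coord e p.1 (univ e C (algebraMap L C (e p.2))) - coord e p.1 (e p.2 ⊗ₜ[k] (1 : W e C)))

/-- The coordinate algebra of the sections of an affine scheme over a finite free algebra. -/
def WS : Type u := W e C ⧸ relS e C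

noncomputable instance : CommRing (WS e C) := inferInstanceAs (CommRing (W e C ⧸ relS e C))

noncomputable instance : Algebra k (WS e C) := inferInstanceAs (Algebra k (W e C ⧸ relS e C))

/-- The quotient map. -/
noncomputable def mkS : W e C →ₐ[k] WS e C := Ideal.Quotient.mkₐ k (relS e C)

theorem mkS_surjective : Function.Surjective (mkS e C) := Ideal.Quotient.mkₐ_surjective k (relS e C)

theorem mkS_eq_iff (x y : W e C) : mkS e C x = mkS e C y ↔ x - y ∈ relS e C := Ideal.Quotient.eq

theorem algHomS_ext {g g' : WS e C →ₐ[k] R} (h : g.comp (mkS e C) = g'.comp (mkS e C)) : g = g' :=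
  AlgHom.ext fun x => by
    obtain ⟨x, rfl⟩ := mkS_surjective e C x
    exact DFunLike.congr_fun h x

/-- The universal section. -/
noncomputable def univS : C →ₐ[k] L ⊗[k] WS e C := (bc L (mkS e C)).comp (univ e C)

theorem univS_algebraMap (l : L) : univS e C (algebraMap L C l) = l ⊗ₜ[k] (1 : WS e C) := by
  have : (univS e C).toLinearMap.comp ((IsScalarTower.toAlgHom k L C).toLinearMap) =
      (Algebra.TensorProduct.includeLeft : L →ₐ[k] L ⊗[k] WS e C).toLinearMap := e.ext fun j => ext_coord e fun i => by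
    show coord e i (univS e C (algebraMap L C (e j))) = coord e i (e j ⊗ₜ[k] (1 : WS e C))
    rw [univS, AlgHom.comp_apply, coord_map,
      show (e j ⊗ₜ[k] (1 : WS e C)) = bc L (mkS e C) (e j ⊗ₜ[k] (1 : W e C)) by simp [bc],
      coord_map, mkS_eq_iff]
    exact Ideal.subset_span ⟨(i, j), rfl⟩
  exact LinearMap.congr_fun this l

theorem existsUniqueS (f : C →ₐ[k] L ⊗[k] R) (hf : ∀ l, f (algebraMap L C l) = l ⊗ₜ[k] (1 : R)) :
    ∃! g : WS e C →ₐ[k] R, (bc L g).comp (univS e C) = f := by
  obtain ⟨g₀, hg₀, hu⟩ := existsUnique e C f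
  have h0 : ∀ z ∈ relS e C, g₀ z = 0 := by
    suffices relS e C ≤ RingHom.ker g₀ by exact fun z hz => this hz
    refine Ideal.span_le.2 ?_
    rintro _ ⟨⟨i, j⟩, rfl⟩
    rw [SetLike.mem_coe, RingHom.mem_ker, map_sub, ← coord_map, ← coord_map, sub_eq_zero]
    refine congrArg (coord e i) ?_
    show (bc L g₀).comp (univ e C) _ = bc L g₀ _
    rw [hg₀, hf]
    simp [bc]
  let g₁ : WS e C →ₐ[k] R := Ideal.Quotient.liftₐ (relS e C) g₀ h0
  have hg₁ : g₁.comp (mkS e C) = g₀ := Ideal.Quotient.liftₐ_comp (relS e C) g₀ h0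
  refine ⟨g₁, ?_, fun g hg => ?_⟩
  · show (bc L g₁).comp ((bc L _).comp _) = f
    rw [← AlgHom.comp_assoc, bc_comp, hg₁]
    exact hg₀
  · refine algHomS_ext e C ?_
    rw [hg₁]
    refine hu _ ?_
    show (bc L (g.comp _)).comp (univ e C) = f
    rw [← bc_comp, AlgHom.comp_assoc]
    exact hg

theorem homS_ext {g g' : WS e C →ₐ[k] R} (h : (bc L g).comp (univS e C) = (bc L g').comp (univS e C)) : g = g' :=
  algHomS_ext e C (hom_ext e (by rw [← bc_comp, ← bc_comp, AlgHom.comp_assoc, AlgHom.comp_assoc]; exact h))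

theorem finitePresentationS [Algebra.FinitePresentation k C] : Algebra.FinitePresentation k (WS e C) :=
  have := finitePresentation e (A := C)
  (Algebra.FinitePresentation.quotient (Submodule.fg_span (Set.finite_range _)) :
    Algebra.FinitePresentation k (W e C ⧸ relS e C))

include e in
theorem bc_surjective {R' : Type u} [CommRing R'] [Algebra k R'] (π : R →ₐ[k] R') (hπ : Function.Surjective π) :
    Function.Surjective (bc L π) := fun z => by
  choose r hr using fun j => hπ (coord e j z)
  refine ⟨∑ j, e j ⊗ₜ[k] r j, ext_coord e fun i => ?_⟩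
  rw [coord_map, coord_sum, hr]

include e in
theorem ker_bc_sq {R' : Type u} [CommRing R'] [Algebra k R'] (π : R →ₐ[k] R') (hπ : RingHom.ker π ^ 2 = ⊥) :
    RingHom.ker (bc L π) ^ 2 = ⊥ := by
  rw [eq_bot_iff, pow_two, Ideal.mul_le]
  intro x hx y hy
  have h : ∀ z ∈ RingHom.ker (bc L π), ∀ i, coord e i z ∈ RingHom.ker π := fun z hz i => by
    rw [RingHom.mem_ker, ← coord_map]
    show coord e i (bc L π z) = 0
    rw [RingHom.mem_ker.1 hz, map_zero]
  rw [Ideal.mem_bot, eq_sum e x, eq_sum e y, Finset.sum_mul_sum]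
  refine Finset.sum_eq_zero fun i _ => Finset.sum_eq_zero fun j _ => ?_
  have h2 : coord e i x * coord e j y ∈ RingHom.ker π ^ 2 := by
    rw [pow_two]; exact Ideal.mul_mem_mul (h x hx i) (h y hy j)
  rw [hπ, Ideal.mem_bot] at h2
  rw [Algebra.TensorProduct.tmul_mul_tmul, h2, tmul_zero]

/-- Sections of an etale affine scheme over a finite free algebra form an etale affine scheme. -/
theorem formallyEtaleS [Algebra.FormallyEtale L C] : Algebra.FormallyEtale k (WS e C) := by
  refine Algebra.FormallyEtale.iff_comp_bijective.2 fun B _ _ I hI => ?_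
  let π : B →ₐ[k] B ⧸ I := Ideal.Quotient.mkₐ k I
  have hπ : RingHom.ker π ^ 2 = ⊥ := by rw [show RingHom.ker π = I from Ideal.Quotient.mkₐ_ker k I]; exact hI
  let q : L ⊗[k] B →ₐ[L] L ⊗[k] (B ⧸ I) := Algebra.TensorProduct.map (AlgHom.id L L) π
  have hq : ∀ z, q z = bc L π z := fun _ => rfl
  have hqs : Function.Surjective q := bc_surjective e π (Ideal.Quotient.mkₐ_surjective k I)
  have hqk : RingHom.ker q ^ 2 = ⊥ := ker_bc_sq e π hπ
  let ι := Ideal.quotientKerAlgEquivOfSurjective hqs
  have hbij := Algebra.FormallyEtale.comp_bijective (R := L) (A := C) (RingHom.ker q) hqk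
  constructor
  · intro g g' h
    refine homS_ext e C ?_
    let a : C →ₐ[L] L ⊗[k] B :=
      { toRingHom := ((bc L g).comp (univS e C)).toRingHom
        commutes' := fun l => by simp [univS_algebraMap, bc] }
    let a' : C →ₐ[L] L ⊗[k] B :=
      { toRingHom := ((bc L g').comp (univS e C)).toRingHom
        commutes' := fun l => by simp [univS_algebraMap, bc] }
    have : a = a' := hbij.1 <| AlgHom.ext fun c => ι.injective <| by
      show q (bc L g (univS e C c)) = q (bc L g' (univS e C c))
      rw [hq, hq, ← AlgHom.comp_apply (bc L π), ← AlgHom.comp_apply (bc L π), bc_comp, bc_comp]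
      exact congrArg (fun t => bc L t (univS e C c)) h
    exact AlgHom.ext fun c => DFunLike.congr_fun this c
  · intro g
    let a : C →ₐ[L] L ⊗[k] (B ⧸ I) :=
      { toRingHom := ((bc L g).comp (univS e C)).toRingHom
        commutes' := fun l => by simp [univS_algebraMap, bc] }
    obtain ⟨b, hb⟩ := hbij.2 (ι.symm.toAlgHom.comp a)
    have hb' : ∀ c, q (b c) = a c := fun c => by
      have := congrArg ι (DFunLike.congr_fun hb c)
      rw [show (ι.symm.toAlgHom.comp a) c = ι.symm (a c) from rfl, AlgEquiv.apply_symm_apply] at this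
      exact this
    obtain ⟨g', hg', -⟩ := existsUniqueS e C (b.restrictScalars k) (fun l => by simp)
    refine ⟨g', homS_ext e C ?_⟩
    rw [← bc_comp, AlgHom.comp_assoc, hg']
    exact AlgHom.ext fun c => hb' c

end Sections

end Groth.Agent.FCov14.WeilAff
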