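import Groth.Agent.FCov14.UnivFree
import Groth.Agent.FCov14.WeilAff
import Groth.Agent.FCov14.PieceSmooth

/-! The universal framed finite algebra receiving a given algebra. -/

set_option autoImplicit false
set_option backward.isDefEq.respectTransparency false
set_option backward.isDefEq.respectTransparency.types false

universe u

open TensorProduct

namespace Groth.Agent.FCov14.Framed

open WeilAff Groth.Agent.GrpSchLib.WeilAlgFree

variable (A : Type u) [CommRing A] [Algebra Zu.{u} A] (d : ℕ)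

/-- The parameters of algebras with a basis over a ring. -/
def kU : Type u := A ⊗[Zu.{u}] PU.{u} d

noncomputable instance : CommRing (kU A d) := inferInstanceAs (CommRing (A ⊗[Zu.{u}] PU.{u} d))

noncomputable instance : Algebra A (kU A d) := inferInstanceAs (Algebra A (A ⊗[Zu.{u}] PU.{u} d))

/-- The map from the absolute parameters. -/
noncomputable def πU : PU.{u} d →+* kU A d :=
  (Algebra.TensorProduct.includeRight : PU.{u} d →ₐ[Zu.{u}] A ⊗[Zu.{u}] PU.{u} d).toRingHom

noncomputable instance : Algebra (PU.{u} d) (kU A d) := (πU A d).toAlgebra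

theorem exists_kU_hom {R : Type u} [CommRing R] (a : A →+* R) (χ : PU.{u} d →+* R) :
    ∃ f : kU A d →+* R, f.comp (algebraMap A (kU A d)) = a ∧ f.comp (πU A d) = χ := by
  letI : Algebra Zu.{u} R := (a.comp (algebraMap Zu.{u} A)).toAlgebra
  let a' : A →ₐ[Zu.{u}] R := { toRingHom := a, commutes' := fun _ => rfl }
  let χ' : PU.{u} d →ₐ[Zu.{u}] R :=
    { toRingHom := χ, commutes' := fun r => DFunLike.congr_fun (zHom_ext (χ.comp (algebraMap _ _)) (algebraMap Zu.{u} R)) r }
  let f : A ⊗[Zu.{u}] PU.{u} d →ₐ[Zu.{u}] R := Algebra.TensorProduct.lift a' χ' fun _ _ => Commute.all _ _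
  refine ⟨f.toRingHom, RingHom.ext fun x => ?_, RingHom.ext fun x => ?_⟩
  · show f (x ⊗ₜ 1) = a x
    rw [Algebra.TensorProduct.lift_tmul, map_one, mul_one]
    rfl
  · show f (1 ⊗ₜ x) = χ x
    rw [Algebra.TensorProduct.lift_tmul, map_one, one_mul]
    rfl

theorem kU_hom_ext {R : Type u} [CommRing R] {f g : kU A d →+* R}
    (h₁ : f.comp (algebraMap A (kU A d)) = g.comp (algebraMap A (kU A d))) (h₂ : f.comp (πU A d) = g.comp (πU A d)) :
    f = g :=
  Algebra.TensorProduct.ringHom_ext h₁ h₂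

instance finitePresentation_kU : Algebra.FinitePresentation A (kU A d) :=
  inferInstanceAs (Algebra.FinitePresentation A (A ⊗[Zu.{u}] PU.{u} d))

/-- The universal algebra with a basis over a ring. -/
def lU : Type u := kU A d ⊗[PU.{u} d] LU.{u} d

noncomputable instance : CommRing (lU A d) := inferInstanceAs (CommRing (kU A d ⊗[PU.{u} d] LU.{u} d))

noncomputable instance : Algebra (kU A d) (lU A d) :=
  inferInstanceAs (Algebra (kU A d) (kU A d ⊗[PU.{u} d] LU.{u} d))

noncomputable instance : Algebra A (lU A d) :=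
  ((algebraMap (kU A d) (lU A d)).comp (algebraMap A (kU A d))).toAlgebra

instance : IsScalarTower A (kU A d) (lU A d) := IsScalarTower.of_algebraMap_eq fun _ => rfl

/-- The map from the absolute algebra. -/
noncomputable def ιL : LU.{u} d →+* lU A d :=
  (Algebra.TensorProduct.includeRight : LU.{u} d →ₐ[PU.{u} d] kU A d ⊗[PU.{u} d] LU.{u} d).toRingHom

theorem ιL_algebraMap (x : PU.{u} d) :
    ιL A d (algebraMap (PU.{u} d) (LU.{u} d) x) = algebraMap (kU A d) (lU A d) (πU A d x) :=
  ((Algebra.TensorProduct.includeRight : LU.{u} d →ₐ[PU.{u} d] kU A d ⊗[PU.{u} d] LU.{u} d).commutes x).trans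
    (IsScalarTower.algebraMap_apply (PU.{u} d) (kU A d) (kU A d ⊗[PU.{u} d] LU.{u} d) x)

/-- The basis. -/
noncomputable def eA : Module.Basis (Fin d) (kU A d) (lU A d) := Algebra.TensorProduct.basis (kU A d) (eU d)

theorem eA_apply (i : Fin d) : eA A d i = ιL A d (eU d i) :=
  Algebra.TensorProduct.basis_apply _ _

theorem exists_lU_hom {R : Type u} [CommRing R] (f : kU A d →+* R) (θ : LU.{u} d →+* R)
    (h : θ.comp (algebraMap (PU.{u} d) (LU.{u} d)) = f.comp (πU A d)) :
    ∃ g : lU A d →+* R, g.comp (algebraMap (kU A d) (lU A d)) = f ∧ g.comp (ιL A d) = θ := by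
  letI : Algebra (PU.{u} d) R := (f.comp (πU A d)).toAlgebra
  let f' : kU A d →ₐ[PU.{u} d] R := { toRingHom := f, commutes' := fun _ => rfl }
  let θ' : LU.{u} d →ₐ[PU.{u} d] R := { toRingHom := θ, commutes' := fun r => DFunLike.congr_fun h r }
  haveI : IsScalarTower (PU.{u} d) (PU.{u} d) (kU A d) := ⟨fun a b c => mul_smul a b c⟩
  haveI : IsScalarTower (PU.{u} d) (PU.{u} d) R := ⟨fun a b c => mul_smul a b c⟩
  let g : kU A d ⊗[PU.{u} d] LU.{u} d →ₐ[PU.{u} d] R := Algebra.TensorProduct.lift f' θ' fun _ _ => Commute.all _ _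
  refine ⟨g.toRingHom, RingHom.ext fun x => ?_, RingHom.ext fun x => ?_⟩
  · exact (Algebra.TensorProduct.lift_tmul f' θ' (fun _ _ => Commute.all _ _) x 1).trans (by rw [map_one, mul_one]; rfl)
  · exact (Algebra.TensorProduct.lift_tmul f' θ' (fun _ _ => Commute.all _ _) 1 x).trans (by rw [map_one, one_mul]; rfl)

theorem lU_hom_ext {R : Type u} [CommRing R] {f g : lU A d →+* R}
    (h₁ : f.comp (algebraMap (kU A d) (lU A d)) = g.comp (algebraMap (kU A d) (lU A d)))
    (h₂ : f.comp (ιL A d) = g.comp (ιL A d)) : f = g :=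
  Algebra.TensorProduct.ringHom_ext h₁ h₂

variable (C : Type u) [CommRing C] [Algebra A C]

/-- The parameters of framed algebras with a map from the given algebra. -/
abbrev EU : Type u := WS (eA A d) (lU A d ⊗[A] C)

noncomputable instance : Algebra A (EU A d C) :=
  ((algebraMap (kU A d) (EU A d C)).comp (algebraMap A (kU A d))).toAlgebra

instance : IsScalarTower A (kU A d) (EU A d C) := IsScalarTower.of_algebraMap_eq fun _ => rfl

/-- The framed algebra. -/
abbrev AU : Type u := EU A d C ⊗[kU A d] lU A d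

/-- The basis of the framed algebra. -/
noncomputable def eE : Module.Basis (Fin d) (EU A d C) (AU A d C) := Algebra.TensorProduct.basis (EU A d C) (eA A d)

/-- The map from the given algebra. -/
noncomputable def φE : C →+* AU A d C :=
  ((Algebra.TensorProduct.comm (kU A d) (lU A d) (EU A d C)).toAlgHom.comp
    (univS (eA A d) (lU A d ⊗[A] C))).toRingHom.comp Algebra.TensorProduct.includeRight.toRingHom

theorem eE_apply (i : Fin d) : eE A d C i = (1 : EU A d C) ⊗ₜ[kU A d] eA A d i :=
  Algebra.TensorProduct.basis_apply _ _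

theorem comm_univS_algebraMap (l : lU A d) :
    Algebra.TensorProduct.comm (kU A d) (lU A d) (EU A d C) (univS (eA A d) (lU A d ⊗[A] C) (algebraMap _ _ l)) =
      (1 : EU A d C) ⊗ₜ[kU A d] l := by
  rw [univS_algebraMap]
  rfl

theorem φE_algebraMap (r : A) :
    φE A d C (algebraMap A C r) = algebraMap (EU A d C) (AU A d C) (algebraMap A (EU A d C) r) := by
  show Algebra.TensorProduct.comm (kU A d) (lU A d) (EU A d C)
    (univS (eA A d) (lU A d ⊗[A] C) ((1 : lU A d) ⊗ₜ[A] algebraMap A C r)) = _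
  rw [← Algebra.TensorProduct.tmul_one_eq_one_tmul]
  refine (comm_univS_algebraMap A d C (algebraMap A (lU A d) r)).trans ?_
  show (1 : EU A d C) ⊗ₜ[kU A d] algebraMap (kU A d) (lU A d) (algebraMap A (kU A d) r) =
    algebraMap (kU A d) (EU A d C) (algebraMap A (kU A d) r) ⊗ₜ[kU A d] (1 : lU A d)
  exact (Algebra.TensorProduct.tmul_one_eq_one_tmul _).symm

theorem finiteType_EU [Algebra.FinitePresentation A C] : Algebra.FiniteType A (EU A d C) := by
  have := Module.Finite.of_basis (eA A d)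
  have := Module.Free.of_basis (eA A d)
  have : Algebra.FinitePresentation (kU A d) (lU A d) := (have := Module.finitePresentation_of_projective (kU A d) (lU A d); Algebra.FinitePresentation.of_finitePresentation _ _)
  have : Algebra.FinitePresentation (lU A d) (lU A d ⊗[A] C) := inferInstance
  have : Algebra.FinitePresentation (kU A d) (lU A d ⊗[A] C) := Algebra.FinitePresentation.trans _ (lU A d) _
  have := finitePresentationS (eA A d) (lU A d ⊗[A] C)
  exact Algebra.FiniteType.trans (S := kU A d) inferInstance inferInstance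

theorem exists_lU_equiv {R' : Type u} [CommRing R'] [Algebra (kU A d) R'] {A' : Type u} [CommRing A'] [Algebra R' A']
    (e' : Module.Basis (Fin d) R' A') (θ : lU A d →+* A')
    (hθ : ∀ x, θ (algebraMap _ _ x) = algebraMap R' A' (algebraMap (kU A d) R' x)) (hθe : ∀ i, θ (eA A d i) = e' i) :
    ∃ Λ : lU A d ⊗[kU A d] R' →+* A', Function.Bijective Λ ∧ ∀ l r, Λ (l ⊗ₜ r) = θ l * algebraMap R' A' r := by
  letI : Algebra (kU A d) A' := ((algebraMap R' A').comp (algebraMap (kU A d) R')).toAlgebra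
  let θ' : lU A d →ₐ[kU A d] A' := { toRingHom := θ, commutes' := hθ }
  let ι' : R' →ₐ[kU A d] A' := { toRingHom := algebraMap R' A', commutes' := fun _ => rfl }
  let Λ : lU A d ⊗[kU A d] R' →ₐ[kU A d] A' := Algebra.TensorProduct.lift θ' ι' fun _ _ => Commute.all _ _
  have hΛ : ∀ l r, Λ (l ⊗ₜ r) = θ l * algebraMap R' A' r := fun l r => Algebra.TensorProduct.lift_tmul _ _ _ _ _
  have hexp : ∀ r : Fin d → R', Λ (∑ i, eA A d i ⊗ₜ r i) = ∑ i, r i • e' i := fun r => by
    rw [map_sum]
    exact Finset.sum_congr rfl fun i _ => by rw [hΛ, hθe, Algebra.smul_def, mul_comm]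
  refine ⟨Λ.toRingHom, ⟨fun z z' h => ?_, fun y => ?_⟩, hΛ⟩
  · change Λ z = Λ z' at h
    rw [eq_sum (eA A d) z, eq_sum (eA A d) z', hexp, hexp] at h
    refine ext_coord (eA A d) fun i => ?_
    have := congrArg (fun y => e'.equivFun y i) h
    simpa [Finsupp.single_apply] using this
  · refine ⟨∑ i, eA A d i ⊗ₜ e'.equivFun y i, ?_⟩
    show Λ _ = y
    rw [hexp, e'.sum_equivFun]

theorem framedExists : FramedExists A (eE A d C) (φE A d C) := by
  intro R' _ _ A' _ _ e' φ' hφ'
  obtain ⟨χ, θ₀, hθ₀, hθ₀e⟩ := exists_classify d e'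
  obtain ⟨fk, hfkA, hfkP⟩ := exists_kU_hom A d (algebraMap A R') χ
  obtain ⟨θ, hθk, hθι⟩ := exists_lU_hom A d ((algebraMap R' A').comp fk) θ₀ (by rw [hθ₀, RingHom.comp_assoc, hfkP])
  letI : Algebra (kU A d) R' := fk.toAlgebra
  haveI : IsScalarTower A (kU A d) R' := IsScalarTower.of_algebraMap_eq fun a => (DFunLike.congr_fun hfkA a).symm
  have hθ : ∀ x, θ (algebraMap _ _ x) = algebraMap R' A' (algebraMap (kU A d) R' x) :=
    fun x => DFunLike.congr_fun hθk x
  have hθe : ∀ i, θ (eA A d i) = e' i := fun i => by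
    rw [eA_apply, ← RingHom.comp_apply, hθι, hθ₀e]
  obtain ⟨Λ, hΛ, hΛt⟩ := exists_lU_equiv A d e' θ hθ hθe
  let Λ' := RingEquiv.ofBijective Λ hΛ
  letI : Algebra A A' := ((algebraMap R' A').comp (algebraMap A R')).toAlgebra
  let θA : lU A d →ₐ[A] A' :=
    { toRingHom := θ
      commutes' := fun a => (hθ _).trans (congrArg (algebraMap R' A') (IsScalarTower.algebraMap_apply A (kU A d) R' a).symm) }
  let φA : C →ₐ[A] A' := { toRingHom := φ', commutes' := hφ' }
  let m : lU A d ⊗[A] C →ₐ[A] A' := Algebra.TensorProduct.lift θA φA fun _ _ => Commute.all _ _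
  have hm : ∀ l, m (algebraMap (lU A d) _ l) = θ l := fun l => by
    show m (l ⊗ₜ 1) = θ l
    rw [Algebra.TensorProduct.lift_tmul, map_one, mul_one]
    rfl
  let f : lU A d ⊗[A] C →ₐ[kU A d] lU A d ⊗[kU A d] R' :=
    { toRingHom := Λ'.symm.toRingHom.comp m.toRingHom
      commutes' := fun x => by
        show Λ'.symm (m (algebraMap (kU A d) _ x)) = _
        rw [RingEquiv.symm_apply_eq, IsScalarTower.algebraMap_apply (kU A d) (lU A d) (lU A d ⊗[A] C), hm, hθ]
        show _ = Λ (algebraMap (kU A d) (lU A d) x ⊗ₜ 1)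
        rw [hΛt, map_one, mul_one, hθ] }
  obtain ⟨g, hg, -⟩ := existsUniqueS (eA A d) (lU A d ⊗[A] C) f fun l => by
    show Λ'.symm (m _) = _
    rw [RingEquiv.symm_apply_eq, hm]
    show _ = Λ (l ⊗ₜ 1)
    rw [hΛt, map_one, mul_one]
  letI : Algebra (kU A d) A' := ((algebraMap R' A').comp (algebraMap (kU A d) R')).toAlgebra
  let θ' : lU A d →ₐ[kU A d] A' := { toRingHom := θ, commutes' := hθ }
  let g' : EU A d C →ₐ[kU A d] A' :=
    { toRingHom := (algebraMap R' A').comp g.toRingHom
      commutes' := fun x => congrArg (algebraMap R' A') (g.commutes x) }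
  let Θ : AU A d C →ₐ[kU A d] A' := Algebra.TensorProduct.lift g' θ' fun _ _ => Commute.all _ _
  refine ⟨{ toRingHom := g.toRingHom, commutes' := fun a => ?_ }, Θ.toRingHom, fun x => ?_, fun i => ?_, fun c => ?_⟩
  · show g (algebraMap (kU A d) (EU A d C) (algebraMap A (kU A d) a)) = _
    rw [g.commutes, ← IsScalarTower.algebraMap_apply]
  · show Θ (x ⊗ₜ 1) = algebraMap R' A' (g x)
    rw [Algebra.TensorProduct.lift_tmul, map_one, mul_one]
    rfl
  · show Θ (eE A d C i) = e' i
    rw [eE_apply, Algebra.TensorProduct.lift_tmul, map_one, one_mul]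
    exact hθe i
  · show Θ (Algebra.TensorProduct.comm (kU A d) (lU A d) (EU A d C)
      (univS (eA A d) (lU A d ⊗[A] C) ((1 : lU A d) ⊗ₜ c))) = φ' c
    have key : ∀ z, Θ (Algebra.TensorProduct.comm (kU A d) (lU A d) (EU A d C) z) = Λ (bc (lU A d) g z) := fun z => by
      induction z using TensorProduct.induction_on with
      | zero => simp
      | tmul l x =>
        rw [Algebra.TensorProduct.comm_tmul, Algebra.TensorProduct.lift_tmul]
        show algebraMap R' A' (g x) * θ l = _
        rw [show bc (lU A d) g (l ⊗ₜ x) = l ⊗ₜ g x from rfl, hΛt, mul_comm]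
      | add x y hx hy => simp only [map_add, hx, hy]
    rw [key, ← AlgHom.comp_apply, hg]
    show Λ (Λ'.symm (m ((1 : lU A d) ⊗ₜ c))) = φ' c
    rw [show Λ (Λ'.symm (m ((1 : lU A d) ⊗ₜ c))) = m ((1 : lU A d) ⊗ₜ c) from Λ'.apply_symm_apply _,
      Algebra.TensorProduct.lift_tmul, map_one, one_mul]
    rfl

theorem framedUnique : FramedUnique A (eE A d C) (φE A d C) := by
  intro R' _ _ A' _ _ e' g g' θ θ' hθ hθe hθ' hθ'e hc
  let iL : lU A d →+* AU A d C := Algebra.TensorProduct.includeRight.toRingHom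
  have hiL : ∀ (l : lU A d), iL l = (1 : EU A d C) ⊗ₜ l := fun _ => rfl
  have hk : ∀ (g : EU A d C →ₐ[A] R') (θ : AU A d C →+* A'),
      (∀ x, θ (algebraMap (EU A d C) (AU A d C) x) = algebraMap R' A' (g x)) →
      ∀ x, θ (iL (algebraMap (kU A d) (lU A d) x)) = algebraMap R' A' (g (algebraMap (kU A d) (EU A d C) x)) :=
    fun g θ h x => by
      rw [← h, hiL]
      exact congrArg θ (Algebra.TensorProduct.tmul_one_eq_one_tmul (A := EU A d C) (B := lU A d) x).symm
  have hu := classify_unique (R := R') (A := A') (d := d) e'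
    (χ := (g.toRingHom.comp (algebraMap (kU A d) (EU A d C))).comp (πU A d))
    (χ' := (g'.toRingHom.comp (algebraMap (kU A d) (EU A d C))).comp (πU A d))
    (θ := (θ.comp iL).comp (ιL A d)) (θ' := (θ'.comp iL).comp (ιL A d))
    (RingHom.ext fun x => by
      show θ (iL (ιL A d (algebraMap _ _ x))) = _
      rw [ιL_algebraMap, hk g θ hθ]
      rfl)
    (fun i => by
      show θ (iL (ιL A d (eU d i))) = _
      rw [← eA_apply, hiL, ← eE_apply, hθe])
    (RingHom.ext fun x => by
      show θ' (iL (ιL A d (algebraMap _ _ x))) = _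
      rw [ιL_algebraMap, hk g' θ' hθ']
      rfl)
    (fun i => by
      show θ' (iL (ιL A d (eU d i))) = _
      rw [← eA_apply, hiL, ← eE_apply, hθ'e])
  have hgk : g.toRingHom.comp (algebraMap (kU A d) (EU A d C)) = g'.toRingHom.comp (algebraMap (kU A d) (EU A d C)) :=
    kU_hom_ext A d (RingHom.ext fun a => (g.commutes a).trans (g'.commutes a).symm) hu.1
  have hθL : θ.comp iL = θ'.comp iL :=
    lU_hom_ext A d (RingHom.ext fun x => (hk g θ hθ x).trans
      ((congrArg (algebraMap R' A') (DFunLike.congr_fun hgk x)).trans (hk g' θ' hθ' x).symm)) hu.2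
  letI : Algebra (kU A d) R' := (g.toRingHom.comp (algebraMap (kU A d) (EU A d C))).toAlgebra
  let g₁ : EU A d C →ₐ[kU A d] R' := { toRingHom := g.toRingHom, commutes' := fun _ => rfl }
  let g₂ : EU A d C →ₐ[kU A d] R' :=
    { toRingHom := g'.toRingHom, commutes' := fun x => (DFunLike.congr_fun hgk x).symm }
  obtain ⟨Λ, hΛ, hΛt⟩ := exists_lU_equiv A d e' (θ.comp iL) (fun x => hk g θ hθ x) fun i => by
    show θ (iL (eA A d i)) = e' i
    rw [hiL, ← eE_apply, hθe]
  have key : ∀ (h : EU A d C →ₐ[kU A d] R') (Θ : AU A d C →+* A'), Θ.comp iL = θ.comp iL →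
      (∀ x, Θ (algebraMap (EU A d C) (AU A d C) x) = algebraMap R' A' (h x)) →
      ∀ z, Θ (Algebra.TensorProduct.comm (kU A d) (lU A d) (EU A d C) z) = Λ (bc (lU A d) h z) := by
    intro h Θ hΘL hΘ z
    induction z using TensorProduct.induction_on with
    | zero => simp
    | tmul l x =>
      rw [Algebra.TensorProduct.comm_tmul, show bc (lU A d) h (l ⊗ₜ x) = l ⊗ₜ h x from rfl, hΛt, ← hΘ, ← hΘL]
      show Θ (x ⊗ₜ l) = Θ (iL l) * Θ (x ⊗ₜ 1)
      rw [hiL, ← map_mul, Algebra.TensorProduct.tmul_mul_tmul, one_mul, mul_one]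
    | add x y hx hy => simp only [map_add, hx, hy]
  let α : lU A d ⊗[A] C →+* A' :=
    θ.comp ((Algebra.TensorProduct.comm (kU A d) (lU A d) (EU A d C)).toAlgHom.comp (univS (eA A d) _)).toRingHom
  let α' : lU A d ⊗[A] C →+* A' :=
    θ'.comp ((Algebra.TensorProduct.comm (kU A d) (lU A d) (EU A d C)).toAlgHom.comp (univS (eA A d) _)).toRingHom
  have hα : α = α' := Algebra.TensorProduct.ringHom_ext
    (RingHom.ext fun l => by
      show θ (Algebra.TensorProduct.comm _ _ _ (univS (eA A d) _ (algebraMap (lU A d) _ l))) =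
        θ' (Algebra.TensorProduct.comm _ _ _ (univS (eA A d) _ (algebraMap (lU A d) _ l)))
      rw [comm_univS_algebraMap]
      exact DFunLike.congr_fun hθL l)
    (RingHom.ext fun c => hc c)
  have h12 : g₁ = g₂ := homS_ext (eA A d) _ <| AlgHom.ext fun z => hΛ.1 <| by
    rw [AlgHom.comp_apply, AlgHom.comp_apply, ← key g₁ θ rfl hθ, ← key g₂ θ' hθL.symm hθ']
    exact DFunLike.congr_fun hα z
  exact AlgHom.ext fun x => DFunLike.congr_fun h12 x

end Groth.Agent.FCov14.Framed
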