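import Mathlib

/-! Charts over which a finite locally free morphism is free. -/

universe u

set_option autoImplicit false
set_option backward.isDefEq.respectTransparency false
set_option backward.isDefEq.respectTransparency.types false

open CategoryTheory Limits AlgebraicGeometry TensorProduct

namespace Groth.Agent.FCov14

/-- A free chart of a finite flat morphism of finite presentation around a point. -/
theorem exists_free_chart {B Z : Scheme.{u}} (p : Z ⟶ B) [IsFinite p] [Flat p] [LocallyOfFinitePresentation p] (b : B) :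
    ∃ (k L : Type u) (_ : CommRing k) (_ : CommRing L) (_ : Algebra k L) (d : ℕ) (_ : Module.Basis (Fin d) k L)
      (ι : Spec (CommRingCat.of k) ⟶ B) (_ : IsOpenImmersion ι) (ζ : Spec (CommRingCat.of L) ⟶ Z),
      b ∈ Set.range ι ∧ IsPullback ζ (Spec.map (CommRingCat.ofHom (algebraMap k L))) p ι := by
  obtain ⟨W, hW, hb, -⟩ := exists_isAffineOpen_mem_and_subset (U := ⊤) (x := b) (by trivial)
  let A := Γ(B, W)
  let ι₀ : Spec A ⟶ B := hW.fromSpec
  let P := pullback p ι₀
  have hP : IsAffine P := isAffine_of_isAffineHom (pullback.snd p ι₀)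
  let q : P ⟶ Spec A := pullback.snd p ι₀
  obtain ⟨φ, hφ⟩ := Spec.map_surjective (P.isoSpec.inv ≫ q)
  let M := Γ(P, ⊤)
  letI : Algebra A M := φ.hom.toAlgebra
  have hq : IsFinite (Spec.map φ) ∧ Flat (Spec.map φ) ∧ LocallyOfFinitePresentation (Spec.map φ) := by
    rw [hφ]
    exact ⟨inferInstance, inferInstance, inferInstance⟩
  haveI : Module.Finite A M := RingHom.finite_algebraMap.1 ((IsFinite.SpecMap_iff φ).1 hq.1)
  haveI : Module.Flat A M := RingHom.flat_algebraMap_iff.1 (Flat.SpecMap_iff.1 hq.2.1)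
  haveI : Algebra.FinitePresentation A M :=
    RingHom.finitePresentation_algebraMap.1 ((HasRingHomProperty.Spec_iff (P := @LocallyOfFinitePresentation)).1 hq.2.2)
  haveI : Module.FinitePresentation A M := Module.FinitePresentation.of_finite_of_finitePresentation A M
  obtain ⟨x, hx⟩ : b ∈ Set.range ι₀ := by rw [hW.range_fromSpec]; exact hb
  let 𝔭 := x.asIdeal
  haveI : Module.Free (Localization.AtPrime 𝔭) (LocalizedModule 𝔭.primeCompl M) :=
    haveI : Module.Finite (Localization.AtPrime 𝔭) (LocalizedModule 𝔭.primeCompl M) :=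
      Module.Finite.of_isLocalizedModule 𝔭.primeCompl (LocalizedModule.mkLinearMap 𝔭.primeCompl M)
    haveI : Module.Flat (Localization.AtPrime 𝔭) (LocalizedModule 𝔭.primeCompl M) :=
      Module.Flat.of_isLocalizedModule (Localization.AtPrime 𝔭) 𝔭.primeCompl (LocalizedModule.mkLinearMap 𝔭.primeCompl M)
    Module.free_of_flat_of_isLocalRing
  obtain ⟨r, hr, hfree, -⟩ := Module.FinitePresentation.exists_free_localizedModule_powers 𝔭.primeCompl
    (LocalizedModule.mkLinearMap 𝔭.primeCompl M) (Localization.AtPrime 𝔭)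
  let k := Localization.Away r
  let e₀ : k ⊗[A] M ≃ₗ[k] LocalizedModule.Away r M :=
    (LocalizedModule.isBaseChange (Submonoid.powers r) (M := M)).equiv
  haveI : Module.Free k (k ⊗[A] M) := Module.Free.of_equiv e₀.symm
  haveI : Module.Finite k (k ⊗[A] M) := inferInstance
  let a : Spec (CommRingCat.of k) ⟶ Spec A := Spec.map (CommRingCat.ofHom (algebraMap A k))
  haveI : IsOpenImmersion a := IsOpenImmersion.of_isLocalization (S := k) r
  obtain ⟨n, ⟨eb⟩⟩ : ∃ n, Nonempty (Module.Basis (Fin n) k (k ⊗[A] M)) :=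
    ⟨_, ⟨(Module.Free.chooseBasis k (k ⊗[A] M)).reindex (Fintype.equivFin _)⟩⟩
  let ζ : Spec (CommRingCat.of (k ⊗[A] M)) ⟶ P :=
    Spec.map (CommRingCat.ofHom (Algebra.TensorProduct.includeRight : M →ₐ[A] k ⊗[A] M).toRingHom) ≫ P.isoSpec.inv
  refine ⟨k, k ⊗[A] M, inferInstance, inferInstance, inferInstance, n, eb, a ≫ ι₀, inferInstance,
    ζ ≫ pullback.fst p ι₀, ?_, ?_⟩
  · obtain ⟨y, hy⟩ : x ∈ Set.range a := by
      show x ∈ Set.range (PrimeSpectrum.comap (algebraMap A k))
      rw [PrimeSpectrum.localization_away_comap_range k r]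
      exact hr
    exact ⟨y, by rw [Scheme.Hom.comp_apply, hy, hx]⟩
  · refine IsPullback.paste_horiz ?_ (IsPullback.of_hasPullback p ι₀)
    have h1 : IsPullback (Spec.map (CommRingCat.ofHom (Algebra.TensorProduct.includeRight : M →ₐ[A] k ⊗[A] M).toRingHom))
        (Spec.map (CommRingCat.ofHom (algebraMap k (k ⊗[A] M)))) (Spec.map φ) a :=
      IsPullback.flip (IsPullback.of_iso (IsPullback.of_hasPullback _ _)
        (pullbackSpecIso A k M) (Iso.refl _) (Iso.refl _) (Iso.refl _)
        (by rw [Iso.refl_hom, Category.comp_id]; exact (pullbackSpecIso_hom_fst' A k M).symm)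
        (by rw [Iso.refl_hom, Category.comp_id]; exact (pullbackSpecIso_hom_snd A k M).symm)
        (by simp [a]) (by simp; rfl))
    refine h1.of_iso (Iso.refl _) P.isoSpec.symm (Iso.refl _) (Iso.refl _) ?_ ?_ ?_ ?_
    · simp [ζ]
    · simp
    · simp [hφ, q]
    · simp

end Groth.Agent.FCov14
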