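import Groth.Agent.AlgStLib.SepDiag
import Groth.Agent.AlgStLib.SepUnivClosed
import Groth.Agent.AlgStLib.SpProps
import Groth.Agent.AlgSpDec.FiniteNbhd

/-! Inertia of stacks separated over an algebraic space. -/

set_option autoImplicit false
set_option backward.isDefEq.respectTransparency false
set_option backward.isDefEq.respectTransparency.types false

noncomputable section

universe u

open CategoryTheory CategoryTheory.Functor CategoryTheory.Limits AlgebraicGeometry Opposite AlgSp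

namespace Groth.Agent.FCov14.InertiaSep

open Groth.Agent.FibBase Groth.Agent.AlgSpLib Groth.Agent.AlgStLib

variable {S : Scheme.{u}} {𝒳 : AlgSt.Cat S} {M : Sp S} (π : 𝒳 ⥤ᵇ AlgSt.ofSp M)

theorem map_eq_id_iff {x : 𝒳.obj} (α : x ⟶ x) :
    π.map α = 𝟙 (π.obj x) ↔ (FibCat.toSelf 𝒳).map α = 𝟙 (𝒳.p.obj x) := by
  have h := Functor.congr_hom π.w α
  have h' : (π.map α).hom = eqToHom (π.w_obj x) ≫ 𝒳.p.map α ≫ eqToHom (π.w_obj x).symm := h
  constructor
  · intro e
    rw [e, Stk.EltObj.id_hom] at h'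
    show 𝒳.p.map α = 𝟙 _
    have := congrArg (fun m => eqToHom (π.w_obj x).symm ≫ m ≫ eqToHom (π.w_obj x)) h'
    simpa using this.symm
  · intro e
    refine Stk.EltObj.hom_ext (h'.trans ?_)
    rw [show 𝒳.p.map α = 𝟙 _ from e]
    simp

/-- The inertia over an algebraic space is the inertia. -/
def toAbs : FibCat.inertia π ⥤ᵇ FibCat.inertia (FibCat.toSelf 𝒳) where
  toFunctor :=
    { obj := fun x => ⟨x.pt, x.aut, (map_eq_id_iff π _).1 x.map_aut⟩
      map := fun f => ⟨f.hom, f.comm⟩ }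
  w := rfl

/-- The inertia is the inertia over an algebraic space. -/
def ofAbs : FibCat.inertia (FibCat.toSelf 𝒳) ⥤ᵇ FibCat.inertia π where
  toFunctor :=
    { obj := fun x => ⟨x.pt, x.aut, (map_eq_id_iff π _).2 x.map_aut⟩
      map := fun f => ⟨f.hom, f.comm⟩ }
  w := rfl

theorem toAbs_isEquivOver : FibCat.IsEquivOver (toAbs π) := ⟨ofAbs π, ⟨Iso.refl _⟩, ⟨Iso.refl _⟩⟩

theorem inertia_finite (hqf : AlgSt.IsQuasiDMOver 𝒳) (hsep : AlgSt.IsSeparatedMor π) :
    AlgSt.RepByAlgSpWith IsFiniteMor (FibCat.inertiaToBase (FibCat.toSelf 𝒳)) := by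
  have h1 : AlgSt.RepByAlgSpWith IsProperMor (FibCat.inertiaToBase (FibCat.toSelf 𝒳)) :=
    (repByAlgSpWith_iff_of_square (f := FibCat.inertiaToBase (FibCat.toSelf 𝒳)) (f' := FibCat.inertiaToBase π)
      (a := toAbs π) (b := BasedFunctor.id _) (toAbs_isEquivOver π) isEquivOver_id (Iso.refl _)).2
      (repByAlgSpWith_inertiaToBase π hsep)
  intro U y
  obtain ⟨F, e, he, hl⟩ := repByAlgSpWith_inertiaToBase _ hqf U y
  exact ⟨F, e, he, AlgSpDec.FiniteNbhd.isFiniteMor_of_proper_lqf F.property (IsAlgSpace.yon_obj U)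
    (RepOver.property_of_stableBC stableBC_isProperMor (h1 U y) e he).2 hl⟩

end Groth.Agent.FCov14.InertiaSep
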