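import Groth.Agent.FCov14.AutLift
import Groth.Agent.FCov14.EtDescend
import Groth.Agent.FCov14.InertiaSep
import Groth.Agent.AlgSpLib.AffineDescProps

/-! Finiteness of the inertia is local for etale stabilizer preserving functors. -/

set_option autoImplicit false
set_option backward.isDefEq.respectTransparency false
set_option backward.isDefEq.respectTransparency.types false

noncomputable section

universe u

open CategoryTheory CategoryTheory.Functor CategoryTheory.Limits AlgebraicGeometry Opposite AlgSp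

namespace Groth.Agent.FCov14.InertiaEtale

open Groth.Agent.FibBase Groth.Agent.AlgSpLib Groth.Agent.AlgStLib

variable {S : Scheme.{u}} {𝒰 𝒳 : AlgSt.Cat S} (h : 𝒰 ⥤ᵇ 𝒳)

/-- The map of inertias of a functor. -/
def inertiaPush : FibCat.inertia (FibCat.toSelf 𝒰) ⥤ᵇ FibCat.inertia (FibCat.toSelf 𝒳) where
  toFunctor :=
    { obj := fun x => ⟨h.obj x.pt, h.toFunctor.mapIso x.aut, by
        show 𝒳.p.map (h.map x.aut.hom) = 𝟙 _
        have e := Functor.congr_hom h.w x.aut.hom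
        have e' : 𝒰.p.map x.aut.hom = 𝟙 _ := x.map_aut
        rw [e'] at e
        refine e.trans ?_
        simp⟩
      map := fun f => ⟨h.map f.hom, by
        show h.map _ ≫ h.map f.hom = h.map f.hom ≫ h.map _
        rw [← h.toFunctor.map_comp, ← h.toFunctor.map_comp, f.comm]⟩
      map_id := fun x => FibCat.InertiaObj.hom_ext (h.toFunctor.map_id _)
      map_comp := fun f g => FibCat.InertiaObj.hom_ext (h.toFunctor.map_comp _ _) }
  w := CategoryTheory.Functor.ext (fun x => h.w_obj (x : FibCat.InertiaObj (FibCat.toSelf 𝒰)).pt)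
    fun (x y : FibCat.InertiaObj (FibCat.toSelf 𝒰)) (f : x ⟶ y) => Functor.congr_hom h.w f.hom

/-- The comparison of the inertia with the base change of the inertia. -/
def comparison : FibCat.inertia (FibCat.toSelf 𝒰) ⥤ᵇ FibCat.fp h (FibCat.inertiaToBase (FibCat.toSelf 𝒳)) :=
  FibCat.fpLift (FibCat.inertiaToBase (FibCat.toSelf 𝒰)) (inertiaPush h) (Iso.refl _)

theorem comparison_isEquivOver [h.toFunctor.Faithful] (hX : FibCat.IsFibGrpd 𝒳.p) (hU : FibCat.IsFibGrpd 𝒰.p)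
    (hlift : ∀ (v : 𝒰.obj) (g : h.obj v ⟶ h.obj v), 𝒳.p.IsHomLift (𝟙 (𝒰.p.obj v)) g →
      ∃ α : v ⟶ v, 𝒰.p.IsHomLift (𝟙 (𝒰.p.obj v)) α ∧ h.map α = g) :
    FibCat.IsEquivOver (comparison h) := by
  refine isEquivOver_of_exists_iso _ ⟨fun {x z} t => ?_⟩ ⟨fun {x z} a b e => ?_⟩ fun η => ?_
  · have w : h.map t.hom.fst ≫ 𝟙 _ = 𝟙 _ ≫ t.hom.snd.hom := t.hom.w
    have w' : t.hom.snd.hom = h.map t.hom.fst :=
      ((Category.id_comp _).symm.trans w.symm).trans (Category.comp_id _)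
    have c : h.map x.aut.hom ≫ t.hom.snd.hom = t.hom.snd.hom ≫ h.map z.aut.hom := t.hom.snd.comm
    refine ⟨⟨t.hom.fst, h.toFunctor.map_injective ?_⟩,
      ObjectProperty.hom_ext _ (CategoricalPullback.hom_ext rfl (FibCat.InertiaObj.hom_ext w'.symm))⟩
    rw [h.toFunctor.map_comp, h.toFunctor.map_comp]
    rw [w'] at c
    exact c
  · exact FibCat.InertiaObj.hom_ext (congrArg (fun s => s.hom.fst) e)
  · obtain ⟨⟨v, ξ, i⟩, hi⟩ := η
    let i' : h.obj v ≅ ξ.pt := i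
    have hi' : 𝒳.p.IsHomLift (𝟙 (𝒰.p.obj v)) i'.hom := hi
    have hb : 𝒳.p.obj ξ.pt = 𝒰.p.obj v := IsHomLift.codomain_eq 𝒳.p (𝟙 (𝒰.p.obj v)) i'.hom
    have hξ : 𝒳.p.IsHomLift (𝟙 (𝒰.p.obj v)) ξ.aut.hom :=
      isHomLift_id_congr hb (isHomLift_id_self (p := 𝒳.p) ξ.map_aut)
    have hinv : 𝒳.p.IsHomLift (𝟙 (𝒰.p.obj v)) i'.inv := IsHomLift.lift_id_inv _ _ i'
    obtain ⟨α, hα, hαg⟩ := hlift v (i'.hom ≫ ξ.aut.hom ≫ i'.inv) inferInstance
    haveI := isIso_of_lift (hp := hU) (𝟙 (𝒰.p.obj v)) α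
    have hmap : (FibCat.toSelf 𝒰).map α = 𝟙 (𝒰.p.obj v) :=
      (map_eq_of_isHomLift_id hα).trans (eqToHom_refl _ _)
    let x : FibCat.InertiaObj (FibCat.toSelf 𝒰) := ⟨v, asIso α, hmap⟩
    let e₂ : (inertiaPush h).obj x ≅ ξ :=
      { hom := ⟨i'.hom, by
          show h.map α ≫ i'.hom = i'.hom ≫ ξ.aut.hom
          rw [hαg]
          simp⟩
        inv := ⟨i'.inv, by
          show ξ.aut.hom ≫ i'.inv = i'.inv ≫ h.map α
          rw [hαg]
          simp⟩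
        hom_inv_id := FibCat.InertiaObj.hom_ext i'.hom_inv_id
        inv_hom_id := FibCat.InertiaObj.hom_ext i'.inv_hom_id }
    refine ⟨x, fpIsoMk (Iso.refl v) e₂ ?_, ?_⟩
    · show h.map (𝟙 v) ≫ i'.hom = 𝟙 _ ≫ i'.hom
      rw [h.toFunctor.map_id]
    · exact fp_isHomLift (F := h) (G := FibCat.inertiaToBase (FibCat.toSelf 𝒳)) (𝟙 (𝒰.p.obj v)) _
        (h := IsHomLift.id (p := 𝒰.p) rfl)

theorem stableBC_isFiniteMor : StableBC (IsFiniteMor (S := S)) := fun _ _ _ _ _ _ _ _ _ _ _ _ sq hf =>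
  AlgSpDec.isFiniteMor_iff_repWith.2 (repWith_of_isPullback sq (AlgSpDec.isFiniteMor_iff_repWith.1 hf))

/-- The inertia is finite when it is finite on an etale stabilizer preserving cover. -/
theorem inertia_finite (h𝒳 : AlgSt.IsAlgStack Scheme.fppfPrecoverage 𝒳)
    (hloc : ∀ x : AlgSt.Points 𝒳, ∃ (𝒰 : AlgSt.Cat S) (h : 𝒰 ⥤ᵇ 𝒳),
      AlgSt.IsAlgStack Scheme.fppfPrecoverage 𝒰 ∧ x ∈ Set.range (AlgSt.Points.map h) ∧
      AlgSt.RepByAlgSpWith IsEtaleMor h ∧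
      AlgSt.RepByAlgSpWith IsFiniteMor (FibCat.inertiaToBase (FibCat.toSelf 𝒰)) ∧
      ∀ (Ω : Type u) [Field Ω] [IsAlgClosed Ω] (t : Spec (CommRingCat.of Ω) ⟶ S) (u : 𝒰.p.Fiber (Over.mk t)),
        Function.Surjective (Gerb.autMap h u.1)) :
    AlgSt.RepByAlgSpWith IsFiniteMor (FibCat.inertiaToBase (FibCat.toSelf 𝒳)) := by
  refine EtDescend.repByAlgSpWith_of_etale_cover stableBC_isFiniteMor
    (isLocalOnBase_fppf_of_fpqc AlgSpLib.isLocalOnBase_fpqc_isFiniteMor) h𝒳.isStack.1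
    (repByAlgSp1_inertiaToBase _ h𝒳.diag) fun x => ?_
  obtain ⟨𝒰, h, h𝒰, hx, he, hfin, hsurj⟩ := hloc x
  haveI := faithful_of_repByAlgSp1 h𝒳.isStack.1 h (repByAlgSp1_of_repByAlgSpWith he)
  refine ⟨𝒰, h, h𝒰.isStack.1, hx, he, ?_⟩
  exact (repByAlgSpWith_iff_of_square (f := FibCat.fpFst h (FibCat.inertiaToBase (FibCat.toSelf 𝒳)))
    (f' := FibCat.inertiaToBase (FibCat.toSelf 𝒰)) (a := comparison h) (b := BasedFunctor.id _)
    (comparison_isEquivOver h h𝒳.isStack.1 h𝒰.isStack.1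
      (AutLift.exists_lift h h𝒰.isStack.1 h𝒳.isStack.1 he hsurj))
    isEquivOver_id (Iso.refl _)).2 hfin

/-- A separated etale stabilizer preserving cover of a quasi-DM stack has finite inertia. -/
theorem inertia_finite_source (h𝒳 : AlgSt.IsAlgStack Scheme.fppfPrecoverage 𝒳)
    (h𝒰 : AlgSt.IsAlgStack Scheme.fppfPrecoverage 𝒰) (hqf : AlgSt.IsQuasiDMOver 𝒳)
    (hsep : AlgSt.IsSeparatedOver 𝒰) (he : AlgSt.RepByAlgSpWith IsEtaleMor h)
    (hsurj : ∀ (Ω : Type u) [Field Ω] [IsAlgClosed Ω] (t : Spec (CommRingCat.of Ω) ⟶ S)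
      (u : 𝒰.p.Fiber (Over.mk t)), Function.Surjective (Gerb.autMap h u.1)) :
    AlgSt.RepByAlgSpWith IsFiniteMor (FibCat.inertiaToBase (FibCat.toSelf 𝒰)) := by
  haveI := faithful_of_repByAlgSp1 h𝒳.isStack.1 h (repByAlgSp1_of_repByAlgSpWith he)
  have hl := (repByAlgSpWith_iff_of_square (f := FibCat.fpFst h (FibCat.inertiaToBase (FibCat.toSelf 𝒳)))
    (f' := FibCat.inertiaToBase (FibCat.toSelf 𝒰)) (a := comparison h) (b := BasedFunctor.id _)
    (comparison_isEquivOver h h𝒳.isStack.1 h𝒰.isStack.1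
      (AutLift.exists_lift h h𝒰.isStack.1 h𝒳.isStack.1 he hsurj))
    isEquivOver_id (Iso.refl _)).1 (repByAlgSpWith_fpFst h (repByAlgSpWith_inertiaToBase _ hqf))
  have hp := repByAlgSpWith_inertiaToBase _ hsep
  intro U y
  obtain ⟨F, e, hee, hle⟩ := hl U y
  exact ⟨F, e, hee, AlgSpDec.FiniteNbhd.isFiniteMor_of_proper_lqf F.property (IsAlgSpace.yon_obj U)
    (RepOver.property_of_stableBC stableBC_isProperMor (hp U y) e hee).2 hle⟩

end Groth.Agent.FCov14.InertiaEtale
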