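import Groth.Agent.FCov14.WeilAff

/-! The scheme of sections of an affine scheme over a finite free algebra. -/

universe u

set_option autoImplicit false
set_option backward.isDefEq.respectTransparency false
set_option backward.isDefEq.respectTransparency.types false

open CategoryTheory Limits AlgebraicGeometry TensorProduct Algebra.TensorProduct

namespace Groth.Agent.FCov14.WeilAff

variable {k L : Type u} [CommRing k] [CommRing L] [Algebra k L] {J : Type} [Fintype J] [DecidableEq J]
  (e : Module.Basis J k L) (C : Type u) [CommRing C] [Algebra k C] [Algebra L C] [IsScalarTower k L C]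

variable (k L) in
/-- The map of spectra of the finite free algebra. -/
noncomputable abbrev specMap : Spec (CommRingCat.of L) ⟶ Spec (CommRingCat.of k) :=
  Spec.map (CommRingCat.ofHom (algebraMap k L))

/-- The structure map of the scheme of sections. -/
noncomputable abbrev εS : Spec (CommRingCat.of (WS e C)) ⟶ Spec (CommRingCat.of k) := specMap k (WS e C)

/-- The universal section. -/
noncomputable def uS : pullback (specMap k L) (εS e C) ⟶ Spec (CommRingCat.of C) :=
  (pullbackSpecIso k L (WS e C)).hom ≫ Spec.map (CommRingCat.ofHom (univS e C).toRingHom)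

/-- The structure map of the affine scheme over the finite free algebra. -/
noncomputable abbrev γS : Spec (CommRingCat.of C) ⟶ Spec (CommRingCat.of L) := specMap L C

theorem uS_γS : uS e C ≫ γS C = pullback.fst _ _ := by
  rw [uS, Category.assoc]
  refine Eq.trans ?_ (pullbackSpecIso_hom_fst k L (WS e C))
  refine congrArg (_ ≫ ·) ((Spec.map_comp _ _).symm.trans ?_)
  congr 1
  refine CommRingCat.hom_ext (RingHom.ext fun l => ?_)
  exact univS_algebraMap e C l

/-- The map on base changes. -/
noncomputable abbrev bcMap {T : Scheme.{u}} {t : T ⟶ Spec (CommRingCat.of k)} (h : T ⟶ Spec (CommRingCat.of (WS e C)))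
    (hh : h ≫ εS e C = t) : pullback (specMap k L) t ⟶ pullback (specMap k L) (εS e C) :=
  pullback.map _ _ _ _ (𝟙 _) h (𝟙 _) (by simp) (by rw [Category.comp_id, hh])

/-- A morphism classifying a section. -/
def Classifies {T : Scheme.{u}} (t : T ⟶ Spec (CommRingCat.of k)) (s : pullback (specMap k L) t ⟶ Spec (CommRingCat.of C))
    (h : T ⟶ Spec (CommRingCat.of (WS e C))) : Prop :=
  ∃ hh : h ≫ εS e C = t, bcMap e C h hh ≫ uS e C = s

variable {C}

theorem classifies_affine (R : Type u) [CommRing R] [Algebra k R]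
    (s : pullback (specMap k L) (specMap k R) ⟶ Spec (CommRingCat.of C)) (hs : s ≫ γS C = pullback.fst _ _) :
    ∃! h : Spec (CommRingCat.of R) ⟶ Spec (CommRingCat.of (WS e C)), Classifies e C (specMap k R) s h := by
  let I := pullbackSpecIso k L R
  let σ : C →+* L ⊗[k] R := (Spec.preimage (I.inv ≫ s)).hom
  have hσ : Spec.map (CommRingCat.ofHom σ) = I.inv ≫ s := Spec.map_preimage _
  have hσL : ∀ l, σ (algebraMap L C l) = l ⊗ₜ[k] (1 : R) := by
    have : CommRingCat.ofHom (algebraMap L C) ≫ CommRingCat.ofHom σ = CommRingCat.ofHom includeLeftRingHom := by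
      apply Spec.map_injective
      rw [Spec.map_comp, hσ, Category.assoc, show Spec.map (CommRingCat.ofHom (algebraMap L C)) = γS C from rfl, hs]
      exact pullbackSpecIso_inv_fst k L R
    exact fun l => DFunLike.congr_fun (congrArg CommRingCat.Hom.hom this) l
  let f : C →ₐ[k] L ⊗[k] R :=
    { toRingHom := σ
      commutes' := fun c => by
        show σ (algebraMap k C c) = _
        rw [IsScalarTower.algebraMap_apply k L C, hσL]
        rfl }
  obtain ⟨g, hg, hu⟩ := existsUniqueS e C f hσL
  have key : ∀ (g' : WS e C →ₐ[k] R) (hh : Spec.map (CommRingCat.ofHom g'.toRingHom) ≫ εS e C = specMap k R),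
      I.inv ≫ bcMap e C (Spec.map (CommRingCat.ofHom g'.toRingHom)) hh ≫ uS e C =
        Spec.map (CommRingCat.ofHom ((bc L g').comp (univS e C)).toRingHom) := fun g' hh => by
    have h1 : I.inv ≫ bcMap e C (Spec.map (CommRingCat.ofHom g'.toRingHom)) hh =
        Spec.map (CommRingCat.ofHom (bc L g').toRingHom) ≫ (pullbackSpecIso k L (WS e C)).inv := by
      refine pullback.hom_ext ?_ ?_
      · simp only [bcMap, Category.assoc, pullback.map, pullback.lift_fst, Category.comp_id]
        rw [pullbackSpecIso_inv_fst, pullbackSpecIso_inv_fst, ← Spec.map_comp]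
        congr 1
        exact CommRingCat.hom_ext (RingHom.ext fun l => (show bc L g' (l ⊗ₜ 1) = l ⊗ₜ 1 by simp [bc]).symm)
      · simp only [bcMap, Category.assoc, pullback.map, pullback.lift_snd]
        rw [pullbackSpecIso_inv_snd, ← Category.assoc, pullbackSpecIso_inv_snd, ← Spec.map_comp, ← Spec.map_comp]
        refine congrArg Spec.map (CommRingCat.hom_ext (RingHom.ext fun l => ?_))
        exact (show bc L g' (1 ⊗ₜ l) = 1 ⊗ₜ g' l by simp [bc]).symm
    rw [← Category.assoc, h1, uS, Category.assoc, Iso.inv_hom_id_assoc, ← Spec.map_comp]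
    rfl
  have hgε : Spec.map (CommRingCat.ofHom g.toRingHom) ≫ εS e C = specMap k R := by
    rw [εS, specMap, ← Spec.map_comp]
    congr 1
    exact CommRingCat.hom_ext (RingHom.ext fun x => g.commutes x)
  refine ⟨Spec.map (CommRingCat.ofHom g.toRingHom), ⟨hgε, ?_⟩, fun h ⟨hh, hb⟩ => ?_⟩
  · rw [← cancel_epi I.inv, key g hgε, hg]
    exact hσ
  · obtain ⟨φ, rfl⟩ := Spec.map_surjective h
    have hφ : ∀ x, φ.hom (algebraMap k (WS e C) x) = algebraMap k R x := fun x => by
      have := Spec.map_injective ((Spec.map_comp _ _).trans hh)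
      exact DFunLike.congr_fun (congrArg CommRingCat.Hom.hom this) x
    let g' : WS e C →ₐ[k] R := { toRingHom := φ.hom, commutes' := hφ }
    have := key g' hh
    refine congrArg (fun a : WS e C →ₐ[k] R => Spec.map (CommRingCat.ofHom a.toRingHom)) (hu g' ?_)
    refine AlgHom.ext fun c => ?_
    have h2 : CommRingCat.ofHom ((bc L g').comp (univS e C)).toRingHom = CommRingCat.ofHom σ := by
      apply Spec.map_injective
      rw [← this, hσ]
      exact congrArg (I.inv ≫ ·) hb
    exact DFunLike.congr_fun (congrArg CommRingCat.Hom.hom h2) c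

variable {T T' : Scheme.{u}} {t : T ⟶ Spec (CommRingCat.of k)}

/-- Restriction of classifying morphisms. -/
theorem Classifies.comp {s : pullback (specMap k L) t ⟶ Spec (CommRingCat.of C)}
    {h : T ⟶ Spec (CommRingCat.of (WS e C))} (hc : Classifies e C t s h) (a : T' ⟶ T) :
    Classifies e C (a ≫ t) (pullback.map _ _ _ _ (𝟙 _) a (𝟙 _) (by simp) (by simp) ≫ s) (a ≫ h) := by
  obtain ⟨hh, hb⟩ := hc
  refine ⟨by rw [Category.assoc, hh], ?_⟩
  refine Eq.trans ?_ (congrArg (pullback.map _ _ _ _ (𝟙 _) a (𝟙 _) (by simp) (by simp) ≫ ·) hb)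
  refine Eq.trans (congrArg (· ≫ uS e C) ?_) (Category.assoc _ _ _)
  exact pullback.hom_ext (by simp [bcMap]) (by simp [bcMap])

theorem classifies_affine' {R : CommRingCat.{u}} (t : Spec R ⟶ Spec (CommRingCat.of k))
    (s : pullback (specMap k L) t ⟶ Spec (CommRingCat.of C)) (hs : s ≫ γS C = pullback.fst _ _) :
    ∃! h : Spec R ⟶ Spec (CommRingCat.of (WS e C)), Classifies e C t s h := by
  obtain ⟨φ, rfl⟩ := Spec.map_surjective t
  letI : Algebra k R := φ.hom.toAlgebra
  exact classifies_affine e R s hs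

theorem map_fst_eq (a : T' ⟶ T) (w₁) (w₂) :
    pullback.map (specMap k L) (a ≫ t) (specMap k L) t (𝟙 _) a (𝟙 _) w₁ w₂ ≫ pullback.fst _ _ = pullback.fst _ _ := by
  simp

theorem piece_eq {s : pullback (specMap k L) t ⟶ Spec (CommRingCat.of C)} {H : T ⟶ Spec (CommRingCat.of (WS e C))}
    (hHε : H ≫ εS e C = t) {a : T' ⟶ T} {h : T' ⟶ Spec (CommRingCat.of (WS e C))}
    (hc : Classifies e C (a ≫ t) (pullback.map _ _ _ _ (𝟙 _) a (𝟙 _) (by simp) (by simp) ≫ s) h) (hH : a ≫ H = h) :
    pullback.fst (pullback.snd (specMap k L) t) a ≫ bcMap e C H hHε ≫ uS e C =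
      pullback.fst (pullback.snd (specMap k L) t) a ≫ s := by
  obtain ⟨hh, hb⟩ := hc
  let l : pullback (pullback.snd (specMap k L) t) a ⟶ pullback (specMap k L) (a ≫ t) :=
    pullback.lift (pullback.fst _ _ ≫ pullback.fst _ _) (pullback.snd _ _)
      (by rw [Category.assoc, pullback.condition, pullback.condition_assoc])
  have h1 : pullback.fst (pullback.snd (specMap k L) t) a ≫ bcMap e C H hHε = l ≫ bcMap e C h hh :=
    pullback.hom_ext (by simp [bcMap, l]) (by simp [bcMap, l, ← hH, pullback.condition_assoc])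
  have h2 : l ≫ pullback.map (specMap k L) (a ≫ t) (specMap k L) t (𝟙 _) a (𝟙 _) (by simp) (by simp) =
      pullback.fst (pullback.snd (specMap k L) t) a :=
    pullback.hom_ext (by simp [l]) (by simp [l, pullback.condition])
  rw [← Category.assoc, h1, Category.assoc, hb, ← Category.assoc, h2]

theorem map_s_fst {s : pullback (specMap k L) t ⟶ Spec (CommRingCat.of C)} (hs : s ≫ γS C = pullback.fst _ _)
    (a : T' ⟶ T) (w₁) (w₂) :
    (pullback.map (specMap k L) (a ≫ t) (specMap k L) t (𝟙 _) a (𝟙 _) w₁ w₂ ≫ s) ≫ γS C = pullback.fst _ _ :=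
  (Category.assoc _ _ _).trans ((congrArg (_ ≫ ·) hs).trans (map_fst_eq a w₁ w₂))

theorem classifies_unique {s : pullback (specMap k L) t ⟶ Spec (CommRingCat.of C)}
    (hs : s ≫ γS C = pullback.fst _ _) {h h' : T ⟶ Spec (CommRingCat.of (WS e C))}
    (hc : Classifies e C t s h) (hc' : Classifies e C t s h') : h = h' := by
  refine Scheme.Cover.hom_ext T.affineCover _ _ fun i => ?_
  exact (classifies_affine' e _ _ (map_s_fst hs _ _ _)).unique
    (hc.comp e (T.affineCover.f i)) (hc'.comp e (T.affineCover.f i))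

theorem classifies_congr {t' : T ⟶ Spec (CommRingCat.of k)} (h0 : t = t')
    {s : pullback (specMap k L) t ⟶ Spec (CommRingCat.of C)} {h : T ⟶ Spec (CommRingCat.of (WS e C))}
    (hc : Classifies e C t s h) :
    Classifies e C t' (pullback.map _ _ _ _ (𝟙 _) (𝟙 T) (𝟙 _) (by simp) (by simp [h0]) ≫ s) h := by
  subst h0
  have : pullback.map (specMap k L) t (specMap k L) t (𝟙 _) (𝟙 T) (𝟙 _) (by simp) (by simp) = 𝟙 _ :=
    pullback.hom_ext (by simp) (by simp)
  rwa [this, Category.id_comp]

/-- The scheme of sections represents sections over every scheme. -/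
theorem existsUnique_classifies (s : pullback (specMap k L) t ⟶ Spec (CommRingCat.of C))
    (hs : s ≫ γS C = pullback.fst _ _) :
    ∃! h : T ⟶ Spec (CommRingCat.of (WS e C)), Classifies e C t s h := by
  let 𝒰 := T.affineCover
  have hex : ∀ i, ∃ h, Classifies e C (𝒰.f i ≫ t)
      (pullback.map _ _ _ _ (𝟙 _) (𝒰.f i) (𝟙 _) (by simp) (by simp) ≫ s) h := fun i =>
    (classifies_affine' e _ _ (map_s_fst hs _ _ _)).exists
  choose h hc using hex
  have hcompat : ∀ i j, pullback.fst (𝒰.f i) (𝒰.f j) ≫ h i = pullback.snd (𝒰.f i) (𝒰.f j) ≫ h j := fun i j => by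
    have h1 := (hc i).comp e (pullback.fst (𝒰.f i) (𝒰.f j))
    have h2 := (hc j).comp e (pullback.snd (𝒰.f i) (𝒰.f j))
    have h2' := classifies_congr e (t' := pullback.fst (𝒰.f i) (𝒰.f j) ≫ 𝒰.f i ≫ t)
      (by rw [← Category.assoc, ← pullback.condition, Category.assoc]) h2
    refine classifies_unique e ?_ h1 ?_
    · exact map_s_fst (map_s_fst hs _ _ _) _ _ _
    · convert! h2' using 1
      simp only [← Category.assoc]
      congr 1
      exact pullback.hom_ext (by simp) (by simp [pullback.condition])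
  let H := Scheme.Cover.glueMorphisms 𝒰 h hcompat
  have hH : ∀ i, 𝒰.f i ≫ H = h i := fun i => Scheme.Cover.ι_glueMorphisms 𝒰 h hcompat i
  have hHε : H ≫ εS e C = t := Scheme.Cover.hom_ext 𝒰 _ _ fun i => by
    rw [← Category.assoc, hH, (hc i).1]
  refine ⟨H, ⟨hHε, Scheme.Cover.hom_ext (𝒰.pullback₁ (pullback.snd (specMap k L) t)) _ _ fun i => ?_⟩,
    fun h' hc' => classifies_unique e hs hc' ⟨hHε, ?_⟩⟩
  rotate_left
  · refine Scheme.Cover.hom_ext (𝒰.pullback₁ (pullback.snd (specMap k L) t)) _ _ fun i => ?_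
    exact piece_eq e hHε (hc i) (hH i)
  · exact piece_eq e hHε (hc i) (hH i)

end Groth.Agent.FCov14.WeilAff
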