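import Groth.Agent.FCov14.Pushf
import Groth.Agent.FCov14.PushfAffine
import Groth.Agent.AlgStLib.SpTorsor
import Groth.Agent.AlgSpLib.Rep

/-! Affine pieces of a sheaf of sections along a finite morphism. -/

set_option autoImplicit false
set_option backward.isDefEq.respectTransparency false
set_option backward.isDefEq.respectTransparency.types false

universe u

open CategoryTheory CategoryTheory.Limits Opposite AlgebraicGeometry AlgSp
open Groth.Agent.AlgSpLib Groth.Agent.AlgStLib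

namespace Groth.Agent.FCov14.Pushf

variable {S : Scheme.{u}}

/-- A commutative square of sheaves cartesian on points is cartesian. -/
theorem isPullback_of_points {P X Y Z : Sp S} {fst : P ⟶ X} {snd : P ⟶ Y} {f : X ⟶ Z} {g : Y ⟶ Z}
    (w : fst ≫ f = snd ≫ g)
    (h : ∀ W (x : (yon S).obj W ⟶ X) (y : (yon S).obj W ⟶ Y), x ≫ f = y ≫ g →
      ∃! p : (yon S).obj W ⟶ P, p ≫ fst = x ∧ p ≫ snd = y) : IsPullback fst snd f g := by
  choose l hl hu using h
  let L : pullback f g ⟶ P := SheafGlue.homOfPoints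
    (fun W p => l W (p ≫ pullback.fst f g) (p ≫ pullback.snd f g) (by simp [pullback.condition])) fun V W k p => by
      refine (hu V _ _ _ _ ⟨?_, ?_⟩).symm
      · rw [Category.assoc, (hl W _ _ _).1, Category.assoc]
      · rw [Category.assoc, (hl W _ _ _).2, Category.assoc]
  have hL : ∀ W (p : (yon S).obj W ⟶ pullback f g), p ≫ L ≫ fst = p ≫ pullback.fst f g ∧
      p ≫ L ≫ snd = p ≫ pullback.snd f g := fun W p => by
    rw [← Category.assoc, ← Category.assoc, SheafGlue.comp_homOfPoints]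
    exact hl W _ _ _
  let e : P ≅ pullback f g :=
    { hom := pullback.lift fst snd w
      inv := L
      hom_inv_id := SheafGlue.hom_ext_points fun W p => by
        rw [Category.comp_id, ← Category.assoc, SheafGlue.comp_homOfPoints]
        exact (hu W _ _ _ _ ⟨by simp, by simp⟩).symm
      inv_hom_id := pullback.hom_ext
        (SheafGlue.hom_ext_points fun W p => by rw [Category.assoc, pullback.lift_fst, Category.id_comp]; exact (hL W p).1)
        (SheafGlue.hom_ext_points fun W p => by rw [Category.assoc, pullback.lift_snd, Category.id_comp]; exact (hL W p).2) }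
  exact IsPullback.of_iso_pullback ⟨w⟩ e (pullback.lift_fst _ _ _) (pullback.lift_snd _ _ _)

variable {B Z Y : Over S} {pz : Z ⟶ B} {q : Y ⟶ Z}

/-- The section given by a morphism of schemes. -/
noncomputable def secOf {W : Over S} (b : W ⟶ B) (m : pb pz b ⟶ Y) (hm : m ≫ q = prZ pz b) :
    Sec pz ((yon S).map q) W :=
  ⟨b, (yon S).map m, by rw [← Functor.map_comp, hm]⟩

/-- The morphism of schemes underlying a section. -/
noncomputable def Sec.m {W : Over S} (x : Sec pz ((yon S).map q) W) : pb pz x.b ⟶ Y := (yon S).preimage x.s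

theorem Sec.map_m {W : Over S} (x : Sec pz ((yon S).map q) W) : (yon S).map x.m = x.s := (yon S).map_preimage _

theorem Sec.m_q {W : Over S} (x : Sec pz ((yon S).map q) W) : x.m ≫ q = prZ pz x.b :=
  (yon S).map_injective (by rw [Functor.map_comp, x.map_m, x.w])

theorem Sec.m_res {W W' : Over S} (g : W' ⟶ W) (x : Sec pz ((yon S).map q) W) :
    (x.res g).m = pbMap pz g rfl ≫ x.m :=
  (yon S).map_injective ((x.res g).map_m.trans (by rw [Functor.map_comp, x.map_m]; rfl))

theorem Sec.ext_m {W : Over S} {x y : Sec pz ((yon S).map q) W} (hb : x.b = y.b)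
    (h : pbMap pz (𝟙 W) (b := y.b) (b' := x.b) (by rw [Category.id_comp, hb]) ≫ y.m = x.m) : x = y :=
  Sec.ext' hb (by rw [← x.map_m, ← y.map_m, ← Functor.map_comp, h])

variable (pz q) in
/-- An affine piece of the sheaf of sections. -/
structure PieceData : Type (u + 1) where
  k : Type u
  L : Type u
  C : Type u
  [crk : CommRing k]
  [crL : CommRing L]
  [crC : CommRing C]
  [algL : Algebra k L]
  [algkC : Algebra k C]
  [algC : Algebra L C]
  [tower : IsScalarTower k L C]
  d : ℕ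
  e : Module.Basis (Fin d) k L
  ιV : Spec (CommRingCat.of k) ⟶ B.left
  [openV : IsOpenImmersion ιV]
  ζ : Spec (CommRingCat.of L) ⟶ Z.left
  sqZ : IsPullback ζ (WeilAff.specMap k L) pz.left ιV
  ιY : Spec (CommRingCat.of C) ⟶ Y.left
  [openY : IsOpenImmersion ιY]
  hY : ιY ≫ q.left = WeilAff.γS (L := L) C ≫ ζ

attribute [instance] PieceData.crk PieceData.crL PieceData.crC PieceData.algL PieceData.algkC PieceData.algC
  PieceData.tower PieceData.openV PieceData.openY

variable (P : PieceData pz q)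

/-- The scheme of a piece. -/
noncomputable def PieceData.obj : Over S := Over.mk (WeilAff.εS P.e P.C ≫ P.ιV ≫ B.hom)

/-- The map of a piece to the base. -/
noncomputable def PieceData.b : P.obj ⟶ B := Over.homMk (WeilAff.εS P.e P.C ≫ P.ιV) (by simp [PieceData.obj])

theorem PieceData.b_left : P.b.left = WeilAff.εS P.e P.C ≫ P.ιV := rfl

/-- Base changes of a piece as pullbacks over the affine base. -/
theorem PieceData.isPullback_aux {W : Over S} (b : W ⟶ B) (t : W.left ⟶ Spec (CommRingCat.of P.k))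
    (ht : t ≫ P.ιV = b.left) : ∃ l : (pb pz b).left ⟶ Spec (CommRingCat.of P.L),
      IsPullback l (prW pz b).left (WeilAff.specMap P.k P.L) t ∧ l ≫ P.ζ = (prZ pz b).left := by
  have h0 : IsPullback (prZ pz b).left (prW pz b).left pz.left b.left :=
    ((isPullback_pb pz b).map (Over.forget S)).flip
  let l := P.sqZ.lift (prZ pz b).left ((prW pz b).left ≫ t) (by rw [Category.assoc, ht, h0.w])
  have hl : l ≫ P.ζ = (prZ pz b).left := P.sqZ.lift_fst _ _ _
  refine ⟨l, IsPullback.of_right ?_ (P.sqZ.lift_snd _ _ _) P.sqZ, hl⟩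
  rw [hl, ht]
  exact h0

/-- The universal section of a piece. -/
noncomputable def PieceData.sec : Sec pz ((yon S).map q) P.obj :=
  let l := (P.isPullback_aux P.b (WeilAff.εS P.e P.C) P.b_left.symm).choose
  have hl := (P.isPullback_aux P.b (WeilAff.εS P.e P.C) P.b_left.symm).choose_spec
  let m₀ : (pb pz P.b).left ⟶ Y.left := hl.1.isoPullback.hom ≫ WeilAff.uS P.e P.C ≫ P.ιY
  have hm₀ : m₀ ≫ q.left = (prZ pz P.b).left := by
    simp only [m₀, Category.assoc, P.hY]
    rw [← Category.assoc (WeilAff.uS P.e P.C), WeilAff.uS_γS, hl.1.isoPullback_hom_fst_assoc, hl.2]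
  secOf P.b (Over.homMk m₀ (by
    rw [← Over.w q, ← Category.assoc, hm₀, Over.w])) (Over.OverMorphism.ext hm₀)

/-- The map of a piece to the sheaf of sections. -/
noncomputable def PieceData.map : (yon S).obj P.obj ⟶ sheaf pz ((yon S).map q) := pt pz _ P.sec

theorem PieceData.sec_m_left : ∃ (l : (pb pz P.b).left ⟶ Spec (CommRingCat.of P.L))
    (hl : IsPullback l (prW pz P.b).left (WeilAff.specMap P.k P.L) (WeilAff.εS P.e P.C)),
    l ≫ P.ζ = (prZ pz P.b).left ∧ P.sec.m.left = hl.isoPullback.hom ≫ WeilAff.uS P.e P.C ≫ P.ιY := by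
  have hl := (P.isPullback_aux P.b (WeilAff.εS P.e P.C) P.b_left.symm).choose_spec
  refine ⟨_, hl.1, hl.2, ?_⟩
  have : P.sec.m = _ := (yon S).preimage_map _
  rw [this]
  rfl

/-- The open locus of a point where the section lands in the piece. -/
def landSet {W : Over S} (x : Sec pz ((yon S).map q) W) : Set W.left :=
  x.b.left ⁻¹' Set.range P.ιV ∩ ((prW pz x.b).left '' ((x.m.left ⁻¹' Set.range P.ιY)ᶜ))ᶜ

theorem isOpen_landSet [IsFinite pz.left] {W : Over S} (x : Sec pz ((yon S).map q) W) : IsOpen (landSet P x) := by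
  have : IsFinite (prW pz x.b).left :=
    MorphismProperty.of_isPullback ((isPullback_pb pz x.b).map (Over.forget S)).flip ‹IsFinite pz.left›
  exact (P.ιV.isOpenEmbedding.isOpen_range.preimage x.b.left.continuous).inter
    ((prW pz x.b).left.isClosedMap _ (P.ιY.isOpenEmbedding.isOpen_range.preimage x.m.left.continuous).isClosed_compl).isOpen_compl

theorem PieceData.range_subset_landSet {W V : Over S} (x : Sec pz ((yon S).map q) W) (a : V ⟶ P.obj) (c : V ⟶ W)
    (he : P.sec.res a = x.res c) : Set.range c.left ⊆ landSet P x := by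
  rintro _ ⟨v, rfl⟩
  have hb : a ≫ P.b = c ≫ x.b := congrArg Sec.b he
  refine ⟨⟨(WeilAff.εS P.e P.C) (a.left v), ?_⟩, ?_⟩
  · exact congrArg (fun f : V ⟶ B => f.left v) hb
  · rintro ⟨z, hz, hzv⟩
    have sq := (isPullback_pbMap pz c (b := x.b) rfl).map (Over.forget S)
    obtain ⟨z', hz', -⟩ := Scheme.exists_preimage_of_isPullback sq z v hzv
    refine hz ?_
    have h2 := Sec.res_s he hb
    rw [← P.sec.map_m, ← (x.res c).map_m, ← Functor.map_comp] at h2
    have h3 := congrArg Over.Hom.left ((yon S).map_injective h2)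
    rw [Sec.m_res] at h3
    obtain ⟨l, hl, -, hm⟩ := P.sec_m_left
    rw [Over.comp_left, Over.comp_left, hm] at h3
    show x.m.left z ∈ Set.range P.ιY
    rw [← hz']
    exact ⟨_, congrArg (fun f => f z') h3⟩

theorem PieceData.pbMap_isoPullback {V : Over S} {bv : V ⟶ B} (c : V ⟶ P.obj) (hc : c ≫ P.b = bv)
    (t : V.left ⟶ Spec (CommRingCat.of P.k)) (hcε : c.left ≫ WeilAff.εS P.e P.C = t)
    {l : (pb pz bv).left ⟶ Spec (CommRingCat.of P.L)} (hl : IsPullback l (prW pz bv).left (WeilAff.specMap P.k P.L) t)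
    (hlζ : l ≫ P.ζ = (prZ pz bv).left) {l₁ : (pb pz P.b).left ⟶ Spec (CommRingCat.of P.L)}
    (hl₁ : IsPullback l₁ (prW pz P.b).left (WeilAff.specMap P.k P.L) (WeilAff.εS P.e P.C))
    (hl₁ζ : l₁ ≫ P.ζ = (prZ pz P.b).left) :
    (pbMap pz c hc).left ≫ hl₁.isoPullback.hom = hl.isoPullback.hom ≫ WeilAff.bcMap P.e P.C c.left hcε := by
  have e1 : (pbMap pz c hc).left ≫ (prW pz P.b).left = (prW pz bv).left ≫ c.left :=
    congrArg Over.Hom.left (pbMap_fst pz c hc)
  have e2 : (pbMap pz c hc).left ≫ (prZ pz P.b).left = (prZ pz bv).left :=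
    congrArg Over.Hom.left (pbMap_snd pz c hc)
  refine pullback.hom_ext ?_ ?_
  · rw [Category.assoc, Category.assoc, hl₁.isoPullback_hom_fst, WeilAff.bcMap, pullback.map, pullback.lift_fst,
      Category.comp_id, hl.isoPullback_hom_fst]
    refine P.sqZ.hom_ext ?_ ?_
    · rw [Category.assoc, hl₁ζ, e2, hlζ]
    · rw [Category.assoc, hl₁.w, ← Category.assoc, e1, Category.assoc, hcε, hl.w]
  · rw [Category.assoc, Category.assoc, hl₁.isoPullback_hom_snd, WeilAff.bcMap, pullback.map, pullback.lift_snd,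
      hl.isoPullback_hom_snd_assoc, e1]

theorem PieceData.res_sec_eq {V : Over S} {x : Sec pz ((yon S).map q) V} (a : V ⟶ P.obj)
    (t : V.left ⟶ Spec (CommRingCat.of P.k)) (hh : a.left ≫ WeilAff.εS P.e P.C = t)
    (l : (pb pz x.b).left ⟶ Spec (CommRingCat.of P.L))
    (hl : IsPullback l (prW pz x.b).left (WeilAff.specMap P.k P.L) t) (hlζ : l ≫ P.ζ = (prZ pz x.b).left)
    (ht : t ≫ P.ιV = x.b.left)
    (hm : hl.isoPullback.hom ≫ WeilAff.bcMap P.e P.C a.left hh ≫ WeilAff.uS P.e P.C ≫ P.ιY = x.m.left) :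
    P.sec.res a = x := by
  have hb : a ≫ P.b = x.b := Over.OverMorphism.ext (by
    rw [Over.comp_left, P.b_left, ← Category.assoc, hh, ht])
  refine (Sec.ext_m hb.symm ?_).symm
  obtain ⟨l₁, hl₁, hl₁ζ, hm₁⟩ := P.sec_m_left
  refine Over.OverMorphism.ext ?_
  show (pbMap pz (𝟙 V) _).left ≫ (P.sec.res a).m.left = x.m.left
  rw [P.sec.m_res, Over.comp_left, hm₁, ← hm, ← reassoc_of% (P.pbMap_isoPullback a hb t hh hl hlζ hl₁ hl₁ζ)]
  have hk : pbMap pz (𝟙 V) (b := a ≫ P.b) (b' := x.b) (by rw [Category.id_comp, hb]) ≫ pbMap pz a rfl =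
      pbMap pz a hb := pb_hom_ext pz
    (by rw [Category.assoc, pbMap_fst, ← Category.assoc, pbMap_fst, pbMap_fst, Category.comp_id])
    (by rw [Category.assoc, pbMap_snd, pbMap_snd, pbMap_snd])
  rw [← hk, Over.comp_left]
  simp only [Category.assoc]

theorem PieceData.eq_of_res_eq {V : Over S} {a a' : V ⟶ P.obj} (he : P.sec.res a = P.sec.res a') : a = a' := by
  have hb : a ≫ P.b = a' ≫ P.b := congrArg Sec.b he
  have hε : a.left ≫ WeilAff.εS P.e P.C = a'.left ≫ WeilAff.εS P.e P.C := by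
    rw [← cancel_mono P.ιV, Category.assoc, Category.assoc]
    exact congrArg Over.Hom.left hb
  obtain ⟨l, hl, hlζ⟩ := P.isPullback_aux (a ≫ P.b) (a.left ≫ WeilAff.εS P.e P.C) (by rw [Category.assoc]; rfl)
  obtain ⟨l₁, hl₁, hl₁ζ, hm₁⟩ := P.sec_m_left
  have hp : ∀ (c : V ⟶ P.obj) (hc : c ≫ P.b = a ≫ P.b) (hcε : c.left ≫ WeilAff.εS P.e P.C = a.left ≫ WeilAff.εS P.e P.C),
      (pbMap pz c hc).left ≫ hl₁.isoPullback.hom = hl.isoPullback.hom ≫ WeilAff.bcMap P.e P.C c.left hcε :=
    fun c hc hcε => P.pbMap_isoPullback c hc _ hcε hl hlζ hl₁ hl₁ζ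
  have h0 := Sec.res_s he.symm hb.symm
  rw [← P.sec.map_m, ← (P.sec.res a).map_m, ← Functor.map_comp] at h0
  have h1 := congrArg Over.Hom.left ((yon S).map_injective h0)
  rw [P.sec.m_res, Over.comp_left, Over.comp_left, hm₁, reassoc_of% (hp a' hb.symm hε.symm),
    reassoc_of% (hp a rfl rfl)] at h1
  have h2 : WeilAff.bcMap P.e P.C a'.left hε.symm ≫ WeilAff.uS P.e P.C =
      WeilAff.bcMap P.e P.C a.left rfl ≫ WeilAff.uS P.e P.C :=
    (cancel_mono P.ιY).1 ((cancel_epi hl.isoPullback.hom).1 (by simpa only [Category.assoc] using h1))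
  refine Over.OverMorphism.ext (WeilAff.classifies_unique P.e ?_ ⟨rfl, rfl⟩ ⟨hε.symm, h2⟩)
  rw [Category.assoc, WeilAff.uS_γS, WeilAff.bcMap, pullback.map, pullback.lift_fst, Category.comp_id]

/-- A section landing in the piece is a point of the piece. -/
theorem PieceData.exists_res_eq {W W₀ : Over S} (x : Sec pz ((yon S).map q) W) (j : W₀ ⟶ W)
    (hj : ∀ w, j.left w ∈ landSet P x) : ∃ a : W₀ ⟶ P.obj, P.sec.res a = x.res j := by
  let t : W₀.left ⟶ Spec (CommRingCat.of P.k) := IsOpenImmersion.lift P.ιV (j.left ≫ x.b.left) (by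
    rintro _ ⟨w, rfl⟩
    exact (hj w).1)
  have ht : t ≫ P.ιV = (j ≫ x.b).left := IsOpenImmersion.lift_fac _ _ _
  obtain ⟨l, hl, hlζ⟩ := P.isPullback_aux (j ≫ x.b) t ht
  let s₀ : (pb pz (j ≫ x.b)).left ⟶ Spec (CommRingCat.of P.C) := IsOpenImmersion.lift P.ιY (x.res j).m.left (by
    rintro _ ⟨z, rfl⟩
    by_contra hz
    have hw := hj ((prW pz (j ≫ x.b)).left z)
    refine hw.2 ⟨(pbMap pz j rfl).left z, fun h => hz ?_, ?_⟩
    · rw [x.m_res]; exact h
    · rw [← Scheme.Hom.comp_apply, ← Over.comp_left, pbMap_fst]; rfl)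
  have hs₀ : s₀ ≫ P.ιY = (x.res j).m.left := IsOpenImmersion.lift_fac _ _ _
  have hs₀γ : (hl.isoPullback.inv ≫ s₀) ≫ WeilAff.γS (L := P.L) P.C = pullback.fst _ _ := by
    rw [← cancel_epi hl.isoPullback.hom, Category.assoc, Iso.hom_inv_id_assoc, hl.isoPullback_hom_fst]
    have h1 : (s₀ ≫ WeilAff.γS (L := P.L) P.C) ≫ P.ζ = l ≫ P.ζ := by
      rw [Category.assoc, ← P.hY, ← Category.assoc, hs₀, hlζ, ← Over.comp_left, Sec.m_q]; rfl
    refine P.sqZ.hom_ext h1 ?_
    rw [← cancel_mono P.ιV, Category.assoc, Category.assoc, Category.assoc, ← P.sqZ.w]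
    simpa only [Category.assoc] using congrArg (· ≫ pz.left) h1
  obtain ⟨h, ⟨hh, hb⟩, hu⟩ := WeilAff.existsUnique_classifies P.e (hl.isoPullback.inv ≫ s₀) hs₀γ
  let hO : W₀ ⟶ P.obj := Over.homMk h (by
    show h ≫ WeilAff.εS P.e P.C ≫ P.ιV ≫ B.hom = W₀.hom
    rw [← Category.assoc, hh, ← Category.assoc, ht, Over.w])
  refine ⟨hO, ?_⟩
  refine P.res_sec_eq hO t hh l hl hlζ ht ?_
  rw [← hs₀, ← cancel_epi hl.isoPullback.inv, Iso.inv_hom_id_assoc]
  have hb' : (WeilAff.bcMap P.e P.C h hh ≫ WeilAff.uS P.e P.C) ≫ P.ιY = (hl.isoPullback.inv ≫ s₀) ≫ P.ιY :=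
    congrArg (· ≫ P.ιY) hb
  simp only [Category.assoc] at hb' ⊢
  exact hb'

/-- The piece is an open subsheaf. -/
theorem PieceData.repWith_map [IsFinite pz.left] : RepWith @IsOpenImmersion P.map := by
  refine repWith_of_squares fun W g => ?_
  obtain ⟨x, rfl⟩ := (pt pz _).surjective g
  let O : W.left.Opens := ⟨landSet P x, isOpen_landSet P x⟩
  let W₀ : Over S := Over.mk (O.ι ≫ W.hom)
  let j : W₀ ⟶ W := Over.homMk O.ι rfl
  obtain ⟨hO, hres⟩ := P.exists_res_eq x j fun w => w.2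
  refine ⟨W₀, (yon S).map hO, j, isPullback_of_points ?_ fun V a c hac => ?_,
    (inferInstanceAs (IsOpenImmersion O.ι))⟩
  · rw [PieceData.map, map_pt, map_pt, hres]
  · obtain ⟨a, rfl⟩ := (yon S).map_surjective a
    obtain ⟨c, rfl⟩ := (yon S).map_surjective c
    rw [PieceData.map, map_pt, map_pt] at hac
    have he : P.sec.res a = x.res c := (pt pz _).injective hac
    have hcO : Set.range c.left ⊆ Set.range O.ι := by
      rw [Scheme.Opens.range_ι]
      exact P.range_subset_landSet x a c he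
    let c₀ : V ⟶ W₀ := Over.homMk (IsOpenImmersion.lift O.ι c.left hcO) (by
      show _ ≫ O.ι ≫ W.hom = _
      rw [← Category.assoc, IsOpenImmersion.lift_fac, Over.w])
    have hc₀ : c₀ ≫ j = c := Over.OverMorphism.ext (IsOpenImmersion.lift_fac _ _ _)
    have : c₀ ≫ hO = a := P.eq_of_res_eq (by
      rw [Sec.res_comp, hres, ← Sec.res_comp, hc₀, he])
    refine ⟨(yon S).map c₀, ⟨by rw [← Functor.map_comp, this], by rw [← Functor.map_comp, hc₀]⟩, ?_⟩
    rintro p ⟨-, hp2⟩
    obtain ⟨p, rfl⟩ := (yon S).map_surjective p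
    have h3 : p ≫ j = c₀ ≫ j := by
      rw [hc₀]; exact (yon S).map_injective (by rw [Functor.map_comp, hp2])
    have : Mono j.left := inferInstanceAs (Mono O.ι)
    exact congrArg (yon S).map (Over.OverMorphism.ext ((cancel_mono j.left).1 (congrArg Over.Hom.left h3)))

end Groth.Agent.FCov14.Pushf
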