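import Groth.Agent.FCov14.FpIsom
import Groth.Agent.AlgStLib.OverSpace
import Groth.Agent.AlgStLib.SpTorsor
import Groth.Agent.FCov14.PushfPiece

/-! Base change and properties of sheaves of isomorphisms. -/

set_option autoImplicit false
set_option backward.isDefEq.respectTransparency false
set_option backward.isDefEq.respectTransparency.types false

universe u

open CategoryTheory CategoryTheory.Limits Opposite AlgebraicGeometry AlgSp
open Groth.Agent.AlgSpLib Groth.Agent.AlgStLib Groth.Agent.FibBase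

namespace Groth.Agent.FCov14

variable {S : Scheme.{u}} {𝒳 : BasedCategory.{u + 1, u + 2} (Over S)} {U₁ U₂ V : Over S}
  (hX : Stk.IsPrestack (J S) 𝒳) {y₁ : FibCat.overCat U₁ ⥤ᵇ 𝒳} {y₂ : FibCat.overCat U₂ ⥤ᵇ 𝒳}

/-- The properties of a representable functor pass to sheaves of isomorphisms. -/
theorem property_isomP₁ {P : MorphismProperty (Sp S)} (hP : StableBC P) (hf : AlgSt.RepByAlgSpWith P y₂) :
    IsAlgSpace (isomP hX y₁ y₂) ∧ P (isomP₁ hX y₁ y₂) := by
  obtain ⟨F', e', he', hP'⟩ := hf U₁ y₁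
  obtain ⟨g, ⟨c⟩, ⟨i⟩⟩ := he'
  have hg : FibCat.IsEquivOver g := ⟨e', ⟨i⟩, ⟨c⟩⟩
  let e := fpFun hX y₁ y₂
  let k : AlgSt.ofSp (isomP hX y₁ y₂) ⥤ᵇ AlgSt.ofSp F'.obj := BasedFunctor.comp e g
  have : IsIso (spHom k) := isIso_spHom (Φ := k) (isEquivOver_comp (fpFun_isEquivOver hX y₁ y₂) hg)
  let j : BasedFunctor.comp k e' ≅ e := whiskerLeftIso e i
  have hj : AlgSt.spMapOfOver (BasedFunctor.comp e (FibCat.fpFst y₁ y₂)) =
      AlgSt.spMapOfOver (BasedFunctor.comp k (BasedFunctor.comp e' (FibCat.fpFst y₁ y₂))) :=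
    spMapOfOver_congr (whiskerRightIso j (FibCat.fpFst y₁ y₂)).symm
  refine ⟨F'.property.of_iso (asIso (spHom k)).symm, ?_⟩
  rw [← spMapOfOver_fpFun hX y₁ y₂, hj, spMapOfOver_comp]
  exact hP.precomp F'.property (IsAlgSpace.yon_obj U₁) _ hP'

/-- A functor is representable with a property if its sheaves of isomorphisms have it. -/
theorem repByAlgSpWith_of_isomP {P : MorphismProperty (Sp S)}
    (h : ∀ (W : Over S) (y : FibCat.overCat W ⥤ᵇ 𝒳), IsAlgSpace (isomP hX y y₂) ∧ P (isomP₁ hX y y₂)) :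
    AlgSt.RepByAlgSpWith P y₂ := fun W y =>
  ⟨⟨_, (h W y).1⟩, fpFun hX y y₂, fpFun_isEquivOver hX y y₂, by
    rw [spMapOfOver_fpFun]
    exact (h W y).2⟩

/-- The arrow after changing the source along a map. -/
def Arr.pre (j : V ⟶ U₁) {W : Over S} (a : Arr (BasedFunctor.comp (AlgSt.overMap j) y₁) y₂ W) : Arr y₁ y₂ W :=
  ⟨a.u₁ ≫ j, a.u₂, a.m, a.lift⟩

theorem Arr.pre_res (j : V ⟶ U₁) {W W' : Over S} (k : W' ⟶ W)
    (a : Arr (BasedFunctor.comp (AlgSt.overMap j) y₁) y₂ W) :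
    Arr.pre j (Arr.res hX.1 k a) = Arr.res hX.1 k (Arr.pre j a) := by
  refine (Arr.res_eq hX.1 ?_).symm
  obtain ⟨h₁, h₂, hw⟩ := Arr.isRes_res hX.1 k a
  refine ⟨(congrArg (· ≫ j) h₁).trans (Category.assoc _ _ _), h₂, ?_⟩
  exact hw.trans (congrArg (fun q => y₁.map q ≫ a.m) (Over.OverMorphism.ext rfl))

theorem Arr.existsUnique_pre (j : V ⟶ U₁) {W : Over S} (b : Arr y₁ y₂ W) (v : W ⟶ V) (hv : b.u₁ = v ≫ j) :
    ∃! a : Arr (BasedFunctor.comp (AlgSt.overMap j) y₁) y₂ W, a.u₁ = v ∧ Arr.pre j a = b := by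
  obtain ⟨b₁, b₂, bm, bl⟩ := b
  obtain rfl : b₁ = v ≫ j := hv
  refine ⟨⟨v, b₂, bm, bl⟩, ⟨rfl, rfl⟩, ?_⟩
  rintro ⟨a₁, a₂, am, al⟩ ⟨h, he⟩
  obtain rfl : a₁ = v := h
  simp only [Arr.pre, Arr.mk.injEq, true_and] at he
  obtain ⟨rfl, he⟩ := he
  obtain rfl := eq_of_heq he
  rfl

variable (y₁ y₂) in
/-- The comparison after changing the source. -/
noncomputable def isomPre (j : V ⟶ U₁) :
    isomP hX (BasedFunctor.comp (AlgSt.overMap j) y₁) y₂ ⟶ isomP hX y₁ y₂ :=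
  SheafGlue.homOfPoints (fun _ p => arrPt hX (Arr.pre j ((arrPt hX).symm p))) fun V W k p => by
    rw [map_arrPt, ← Arr.pre_res hX]
    congr 2
    apply (arrPt hX).injective
    rw [← map_arrPt, Equiv.apply_symm_apply, Equiv.apply_symm_apply]

theorem arrPt_isomPre (j : V ⟶ U₁) {W : Over S} (a : Arr (BasedFunctor.comp (AlgSt.overMap j) y₁) y₂ W) :
    arrPt hX a ≫ isomPre hX y₁ y₂ j = arrPt hX (Arr.pre j a) := by
  rw [isomPre, SheafGlue.comp_homOfPoints, Equiv.symm_apply_apply]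

theorem isomPre_snd (j : V ⟶ U₁) :
    isomPre hX y₁ y₂ j ≫ isomP₂ hX y₁ y₂ = isomP₂ hX (BasedFunctor.comp (AlgSt.overMap j) y₁) y₂ :=
  SheafGlue.hom_ext_points fun W p => by
    obtain ⟨a, rfl⟩ := (arrPt hX).surjective p
    rw [← Category.assoc, arrPt_isomPre, arrPt_snd, arrPt_snd]
    rfl

theorem isPullback_isomPre (j : V ⟶ U₁) :
    IsPullback (isomPre hX y₁ y₂ j) (isomP₁ hX (BasedFunctor.comp (AlgSt.overMap j) y₁) y₂)
      (isomP₁ hX y₁ y₂) ((yon S).map j) := by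
  refine Pushf.isPullback_of_points (SheafGlue.hom_ext_points fun W p => ?_) fun W b v hbv => ?_
  · obtain ⟨a, rfl⟩ := (arrPt hX).surjective p
    rw [← Category.assoc, arrPt_isomPre, arrPt_fst, ← Category.assoc, arrPt_fst, ← Functor.map_comp]
    rfl
  · obtain ⟨b, rfl⟩ := (arrPt hX).surjective b
    obtain ⟨v, rfl⟩ := (yon S).map_surjective v
    rw [arrPt_fst, ← Functor.map_comp] at hbv
    obtain ⟨a, ⟨ha₁, ha₂⟩, hu⟩ := Arr.existsUnique_pre j b v ((yon S).map_injective hbv)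
    refine ⟨arrPt hX a, ⟨by rw [arrPt_isomPre, ha₂], by rw [arrPt_fst, ha₁]⟩, ?_⟩
    rintro p ⟨hp₁, hp₂⟩
    obtain ⟨a', rfl⟩ := (arrPt hX).surjective p
    rw [arrPt_isomPre] at hp₁
    rw [arrPt_fst] at hp₂
    exact congrArg _ (hu a' ⟨(yon S).map_injective hp₂, (arrPt hX).injective hp₁⟩)

variable (y₁ y₂) in
/-- Inversion of isomorphisms. -/
noncomputable def isomInv : isomP hX y₁ y₂ ⟶ isomP hX y₂ y₁ :=
  SheafGlue.homOfPoints (fun _ p => arrPt hX (Arr.inv hX.1 ((arrPt hX).symm p))) fun V W k p => by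
    rw [map_arrPt, Arr.res_inv]
    congr 2
    apply (arrPt hX).injective
    rw [← map_arrPt, Equiv.apply_symm_apply, Equiv.apply_symm_apply]

theorem arrPt_isomInv {W : Over S} (a : Arr y₁ y₂ W) :
    arrPt hX a ≫ isomInv hX y₁ y₂ = arrPt hX (Arr.inv hX.1 a) := by
  rw [isomInv, SheafGlue.comp_homOfPoints, Equiv.symm_apply_apply]

theorem Arr.inv_inv {W : Over S} (a : Arr y₁ y₂ W) : Arr.inv hX.1 (Arr.inv hX.1 a) = a := by
  obtain ⟨a₁, a₂, am, al⟩ := a
  simp [Arr.inv]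

variable (y₁ y₂) in
/-- Isomorphisms in either direction form isomorphic sheaves. -/
noncomputable def isomInvIso : isomP hX y₁ y₂ ≅ isomP hX y₂ y₁ where
  hom := isomInv hX y₁ y₂
  inv := isomInv hX y₂ y₁
  hom_inv_id := SheafGlue.hom_ext_points fun W p => by
    obtain ⟨a, rfl⟩ := (arrPt hX).surjective p
    rw [← Category.assoc, arrPt_isomInv, arrPt_isomInv, Arr.inv_inv hX, Category.comp_id]
  inv_hom_id := SheafGlue.hom_ext_points fun W p => by
    obtain ⟨a, rfl⟩ := (arrPt hX).surjective p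
    rw [← Category.assoc, arrPt_isomInv, arrPt_isomInv, Arr.inv_inv hX, Category.comp_id]

theorem isomInv_fst : isomInv hX y₁ y₂ ≫ isomP₁ hX y₂ y₁ = isomP₂ hX y₁ y₂ :=
  SheafGlue.hom_ext_points fun W p => by
    obtain ⟨a, rfl⟩ := (arrPt hX).surjective p
    rw [← Category.assoc, arrPt_isomInv, arrPt_fst, arrPt_snd]
    rfl

theorem isomInv_snd : isomInv hX y₁ y₂ ≫ isomP₂ hX y₂ y₁ = isomP₁ hX y₁ y₂ :=
  SheafGlue.hom_ext_points fun W p => by
    obtain ⟨a, rfl⟩ := (arrPt hX).surjective p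
    rw [← Category.assoc, arrPt_isomInv, arrPt_snd, arrPt_fst]
    rfl

/-- Transport along an isomorphism between values of the first functor. -/
theorem exists_isPullback_transport {W : Over S} {U₀ : Over S} {y₀ : FibCat.overCat U₀ ⥤ᵇ 𝒳}
    (κ : Arr y₁ y₀ W) :
    ∃ (Q : Sp S) (l₁ : Q ⟶ isomP hX y₁ y₂) (l₀ : Q ⟶ isomP hX y₀ y₂) (π : Q ⟶ (yon S).obj W),
      IsPullback l₁ π (isomP₁ hX y₁ y₂) ((yon S).map κ.u₁) ∧
        IsPullback l₀ π (isomP₁ hX y₀ y₂) ((yon S).map κ.u₂) := by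
  let P₁ := pullback (isomP₁ hX y₁ y₂) ((yon S).map κ.u₁)
  have hpt : ∀ {T : Over S} (p : (yon S).obj T ⟶ P₁), ∃ w : T ⟶ W, (yon S).map w = p ≫ pullback.snd _ _ ∧
      ((arrPt hX).symm (p ≫ pullback.fst _ _)).u₁ = w ≫ κ.u₁ := fun p => by
    obtain ⟨w, hw⟩ := (yon S).map_surjective (p ≫ pullback.snd _ _)
    refine ⟨w, hw, (yon S).map_injective ?_⟩
    rw [← arrPt_fst hX, Equiv.apply_symm_apply, Category.assoc, pullback.condition, Functor.map_comp, hw,
      Category.assoc]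
  choose wOf hw hu using @hpt
  let val : ∀ {T : Over S} (p : (yon S).obj T ⟶ P₁), Arr y₀ y₂ T := fun {T} p =>
    Arr.comp (Arr.inv hX.1 (Arr.res hX.1 (wOf p) κ)) ((arrPt hX).symm (p ≫ pullback.fst _ _))
      (by rw [Arr.inv_u₂, Arr.res_u₁, hu])
  let l₀ : P₁ ⟶ isomP hX y₀ y₂ := SheafGlue.homOfPoints (fun _ p => arrPt hX (val p)) fun T' T k p => by
    have hk : wOf ((yon S).map k ≫ p) = k ≫ wOf p := (yon S).map_injective (by
      rw [hw, Functor.map_comp, hw, Category.assoc])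
    rw [map_arrPt, Arr.res_comp]
    refine congrArg _ ?_
    show Arr.comp _ _ _ = _
    congr 1
    · rw [Arr.res_inv, Arr.res_res, hk]
    · apply (arrPt hX).injective
      rw [← map_arrPt, Equiv.apply_symm_apply, Equiv.apply_symm_apply, Category.assoc]
  refine ⟨P₁, pullback.fst _ _, l₀, pullback.snd _ _, IsPullback.of_hasPullback _ _, ?_⟩
  refine Pushf.isPullback_of_points (SheafGlue.hom_ext_points fun T p => ?_) fun T b w hbw => ?_
  · rw [← Category.assoc, SheafGlue.comp_homOfPoints, arrPt_fst, ← Category.assoc p, ← hw, ← Functor.map_comp]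
    exact congrArg _ ((Arr.comp_u₁ _ _ _).trans ((Arr.inv_u₁ _ _).trans (Arr.res_u₂ _ _ _)))
  · obtain ⟨b, rfl⟩ := (arrPt hX).surjective b
    obtain ⟨w, rfl⟩ := (yon S).map_surjective w
    rw [arrPt_fst, ← Functor.map_comp] at hbw
    have hb := (yon S).map_injective hbw
    let ψ : Arr y₁ y₂ T := Arr.comp (Arr.res hX.1 w κ) b (by rw [Arr.res_u₂, hb])
    let p : (yon S).obj T ⟶ P₁ := pullback.lift (arrPt hX ψ) ((yon S).map w)
      (by rw [arrPt_fst, Arr.comp_u₁, Arr.res_u₁, Functor.map_comp])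
    have hv : ∀ (q : (yon S).obj T ⟶ P₁) (a : Arr y₁ y₂ T) (h : a.u₁ = w ≫ κ.u₁),
        q ≫ pullback.fst _ _ = arrPt hX a → q ≫ pullback.snd _ _ = (yon S).map w →
        q ≫ l₀ = arrPt hX (Arr.comp (Arr.inv hX.1 (Arr.res hX.1 w κ)) a
          (by rw [Arr.inv_u₂, Arr.res_u₁, h])) := by
      intro q a h h₁ h₂
      have hwq : wOf q = w := (yon S).map_injective ((hw q).trans h₂)
      rw [SheafGlue.comp_homOfPoints]
      refine congrArg _ ?_
      show Arr.comp _ _ _ = _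
      congr 1
      · rw [hwq]
      · rw [h₁, Equiv.symm_apply_apply]
    refine ⟨p, ⟨?_, pullback.lift_snd _ _ _⟩, ?_⟩
    · rw [hv p ψ (by rw [Arr.comp_u₁, Arr.res_u₁]) (pullback.lift_fst _ _ _) (pullback.lift_snd _ _ _)]
      refine congrArg _ ?_
      show Arr.comp _ (Arr.comp _ b _) _ = b
      rw [← Arr.comp_assoc (Arr.inv hX.1 (Arr.res hX.1 w κ)) (Arr.res hX.1 w κ) b rfl (by rw [Arr.res_u₂, hb])]
      refine Eq.trans ?_ (Arr.id_comp' b (Arr.res hX.1 w κ).u₂ (by rw [Arr.res_u₂, hb]))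
      congr 1
      exact Arr.inv_comp hX.1 _
    · rintro q ⟨hq₁, hq₂⟩
      obtain ⟨a, ha⟩ := (arrPt hX).surjective (q ≫ pullback.fst _ _)
      have hau : a.u₁ = w ≫ κ.u₁ := (yon S).map_injective (by
        rw [← arrPt_fst hX, ha, Category.assoc, pullback.condition, ← Category.assoc, hq₂, Functor.map_comp])
      rw [hv q a hau ha.symm hq₂] at hq₁
      have hba := (arrPt hX).injective hq₁
      refine pullback.hom_ext ?_ (hq₂.trans (pullback.lift_snd _ _ _).symm)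
      rw [← ha, pullback.lift_fst]
      refine congrArg _ ?_
      subst hba
      show a = Arr.comp _ (Arr.comp _ a _) _
      rw [← Arr.comp_assoc (Arr.res hX.1 w κ) (Arr.inv hX.1 (Arr.res hX.1 w κ)) a rfl (by
        rw [Arr.inv_u₂, Arr.res_u₁, hau])]
      refine (Arr.id_comp' a (Arr.res hX.1 w κ).u₁ (by rw [Arr.res_u₁, hau])).symm.trans ?_
      congr 1
      exact (Arr.comp_inv hX.1 _).symm

end Groth.Agent.FCov14
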