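import Groth.Agent.AlgStLib.IsomSheaf
import Groth.Agent.AlgStLib.OfSp
import Groth.Agent.FCov14.Arr
import Groth.Prelude.Def_AlgSt3

/-! Sheaves of isomorphisms between values of two functors out of slices, on points. -/

set_option autoImplicit false
set_option backward.isDefEq.respectTransparency false
set_option backward.isDefEq.respectTransparency.types false

universe u

open CategoryTheory CategoryTheory.Limits Opposite AlgebraicGeometry AlgSp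
open Groth.Agent.AlgSpLib Groth.Agent.AlgStLib Groth.Agent.FibBase

namespace Groth.Agent.FCov14

variable {S : Scheme.{u}} {𝒳 : BasedCategory.{u + 1, u + 2} (Over S)} {U₁ U₂ : Over S}
  (hX : Stk.IsPrestack (J S) 𝒳) (y₁ : FibCat.overCat U₁ ⥤ᵇ 𝒳) (y₂ : FibCat.overCat U₂ ⥤ᵇ 𝒳)

/-- The sheaf of isomorphisms between values of two functors. -/
noncomputable def isomP : Sp S :=
  IsomSheaf.isom (BasedFunctor.comp (AlgSt.overMap (prod.fst : U₁ ⨯ U₂ ⟶ U₁)) y₁)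
    (BasedFunctor.comp (AlgSt.overMap (prod.snd : U₁ ⨯ U₂ ⟶ U₂)) y₂) hX

/-- The first projection. -/
noncomputable def isomP₁ : isomP hX y₁ y₂ ⟶ (yon S).obj U₁ :=
  IsomSheaf.isomπ _ _ hX ≫ (yon S).map prod.fst

/-- The second projection. -/
noncomputable def isomP₂ : isomP hX y₁ y₂ ⟶ (yon S).obj U₂ :=
  IsomSheaf.isomπ _ _ hX ≫ (yon S).map prod.snd

variable {y₁ y₂}

/-- The arrow of a point. -/
noncomputable def ptToArr {W : Over S} (x : IsomSheaf.Pt (BasedFunctor.comp (AlgSt.overMap (prod.fst : U₁ ⨯ U₂ ⟶ U₁)) y₁)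
    (BasedFunctor.comp (AlgSt.overMap (prod.snd : U₁ ⨯ U₂ ⟶ U₂)) y₂) W) : Arr y₁ y₂ W :=
  ⟨x.t ≫ prod.fst, x.t ≫ prod.snd, x.m, x.lift⟩

/-- The point of an arrow. -/
noncomputable def arrToPt {W : Over S} (a : Arr y₁ y₂ W) :
    IsomSheaf.Pt (BasedFunctor.comp (AlgSt.overMap (prod.fst : U₁ ⨯ U₂ ⟶ U₁)) y₁)
      (BasedFunctor.comp (AlgSt.overMap (prod.snd : U₁ ⨯ U₂ ⟶ U₂)) y₂) W where
  t := prod.lift a.u₁ a.u₂
  m := (Arr.recast a (prod.lift_fst a.u₁ a.u₂) (prod.lift_snd a.u₁ a.u₂).symm).m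
  lift := (Arr.recast a (prod.lift_fst a.u₁ a.u₂) (prod.lift_snd a.u₁ a.u₂).symm).lift

theorem ptToArr_arrToPt {W : Over S} (a : Arr y₁ y₂ W) : ptToArr (arrToPt a) = a :=
  Arr.recast_eq a (prod.lift_fst a.u₁ a.u₂) (prod.lift_snd a.u₁ a.u₂).symm

theorem ptToArr_injective {W : Over S} : Function.Injective (ptToArr (y₁ := y₁) (y₂ := y₂) (W := W)) := by
  intro x x' h
  obtain ⟨t, m, hm⟩ := x
  obtain ⟨t', m', hm'⟩ := x'
  have h1 : t ≫ prod.fst = t' ≫ prod.fst := congrArg Arr.u₁ h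
  have h2 : t ≫ prod.snd = t' ≫ prod.snd := congrArg Arr.u₂ h
  obtain rfl : t = t' := Limits.prod.hom_ext h1 h2
  have : m = m' := by
    simp only [ptToArr, Arr.mk.injEq, heq_eq_eq, true_and] at h
    exact h
  subst this
  rfl

/-- Points are arrows. -/
noncomputable def ptEquiv (W : Over S) :
    IsomSheaf.Pt (BasedFunctor.comp (AlgSt.overMap (prod.fst : U₁ ⨯ U₂ ⟶ U₁)) y₁)
      (BasedFunctor.comp (AlgSt.overMap (prod.snd : U₁ ⨯ U₂ ⟶ U₂)) y₂) W ≃ Arr y₁ y₂ W where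
  toFun := ptToArr
  invFun := arrToPt
  left_inv _ := ptToArr_injective (ptToArr_arrToPt _)
  right_inv := ptToArr_arrToPt

/-- The point of the sheaf of an arrow. -/
noncomputable def arrPt {W : Over S} : Arr y₁ y₂ W ≃ ((yon S).obj W ⟶ isomP hX y₁ y₂) :=
  (ptEquiv W).symm.trans ((J S).uliftYonedaEquiv (X := W) (F := isomP hX y₁ y₂)).symm

theorem ptToArr_res {W W' : Over S} (g : W' ⟶ W)
    (x : IsomSheaf.Pt (BasedFunctor.comp (AlgSt.overMap (prod.fst : U₁ ⨯ U₂ ⟶ U₁)) y₁)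
      (BasedFunctor.comp (AlgSt.overMap (prod.snd : U₁ ⨯ U₂ ⟶ U₂)) y₂) W) :
    ptToArr (IsomSheaf.res hX.1 g x) = Arr.res hX.1 g (ptToArr x) := by
  refine (Arr.res_eq hX.1 ?_).symm
  obtain ⟨ht, hw⟩ := IsomSheaf.isRes_res hX.1 g x
  let h : (Over.mk (IsomSheaf.res hX.1 g x).t : Over (U₁ ⨯ U₂)) ⟶ Over.mk x.t := Over.homMk g ht.symm
  refine ⟨(congrArg (· ≫ prod.fst) ht).trans (Category.assoc _ _ _), (congrArg (· ≫ prod.snd) ht).trans (Category.assoc _ _ _), ?_⟩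
  exact (congrArg (fun k => (IsomSheaf.res hX.1 g x).m ≫ y₂.map k) (Over.OverMorphism.ext rfl)).trans
    ((hw h rfl).trans (congrArg (fun k => y₁.map k ≫ x.m) (Over.OverMorphism.ext rfl)))

theorem map_arrPt {W W' : Over S} (g : W' ⟶ W) (a : Arr y₁ y₂ W) :
    (yon S).map g ≫ arrPt hX a = arrPt hX (Arr.res hX.1 g a) := by
  refine (GrothendieckTopology.uliftYonedaEquiv_symm_naturality_left ..).trans ?_
  refine congrArg ((J S).uliftYonedaEquiv (X := W') (F := isomP hX y₁ y₂)).symm ?_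
  refine (ptEquiv W').injective ?_
  show ptToArr (IsomSheaf.res hX.1 g (arrToPt a)) = ptToArr (arrToPt (Arr.res hX.1 g a))
  rw [ptToArr_res hX, ptToArr_arrToPt, ptToArr_arrToPt]

theorem arrPt_π {W : Over S} (a : Arr y₁ y₂ W) :
    arrPt hX a ≫ IsomSheaf.isomπ _ _ hX = (yon S).map (prod.lift a.u₁ a.u₂) := by
  apply (J S).uliftYonedaEquiv.injective
  rw [GrothendieckTopology.uliftYonedaEquiv_comp]
  show ((IsomSheaf.isomπ _ _ hX).hom.app (op W)) ((J S).uliftYonedaEquiv (arrPt hX a)) = _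
  refine (congrArg ((IsomSheaf.isomπ _ _ hX).hom.app (op W))
    (Equiv.apply_symm_apply ((J S).uliftYonedaEquiv (X := W) (F := isomP hX y₁ y₂)) _)).trans ?_
  exact ULift.ext _ _ (Category.id_comp _).symm

theorem arrPt_fst {W : Over S} (a : Arr y₁ y₂ W) : arrPt hX a ≫ isomP₁ hX y₁ y₂ = (yon S).map a.u₁ := by
  rw [isomP₁, ← Category.assoc, arrPt_π, ← Functor.map_comp, prod.lift_fst]

theorem arrPt_snd {W : Over S} (a : Arr y₁ y₂ W) : arrPt hX a ≫ isomP₂ hX y₁ y₂ = (yon S).map a.u₂ := by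
  rw [isomP₂, ← Category.assoc, arrPt_π, ← Functor.map_comp, prod.lift_snd]

theorem arr_ext_covering {W : Over S} {T : Sieve W} (hT : T ∈ J S W) {a b : Arr y₁ y₂ W}
    (h : ∀ ⦃V : Over S⦄ (g : V ⟶ W), T g → Arr.res hX.1 g a = Arr.res hX.1 g b) : a = b :=
  (arrPt hX).injective (hom_ext_of_covering _ _ hT fun V g hg => by rw [map_arrPt, map_arrPt, h g hg])

theorem arr_glue {W : Over S} {T : Sieve W} (hT : T ∈ J S W)
    (m : ∀ ⦃V : Over S⦄ (g : V ⟶ W), T g → Arr y₁ y₂ V)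
    (hm : ∀ ⦃V' V : Over S⦄ (g : V' ⟶ V) (k : V ⟶ W) (hk : T k),
      m (g ≫ k) (T.downward_closed hk g) = Arr.res hX.1 g (m k hk)) :
    ∃ a : Arr y₁ y₂ W, ∀ ⦃V : Over S⦄ (k : V ⟶ W) (hk : T k), Arr.res hX.1 k a = m k hk := by
  obtain ⟨x, hx, -⟩ := SheafGlue.existsUnique_glue hT (fun V k hk => arrPt hX (m k hk))
    fun V' V g k hk => by rw [map_arrPt, hm g k hk]
  obtain ⟨a, rfl⟩ := (arrPt hX).surjective x
  exact ⟨a, fun V k hk => (arrPt hX).injective (by rw [← map_arrPt]; exact hx k hk)⟩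

/-- With representable diagonal the sheaves of isomorphisms are algebraic spaces. -/
theorem isAlgSpace_isom {U : Over S} (hd : AlgSt.RepByAlgSp1 (FibCat.diag (FibCat.toSelf 𝒳)))
    (z₁ z₂ : FibCat.overCat U ⥤ᵇ 𝒳) : IsAlgSpace (IsomSheaf.isom z₁ z₂ hX) := by
  let y := FibCat.fpLift z₁ z₂ (selfIso (BasedFunctor.comp z₁ (FibCat.toSelf 𝒳)) (BasedFunctor.comp z₂ (FibCat.toSelf 𝒳)))
  obtain ⟨F, e, he⟩ := hd U y
  let i := IsomSheaf.isomFun hX y
  have hi : FibCat.IsEquivOver i := IsomSheaf.isomFun_isEquivOver hX y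
  have he₀ := he
  obtain ⟨e', ⟨c⟩, ⟨d⟩⟩ := he
  have he' : FibCat.IsEquivOver e' := ⟨e, ⟨d⟩, ⟨c⟩⟩
  have := isIso_spHom (Φ := BasedFunctor.comp i e') (isEquivOver_comp hi he')
  exact F.property.of_iso (asIso (spHom (BasedFunctor.comp i e'))).symm

theorem isAlgSpace_isomP (hd : AlgSt.RepByAlgSp1 (FibCat.diag (FibCat.toSelf 𝒳))) :
    IsAlgSpace (isomP hX y₁ y₂) := isAlgSpace_isom hX hd _ _

end Groth.Agent.FCov14
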