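import Groth.Agent.FlatModel.FibreEss
import Mathlib

/-! Lifting finite slices of a flat algebra through nilpotent thickenings of a local ring. -/

universe u

set_option autoImplicit false
set_option backward.isDefEq.respectTransparency false
set_option backward.isDefEq.respectTransparency.types false

open IsLocalRing TensorProduct

namespace Groth.Agent.FCov14.Lift

/-- Flatness passes to the quotient by an ideal of the base. -/
theorem flat_quotientMap {A B : Type u} [CommRing A] [CommRing B] {h : A →+* B} (hh : h.Flat) (J : Ideal A) :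
    (Ideal.quotientMap (J.map h) h Ideal.le_comap_map).Flat := by
  algebraize [h]
  let e : (B ⧸ J.map (algebraMap A B)) ≃ₐ[A] B ⊗[A] (A ⧸ J) :=
    (Algebra.TensorProduct.quotIdealMapEquivTensorQuot B J).restrictScalars A
  letI : Algebra (A ⧸ J) (B ⧸ J.map h) := (Ideal.quotientMap (J.map h) h Ideal.le_comap_map).toAlgebra
  haveI : IsScalarTower A (A ⧸ J) (B ⧸ J.map h) := IsScalarTower.of_algebraMap_eq fun a => rfl
  show Module.Flat (A ⧸ J) (B ⧸ J.map h)
  let e' : ((A ⧸ J) ⊗[A] B) ≃ₗ[A] (B ⧸ J.map h) :=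
    (TensorProduct.comm A (A ⧸ J) B).trans e.symm.toLinearEquiv
  let e'' : ((A ⧸ J) ⊗[A] B) ≃ₗ[A ⧸ J] (B ⧸ J.map h) :=
    e'.extendScalarsOfSurjective Ideal.Quotient.mk_surjective
  exact Module.Flat.of_linearEquiv e''.symm

/-- Flatness of a fibre over the fibre of a localisation. -/
theorem flat_fibre_quotient {R A S S' : Type u} [CommRing R] [CommRing A] [CommRing S] [CommRing S'] [Algebra R A]
    [Algebra A S] [Algebra R S] [IsScalarTower R A S] [Algebra S S'] [Algebra A S'] [IsScalarTower A S S']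
    [Algebra R S'] [IsScalarTower R S S'] (W : Submonoid A) [IsLocalization W S] (I : Ideal R)
    {h : (I.map (algebraMap R A)) ≤ (I.map (algebraMap R S')).comap (algebraMap A S')}
    (hψ : (Ideal.quotientMap (I.map (algebraMap R S')) (algebraMap A S') h).Flat) :
    Module.Flat (S ⧸ I.map (algebraMap R S)) (S' ⧸ (I.map (algebraMap R S)) • (⊤ : Submodule S S')) := by
  let 𝔞 : Ideal A := I.map (algebraMap R A)
  let 𝔟 : Ideal S' := I.map (algebraMap R S')
  let 𝔠 : Ideal S := I.map (algebraMap R S)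
  have hc : 𝔠 = 𝔞.map (algebraMap A S) := by simp only [𝔠, 𝔞, Ideal.map_map, ← IsScalarTower.algebraMap_eq]
  have hb : 𝔠.map (algebraMap S S') = 𝔟 := by simp only [𝔟, 𝔠, Ideal.map_map, ← IsScalarTower.algebraMap_eq]
  letI : Algebra (A ⧸ 𝔞) (S' ⧸ 𝔟) := (Ideal.quotientMap 𝔟 (algebraMap A S') h).toAlgebra
  letI : Algebra (A ⧸ 𝔞) (S ⧸ 𝔠) := (Ideal.quotientMap 𝔠 (algebraMap A S) (Ideal.map_le_iff_le_comap.1 hc.ge)).toAlgebra
  letI : Algebra (S ⧸ 𝔠) (S' ⧸ 𝔟) := (Ideal.quotientMap 𝔟 (algebraMap S S') (Ideal.map_le_iff_le_comap.1 hb.le)).toAlgebra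
  haveI : IsScalarTower (A ⧸ 𝔞) (S ⧸ 𝔠) (S' ⧸ 𝔟) := IsScalarTower.of_algebraMap_eq' (Ideal.Quotient.ringHom_ext
    (RingHom.ext fun a => congrArg (Ideal.Quotient.mk 𝔟) (IsScalarTower.algebraMap_apply A S S' a)))
  haveI : IsLocalization (W.map (Ideal.Quotient.mk 𝔞)) (S ⧸ 𝔠) := by
    refine ⟨⟨fun w => ?_, fun z => ?_, fun {x y} hxy => ?_⟩⟩
    · obtain ⟨w, a, ha, rfl⟩ := w
      exact (IsLocalization.map_units S ⟨a, ha⟩).map (Ideal.Quotient.mk 𝔠)
    · obtain ⟨z, rfl⟩ := Ideal.Quotient.mk_surjective z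
      obtain ⟨⟨a, w⟩, hw⟩ := IsLocalization.surj W z
      exact ⟨⟨Ideal.Quotient.mk 𝔞 a, ⟨_, w, w.2, rfl⟩⟩, congrArg (Ideal.Quotient.mk 𝔠) hw⟩
    · obtain ⟨x, rfl⟩ := Ideal.Quotient.mk_surjective x
      obtain ⟨y, rfl⟩ := Ideal.Quotient.mk_surjective y
      have : algebraMap A S (x - y) ∈ 𝔠 := by rw [map_sub, ← Ideal.Quotient.eq]; exact hxy
      rw [hc, IsLocalization.mem_map_algebraMap_iff W S] at this
      obtain ⟨⟨⟨z, hz⟩, w⟩, hw⟩ := this
      rw [← map_mul, IsLocalization.eq_iff_exists W S] at hw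
      obtain ⟨c, hc'⟩ := hw
      refine ⟨⟨_, c * w, (c * w).2, rfl⟩, ?_⟩
      rw [← map_mul, ← map_mul, Ideal.Quotient.eq,
        show ((c : A) * w) * x - (c : A) * w * y = c * ((x - y) * w) by ring]
      rw [hc']
      exact 𝔞.mul_mem_left _ hz
  haveI : Module.Flat (A ⧸ 𝔞) (S' ⧸ 𝔟) := RingHom.flat_algebraMap_iff.1 hψ
  haveI : Module.Flat (S ⧸ 𝔠) (S' ⧸ 𝔟) :=
    (Module.flat_iff_of_isLocalization (S ⧸ 𝔠) (W.map (Ideal.Quotient.mk 𝔞)) (S' ⧸ 𝔟)).2 inferInstance
  have htop : 𝔠 • (⊤ : Submodule S S') = 𝔟.restrictScalars S := by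
    rw [Ideal.smul_top_eq_map, hb]
  let e₁ : (S' ⧸ 𝔠 • (⊤ : Submodule S S')) ≃ₗ[S] S' ⧸ 𝔟 :=
    (Submodule.quotEquivOfEq _ _ htop).trans (Submodule.Quotient.restrictScalarsEquiv S 𝔟)
  haveI : IsScalarTower S (S ⧸ 𝔠) (S' ⧸ 𝔟) := IsScalarTower.of_algebraMap_eq fun s => rfl
  exact Module.Flat.of_linearEquiv (e₁.extendScalarsOfSurjective Ideal.Quotient.mk_surjective)

section Fibre

variable {R : Type u} [CommRing R] [IsLocalRing R] {C : Type u} [CommRing C] [Algebra R C]
  [Algebra.FinitePresentation R C] [Module.Flat R C] {n : ℕ} (g h : Fin n → C)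

/-- The fibrewise criterion: a map from a polynomial ring congruent to a flat one is flat at the closed fibre. -/
theorem flat_atPrime (hh : (MvPolynomial.aeval h : MvPolynomial (Fin n) R →ₐ[R] C).toRingHom.Flat)
    (hgh : ∀ i, g i - h i ∈ (maximalIdeal R).map (algebraMap R C)) (Q : Ideal C) [Q.IsPrime]
    (hQ : (maximalIdeal R).map (algebraMap R C) ≤ Q) :
    letI : Algebra (MvPolynomial (Fin n) R) C := (MvPolynomial.aeval g).toRingHom.toAlgebra
    Module.Flat (MvPolynomial (Fin n) R) (Localization.AtPrime Q) := by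
  letI : Algebra (MvPolynomial (Fin n) R) C := (MvPolynomial.aeval g).toRingHom.toAlgebra
  haveI : IsScalarTower R (MvPolynomial (Fin n) R) C :=
    IsScalarTower.of_algebraMap_eq fun r => ((MvPolynomial.aeval g).commutes r).symm
  set A := MvPolynomial (Fin n) R
  set S' := Localization.AtPrime Q
  let P : Ideal A := Q.comap (algebraMap A C)
  let S := Localization.AtPrime P
  letI : Algebra S S' := (Localization.localRingHom P Q (algebraMap A C) rfl).toAlgebra
  haveI : IsScalarTower A S S' := IsScalarTower.of_algebraMap_eq fun a => by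
    rw [IsScalarTower.algebraMap_apply A C S']
    exact (Localization.localRingHom_to_map P Q (algebraMap A C) rfl a).symm
  haveI : IsScalarTower R S S' := IsScalarTower.of_algebraMap_eq fun r => by
    rw [IsScalarTower.algebraMap_apply R A S, ← IsScalarTower.algebraMap_apply A S S',
      ← IsScalarTower.algebraMap_apply R A S']
  haveI : IsLocalHom (algebraMap S S') := Localization.isLocalHom_localRingHom P Q (algebraMap A C) rfl
  have hm : ∀ r ∈ maximalIdeal R, algebraMap R A r ∈ P := fun r hr => by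
    show algebraMap A C (algebraMap R A r) ∈ Q
    rw [← IsScalarTower.algebraMap_apply]
    exact hQ (Ideal.mem_map_of_mem _ hr)
  haveI : IsLocalHom (algebraMap R S) := ⟨fun r hr => by
    by_contra hu
    rw [IsScalarTower.algebraMap_apply R A S, IsLocalization.AtPrime.isUnit_to_map_iff S P] at hr
    exact hr (hm r hu)⟩
  haveI : Algebra.EssFiniteType A S := Algebra.EssFiniteType.of_isLocalization S P.primeCompl
  haveI : Algebra.EssFiniteType R S := Algebra.EssFiniteType.comp R A S
  haveI : IsScalarTower R C S' := inferInstance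
  have hS' : CAlgX.IsEssFinitePresentation R S' :=
    ⟨C, inferInstance, inferInstance, inferInstance, inferInstance, Q.primeCompl, inferInstance, inferInstance⟩
  haveI : Module.Flat R S' := inferInstance
  -- the closed fibre
  let 𝔞 : Ideal A := (maximalIdeal R).map (algebraMap R A)
  let 𝔟 : Ideal S' := (maximalIdeal R).map (algebraMap R S')
  let 𝔠 : Ideal S := (maximalIdeal R).map (algebraMap R S)
  have hg : 𝔞.map (algebraMap A S') = 𝔟 := by
    simp only [𝔞, 𝔟, Ideal.map_map, ← IsScalarTower.algebraMap_eq]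
  have hc : 𝔠 = 𝔞.map (algebraMap A S) := by simp only [𝔠, 𝔞, Ideal.map_map, ← IsScalarTower.algebraMap_eq]
  let h' : A →+* S' := (algebraMap C S').comp (MvPolynomial.aeval h).toRingHom
  have hh' : h'.Flat := hh.comp (RingHom.flat_algebraMap_iff.2 (IsLocalization.flat S' Q.primeCompl))
  have hh'a : 𝔞.map h' = 𝔟 := by
    simp only [𝔞, 𝔟, Ideal.map_map]
    exact congrArg (fun f => Ideal.map f (maximalIdeal R)) (RingHom.ext fun r => by simp [h', ← IsScalarTower.algebraMap_apply])
  have hmk : (Ideal.Quotient.mk 𝔟).comp (algebraMap A S') = (Ideal.Quotient.mk 𝔟).comp h' := by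
    refine MvPolynomial.ringHom_ext (fun r => congrArg (Ideal.Quotient.mk 𝔟) ?_) fun i => Ideal.Quotient.eq.2 ?_
    · show algebraMap A S' (MvPolynomial.C r) = algebraMap C S' (MvPolynomial.aeval h (MvPolynomial.C r))
      rw [IsScalarTower.algebraMap_apply A C S', MvPolynomial.aeval_C]
      exact congrArg _ (MvPolynomial.aeval_C g r)
    · show algebraMap A S' (MvPolynomial.X i) - algebraMap C S' (MvPolynomial.aeval h (MvPolynomial.X i)) ∈ 𝔟
      rw [IsScalarTower.algebraMap_apply A C S', ← map_sub, MvPolynomial.aeval_X]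
      have h0 := Ideal.mem_map_of_mem (algebraMap C S') (hgh i)
      rw [Ideal.map_map, ← IsScalarTower.algebraMap_eq] at h0
      convert! h0 using 3
      exact MvPolynomial.aeval_X g i
  let ψ : A ⧸ 𝔞 →+* S' ⧸ 𝔟 := Ideal.quotientMap 𝔟 (algebraMap A S') (Ideal.map_le_iff_le_comap.1 hg.le)
  have hψ : ψ.Flat := by
    have : ψ = (Ideal.quotEquivOfEq hh'a).toRingHom.comp (Ideal.quotientMap (𝔞.map h') h' Ideal.le_comap_map) :=
      Ideal.Quotient.ringHom_ext (RingHom.ext fun a => DFunLike.congr_fun hmk a)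
    rw [this]
    exact (flat_quotientMap hh' 𝔞).comp (RingHom.Flat.of_bijective (Ideal.quotEquivOfEq hh'a).bijective)
  haveI := flat_fibre_quotient (S := S) P.primeCompl (maximalIdeal R) hψ
  have hSS' : Module.Flat S S' := (Groth.Agent.FlatModel.flat_of_fibre_essFP (M := S') hS' this).2
  exact Module.Flat.trans A S S'

end Fibre

/-- A flat algebra with given lifted generators modulo a square zero ideal is free on them. -/
theorem exists_basis {R A : Type u} [CommRing R] [IsLocalRing R] [CommRing A] [Algebra R A] [Module.Flat R A]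
    {A₀ : Type u} [CommRing A₀] [Algebra R A₀] (I : Ideal R) [Algebra (R ⧸ I) A₀] [IsScalarTower R (R ⧸ I) A₀]
    (hI : I ^ 2 = ⊥) {d : ℕ} (e₀ : Module.Basis (Fin d) (R ⧸ I) A₀) (π : A →ₐ[R] A₀)
    (hker : RingHom.ker π ≤ I.map (algebraMap R A)) (y : Fin d → A) (hy : ∀ i, π (y i) = e₀ i) :
    ∃ e : Module.Basis (Fin d) R A, ∀ i, e i = y i := by
  let L : (Fin d → R) →ₗ[R] A := Fintype.linearCombination R y
  have hπL : ∀ x, π (L x) = ∑ i, (Ideal.Quotient.mk I (x i)) • e₀ i := fun x => by
    rw [Fintype.linearCombination_apply, map_sum]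
    exact Finset.sum_congr rfl fun i _ => by
      rw [map_smul, hy, ← Ideal.Quotient.algebraMap_eq, algebraMap_smul]
  have hsup : (⊤ : Submodule R A) ≤ LinearMap.range L ⊔ I • ⊤ := fun a _ => by
    choose r hr using fun i => Ideal.Quotient.mk_surjective (e₀.repr (π a) i)
    refine Submodule.mem_sup.2 ⟨L r, ⟨r, rfl⟩, a - L r, ?_, add_sub_cancel _ _⟩
    rw [Ideal.smul_top_eq_map]
    refine hker ?_
    rw [RingHom.mem_ker, map_sub, hπL]
    simp [hr, e₀.sum_repr]
  have hII : I • (I • (⊤ : Submodule R A)) = ⊥ := by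
    rw [← mul_smul, ← pow_two, hI, Submodule.bot_smul]
  have hL : Function.Surjective L := by
    rw [← LinearMap.range_eq_top, eq_top_iff]
    refine hsup.trans (sup_le le_rfl ?_)
    refine (Submodule.smul_mono le_rfl hsup).trans ?_
    rw [Submodule.smul_sup, hII, sup_bot_eq]
    exact Submodule.smul_le_right
  have : Module.Finite R A := Module.Finite.of_surjective L hL
  have : Module.Free R A := Module.free_of_flat_of_isLocalRing
  obtain ⟨σ, hσ⟩ := Module.projective_lifting_property L LinearMap.id hL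
  have hinj : Function.Injective L := by
    rw [← LinearMap.ker_eq_bot, eq_bot_iff]
    intro x hx
    have hmem : ∀ z : Fin d → R, L z = 0 → ∀ i, z i ∈ I := fun z hz i => by
      have h := hπL z
      rw [hz, map_zero] at h
      exact Ideal.Quotient.eq_zero_iff_mem.1 (Fintype.linearIndependent_iff.1 e₀.linearIndependent _ h.symm i)
    let p : (Fin d → R) →ₗ[R] (Fin d → R) := LinearMap.id - σ.comp L
    have hp : ∀ z, L (p z) = 0 := fun z => by
      simp only [p, LinearMap.sub_apply, LinearMap.id_coe, id_eq, map_sub, LinearMap.comp_apply]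
      rw [← LinearMap.comp_apply L σ, hσ, LinearMap.id_apply, sub_self]
    have hpx : p x = x := by simp [p, LinearMap.mem_ker.1 hx]
    rw [Submodule.mem_bot, ← hpx, pi_eq_sum_univ x, map_sum]
    refine Finset.sum_eq_zero fun i _ => funext fun j => ?_
    have h2 : x i * p (fun k => if i = k then (1 : R) else 0) j ∈ I ^ 2 := by
      rw [pow_two]; exact Ideal.mul_mem_mul (hmem x hx i) (hmem _ (hp _) j)
    rw [hI, Ideal.mem_bot] at h2
    rw [map_smul]
    exact h2
  refine ⟨(Pi.basisFun R (Fin d)).map (LinearEquiv.ofBijective L ⟨hinj, hL⟩), fun i => ?_⟩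
  simp [L, Fintype.linearCombination_apply, Pi.single_apply]

section Lifting

variable {R : Type u} [CommRing R] [IsLocalRing R] {C : Type u} [CommRing C] [Algebra R C]
  [Algebra.FinitePresentation R C] [Module.Flat R C] {n d : ℕ}

/-- Finitely many generators of the kernel of a map onto a finite free algebra. -/
theorem exists_ker_generators (I : Ideal R) {A₀ : Type u} [CommRing A₀] [Algebra R A₀] [Algebra (R ⧸ I) A₀]
    [IsScalarTower R (R ⧸ I) A₀] (e₀ : Module.Basis (Fin d) (R ⧸ I) A₀) (φ : C →ₐ[R] A₀)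
    (hφ : Function.Surjective φ) :
    ∃ s : Finset C, RingHom.ker φ ≤ Ideal.span (s : Set C) ⊔ I.map (algebraMap R C) ∧ ∀ c ∈ s, φ c = 0 := by
  classical
  have : Module.Finite (R ⧸ I) A₀ := Module.Finite.of_basis e₀
  have : Module.Free (R ⧸ I) A₀ := Module.Free.of_basis e₀
  have : Module.FinitePresentation (R ⧸ I) A₀ := Module.finitePresentation_of_projective _ _
  have : Algebra.FinitePresentation (R ⧸ I) A₀ := inferInstance
  let ψ : (R ⧸ I) ⊗[R] C →ₐ[R ⧸ I] A₀ := Algebra.TensorProduct.lift (Algebra.ofId _ _) φ fun _ _ => Commute.all _ _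
  let q : C →+* (R ⧸ I) ⊗[R] C := Algebra.TensorProduct.includeRight.toRingHom
  have hq : Function.Surjective q := fun z => by
    induction z using TensorProduct.induction_on with
    | zero => exact ⟨0, map_zero _⟩
    | tmul r c =>
      obtain ⟨r, rfl⟩ := Ideal.Quotient.mk_surjective r
      exact ⟨r • c, by simp [q, TensorProduct.tmul_smul, TensorProduct.smul_tmul', Algebra.smul_def r (1 : R ⧸ I)]⟩
    | add x y hx hy =>
      obtain ⟨a, rfl⟩ := hx
      obtain ⟨b, rfl⟩ := hy
      exact ⟨a + b, map_add _ _ _⟩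
  have hψq : ∀ c, ψ (q c) = φ c := fun c => by simp [ψ, q]
  have hψ : Function.Surjective ψ := fun a => let ⟨c, hc⟩ := hφ a; ⟨q c, (hψq c).trans hc⟩
  obtain ⟨s₀, hs₀⟩ := Algebra.FinitePresentation.ker_fG_of_surjective ψ hψ
  choose l hl using hq
  refine ⟨s₀.image l, fun c hc => ?_, fun c hc => ?_⟩
  · have : q c ∈ (Ideal.span (s₀.image l : Set C)).map q := by
      rw [Ideal.map_span, Finset.coe_image, ← Set.image_comp,
        show q ∘ l = id from funext hl, Set.image_id]
      exact hs₀.symm ▸ (show q c ∈ RingHom.ker ψ by rw [RingHom.mem_ker, hψq]; exact hc)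
    obtain ⟨a, ha, hac⟩ := (Ideal.mem_map_iff_of_surjective q (fun z => ⟨l z, hl z⟩)).1 this
    refine Submodule.mem_sup.2 ⟨a, ha, c - a, ?_, add_sub_cancel _ _⟩
    have h0 : q (c - a) = 0 := by rw [map_sub, hac, sub_self]
    let θ : (R ⧸ I) ⊗[R] C →ₐ[R] C ⧸ I.map (algebraMap R C) :=
      Algebra.TensorProduct.lift (Ideal.Quotient.liftₐ I (Algebra.ofId R _) fun r hr =>
          Ideal.Quotient.eq_zero_iff_mem.2 (Ideal.mem_map_of_mem _ hr))
        (Ideal.Quotient.mkₐ R _) fun _ _ => Commute.all _ _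
    have := congrArg θ h0
    rw [map_zero] at this
    simpa [θ, q, Ideal.Quotient.eq_zero_iff_mem, Ideal.Quotient.eq, sub_eq_zero] using this
  · obtain ⟨z, hz, rfl⟩ := Finset.mem_image.1 hc
    rw [← hψq, hl]
    exact RingHom.mem_ker.1 (show z ∈ RingHom.ker ψ.toRingHom from hs₀ ▸ Ideal.subset_span hz)

variable {f : Fin n → C}

/-- A finite slice of a flat algebra lifts through a square zero thickening of a local ring. -/
theorem exists_lift (hf : (MvPolynomial.aeval f : MvPolynomial (Fin n) R →ₐ[R] C).toRingHom.Flat) (t : Fin n → R)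
    (I : Ideal R) (hI : I ^ 2 = ⊥) {A₀ : Type u} [CommRing A₀] [Algebra R A₀] [Algebra (R ⧸ I) A₀]
    [IsScalarTower R (R ⧸ I) A₀] (e₀ : Module.Basis (Fin d) (R ⧸ I) A₀) (φ : C →ₐ[R] A₀)
    (hsurj : ∀ a, ∃ c, φ c - a ∈ (maximalIdeal R).map (algebraMap R A₀))
    (hmem : ∀ i, φ (f i - algebraMap R C (t i)) ∈ (maximalIdeal R).map (algebraMap R A₀))
    (hker : ∀ c, φ c ∈ (maximalIdeal R).map (algebraMap R A₀) →
      c ∈ Ideal.span (Set.range fun i => f i - algebraMap R C (t i)) ⊔ (maximalIdeal R).map (algebraMap R C)) :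
    ∃ (A : Type u) (_ : CommRing A) (_ : Algebra R A) (e : Module.Basis (Fin d) R A) (φ' : C →ₐ[R] A)
      (π : A →ₐ[R] A₀), (∀ i, π (e i) = e₀ i) ∧ π.comp φ' = φ := by
  classical
  set m := maximalIdeal R with hmdef
  have : Module.Finite (R ⧸ I) A₀ := Module.Finite.of_basis e₀
  have : Module.Finite R A₀ := Module.Finite.trans (R ⧸ I) A₀
  have hφ : Function.Surjective φ := by
    rw [show (φ : C → A₀) = φ.toLinearMap from rfl, ← LinearMap.range_eq_top, eq_top_iff]
    refine Submodule.le_of_le_smul_of_le_jacobson_bot Module.Finite.fg_top (maximalIdeal_le_jacobson ⊥) fun a _ => ?_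
    obtain ⟨c, hc⟩ := hsurj a
    refine Submodule.mem_sup.2 ⟨φ c, ⟨c, rfl⟩, a - φ c, ?_, add_sub_cancel _ _⟩
    rw [Ideal.smul_top_eq_map, Submodule.restrictScalars_mem, ← neg_sub]
    exact neg_mem hc
  have hjac : m.map (algebraMap R A₀) ≤ Ideal.jacobson ⊥ := by
    refine le_sInf fun M hM₀ => ?_
    obtain ⟨-, hM⟩ := hM₀
    haveI := hM
    rw [Ideal.map_le_iff_le_comap]
    exact (eq_maximalIdeal (Ideal.isMaximal_comap_of_isIntegral_of_isMaximal (R := R) M)).ge
  have hmφ : m.map (algebraMap R A₀) = (m.map (algebraMap R C)).map φ := by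
    rw [← Ideal.map_coe φ, Ideal.map_map]; exact congrArg (fun g => Ideal.map g m) φ.comp_algebraMap.symm
  let h : Fin n → C := fun i => f i - algebraMap R C (t i)
  have hb : ∀ i, ∃ b ∈ m.map (algebraMap R C), φ b = φ (h i) := fun i =>
    (Ideal.mem_map_iff_of_surjective φ hφ).1 (hmφ ▸ hmem i)
  choose b hbm hbφ using hb
  let g : Fin n → C := fun i => h i - b i
  have hgφ : ∀ i, φ (g i) = 0 := fun i => by simp only [g, map_sub, hbφ, sub_self]
  obtain ⟨s, hs, hsφ⟩ := exists_ker_generators I e₀ φ hφ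
  -- the kernel modulo its product with the maximal ideal
  choose w hw using fun i => hφ (e₀ i)
  let L : (Fin d → R) →ₗ[R] C := Fintype.linearCombination R w
  have hL : ∀ x, φ (L x) = ∑ i, (Ideal.Quotient.mk I (x i)) • e₀ i := fun x => by
    rw [Fintype.linearCombination_apply, map_sum]
    exact Finset.sum_congr rfl fun i _ => by
      rw [map_smul, hw, ← Ideal.Quotient.algebraMap_eq, algebraMap_smul]
  let K : Submodule R C := LinearMap.ker φ.toLinearMap
  have hKW : (⊤ : Submodule R C) = K ⊔ LinearMap.range L := by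
    refine le_antisymm (fun c _ => ?_) le_top
    choose r hr using fun i => Ideal.Quotient.mk_surjective (e₀.repr (φ c) i)
    refine Submodule.mem_sup.2 ⟨c - L r, ?_, L r, ⟨r, rfl⟩, sub_add_cancel _ _⟩
    rw [LinearMap.mem_ker, AlgHom.toLinearMap_apply, map_sub, hL]
    simp [hr, e₀.sum_repr]
  have hker' : RingHom.ker φ ≤
      Ideal.span (Set.range g) ⊔ I.map (algebraMap R C) ⊔ m.map (algebraMap R C) * RingHom.ker φ := by
    intro c hc
    rw [RingHom.mem_ker] at hc
    have h1 : c ∈ Ideal.span (Set.range g) ⊔ m.map (algebraMap R C) := by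
      refine (sup_le ?_ le_sup_right : Ideal.span (Set.range h) ⊔ m.map (algebraMap R C) ≤ _) (hker c (by rw [hc]; exact zero_mem _))
      rw [Ideal.span_le]
      rintro _ ⟨i, rfl⟩
      exact Submodule.mem_sup.2 ⟨g i, Ideal.subset_span ⟨i, rfl⟩, b i, hbm i, sub_add_cancel _ _⟩
    obtain ⟨a, ha, z, hz, rfl⟩ := Submodule.mem_sup.1 h1
    have haφ : φ a = 0 := by
      refine (Ideal.span_le.2 ?_ : Ideal.span (Set.range g) ≤ RingHom.ker φ) ha
      rintro _ ⟨i, rfl⟩
      exact hgφ i
    have hzφ : φ z = 0 := by rwa [map_add, haφ, zero_add] at hc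
    have hz' : z ∈ m • K ⊔ m • LinearMap.range L := by
      rw [← Submodule.smul_sup, ← hKW, Ideal.smul_top_eq_map]
      exact hz
    obtain ⟨k, hk, x, hx, rfl⟩ := Submodule.mem_sup.1 hz'
    have hkφ : φ k = 0 := LinearMap.mem_ker.1 ((Submodule.smul_le_right : m • K ≤ K) hk)
    rw [map_add, hkφ, zero_add] at hzφ
    obtain ⟨r, rfl⟩ := (Submodule.smul_le_right : m • LinearMap.range L ≤ LinearMap.range L) hx
    rw [hL] at hzφ
    have hr : ∀ i, r i ∈ I := fun i =>
      Ideal.Quotient.eq_zero_iff_mem.1 (Fintype.linearIndependent_iff.1 e₀.linearIndependent _ hzφ i)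
    have hkm : k ∈ m.map (algebraMap R C) * RingHom.ker φ := by
      refine (Submodule.smul_le.2 fun r hr z hz => ?_ : m • K ≤ (m.map (algebraMap R C) * RingHom.ker φ).restrictScalars R) hk
      rw [Submodule.restrictScalars_mem, Algebra.smul_def]
      exact Ideal.mul_mem_mul (Ideal.mem_map_of_mem _ hr) (LinearMap.mem_ker.1 hz)
    have hLI : L r ∈ I.map (algebraMap R C) := by
      rw [Fintype.linearCombination_apply]
      refine Ideal.sum_mem _ fun i _ => ?_
      rw [Algebra.smul_def]
      exact Ideal.mul_mem_right _ _ (Ideal.mem_map_of_mem _ (hr i))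
    refine Submodule.mem_sup.2 ⟨a + L r, add_mem (Submodule.mem_sup_left ha) (Submodule.mem_sup_right hLI), k, hkm, ?_⟩
    ring
  -- the semilocalisation at the slice
  let T : Submonoid C := (IsUnit.submonoid A₀).comap φ
  let CT := Localization T
  let φT : CT →ₐ[R] A₀ := IsLocalization.liftAlgHom (f := φ) fun x : T => x.2
  have hφT : ∀ c, φT (algebraMap C CT c) = φ c := fun c => IsLocalization.lift_eq _ c
  have hunit : ∀ z : CT, IsUnit (φT z) → IsUnit z := fun z hz => by
    obtain ⟨⟨c, u⟩, hu⟩ := IsLocalization.surj T z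
    have hc : IsUnit (φ c) := by
      rw [← hφT c, ← hu, map_mul, hφT]
      exact hz.mul u.2
    have : IsUnit (z * algebraMap C CT u) := hu.symm ▸ IsLocalization.map_units CT (⟨c, hc⟩ : T)
    exact (IsUnit.mul_iff.1 this).1
  have hjacT : ∀ z : CT, φT z ∈ Ideal.jacobson (⊥ : Ideal A₀) → z ∈ Ideal.jacobson (⊥ : Ideal CT) := fun z hz => by
    rw [Ideal.mem_jacobson_bot] at hz ⊢
    intro y
    refine hunit _ ?_
    rw [map_add, map_mul, map_one]
    exact hz (φT y)
  have hmT : m.map (algebraMap R CT) ≤ Ideal.jacobson ⊥ := fun z hz => hjacT z (hjac (by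
    have := Ideal.mem_map_of_mem (φT : CT →+* A₀) hz
    rwa [Ideal.map_map, φT.comp_algebraMap] at this))
  let gT : Fin n → CT := fun i => algebraMap C CT (g i)
  -- the kernel is generated by the slice
  have hkT : RingHom.ker φT ≤ Ideal.span (Set.range gT) ⊔ I.map (algebraMap R CT) := by
    have hgen : RingHom.ker φT ≤ (RingHom.ker φ).map (algebraMap C CT) := fun z hz => by
      obtain ⟨⟨c, u⟩, hu⟩ := IsLocalization.surj T z
      have hc : φ c = 0 := by rw [← hφT, ← hu, map_mul, RingHom.mem_ker.1 hz, zero_mul]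
      rw [← Ideal.mul_unit_mem_iff_mem _ (IsLocalization.map_units CT u), hu]
      exact Ideal.mem_map_of_mem _ hc
    let N := (Ideal.span (s : Set C)).map (algebraMap C CT)
    let N' := Ideal.span (Set.range gT) ⊔ I.map (algebraMap R CT)
    have hN : N ≤ N' := by
      have e1 : ∀ J : Ideal R, (J.map (algebraMap R C)).map (algebraMap C CT) = J.map (algebraMap R CT) := fun J => by
        rw [Ideal.map_map, ← IsScalarTower.algebraMap_eq]
      refine Submodule.le_of_le_smul_of_le_jacobson_bot (Ideal.FG.map (Submodule.fg_span s.finite_toSet) _) hmT ?_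
      have h2 : Ideal.span (s : Set C) ≤
          Ideal.span (Set.range g) ⊔ I.map (algebraMap R C) ⊔ m.map (algebraMap R C) * Ideal.span (s : Set C) := by
        refine (Ideal.span_le.2 fun c hc => hsφ c hc : Ideal.span (s : Set C) ≤ RingHom.ker φ).trans (hker'.trans ?_)
        refine sup_le le_sup_left ((Ideal.mul_mono_right hs).trans ?_)
        rw [Ideal.mul_sup]
        exact sup_le le_sup_right (Ideal.mul_le_right.trans (le_sup_right.trans le_sup_left))
      refine (Ideal.map_mono h2).trans ?_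
      rw [Ideal.map_sup, Ideal.map_sup, Ideal.map_mul, e1, e1, Ideal.map_span, smul_eq_mul, ← Set.range_comp]
      exact le_rfl
    refine hgen.trans ((Ideal.map_mono hs).trans ?_)
    rw [Ideal.map_sup, Ideal.map_map, ← IsScalarTower.algebraMap_eq]
    exact sup_le hN le_sup_right
  -- flatness along the slice
  have hh : (MvPolynomial.aeval h : MvPolynomial (Fin n) R →ₐ[R] C).toRingHom.Flat := by
    let τ : MvPolynomial (Fin n) R ≃ₐ[R] MvPolynomial (Fin n) R := AlgEquiv.ofAlgHom
      (MvPolynomial.aeval fun i => MvPolynomial.X i - MvPolynomial.C (t i))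
      (MvPolynomial.aeval fun i => MvPolynomial.X i + MvPolynomial.C (t i))
      (MvPolynomial.algHom_ext fun i => by simp) (MvPolynomial.algHom_ext fun i => by simp)
    have : (MvPolynomial.aeval h : MvPolynomial (Fin n) R →ₐ[R] C) = (MvPolynomial.aeval f).comp τ.toAlgHom :=
      MvPolynomial.algHom_ext fun i => by simp [τ, h]
    rw [this]
    exact (RingHom.Flat.of_bijective τ.bijective).comp hf
  letI : Algebra (MvPolynomial (Fin n) R) C := (MvPolynomial.aeval g).toRingHom.toAlgebra
  haveI : IsScalarTower R (MvPolynomial (Fin n) R) C :=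
    IsScalarTower.of_algebraMap_eq fun r => ((MvPolynomial.aeval g).commutes r).symm
  have hflat : Module.Flat (MvPolynomial (Fin n) R) CT := by
    refine Module.flat_of_isLocalized_maximal CT CT
      (fun P _ => Localization.AtPrime P) (fun P _ => Algebra.linearMap CT _) fun P hP => ?_
    let Q : Ideal C := P.comap (algebraMap C CT)
    haveI : IsLocalization.AtPrime (Localization.AtPrime P) Q :=
      IsLocalization.isLocalization_isLocalization_atPrime_isLocalization T (Localization.AtPrime P) P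
    have hQ : m.map (algebraMap R C) ≤ Q := by
      rw [Ideal.map_le_iff_le_comap]
      intro r hr
      show algebraMap C CT (algebraMap R C r) ∈ P
      rw [← IsScalarTower.algebraMap_apply]
      exact Ideal.mem_sInf.1 (hmT (Ideal.mem_map_of_mem _ hr)) ⟨bot_le, hP⟩
    haveI := flat_atPrime g h hh (fun i => by
      rw [show g i - h i = -b i by simp [g]]; exact neg_mem (hbm i)) Q hQ
    let e := ((IsLocalization.algEquiv Q.primeCompl (Localization.AtPrime Q) (Localization.AtPrime P)).restrictScalars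
      (MvPolynomial (Fin n) R)).toLinearEquiv
    exact Module.Flat.of_linearEquiv e.symm
  let J : Ideal (MvPolynomial (Fin n) R) := Ideal.span (Set.range MvPolynomial.X)
  let Jg : Ideal CT := J.map (algebraMap (MvPolynomial (Fin n) R) CT)
  have hJg : Jg = Ideal.span (Set.range gT) := by
    simp only [Jg, J, Ideal.map_span, ← Set.range_comp]
    refine congrArg Ideal.span (congrArg Set.range (funext fun i => ?_))
    rw [Function.comp_apply, IsScalarTower.algebraMap_apply _ C CT]
    exact congrArg _ (MvPolynomial.aeval_X g i)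
  have hAflat : Module.Flat R (CT ⧸ Jg) := by
    rw [← RingHom.flat_algebraMap_iff]
    have h3 := (RingHom.flat_algebraMap_iff.2 hflat)
    have h4 := flat_quotientMap h3 J
    have hbij : Function.Bijective ((Ideal.Quotient.mk J).comp (algebraMap R (MvPolynomial (Fin n) R))) := by
      have hJ : ∀ p : MvPolynomial (Fin n) R, p - MvPolynomial.C (MvPolynomial.constantCoeff p) ∈ J := fun p => by
        induction p using MvPolynomial.induction_on with
        | C r => simp
        | add p q hp hq =>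
          have : p + q - MvPolynomial.C (MvPolynomial.constantCoeff (p + q)) =
              (p - MvPolynomial.C (MvPolynomial.constantCoeff p)) + (q - MvPolynomial.C (MvPolynomial.constantCoeff q)) := by
            simp only [map_add]; ring
          rw [this]; exact add_mem hp hq
        | mul_X p i hp => simpa using J.mul_mem_left p (Ideal.subset_span ⟨i, rfl⟩)
      refine ⟨fun a a' ha => ?_, fun z => ?_⟩
      · have h0 : J ≤ RingHom.ker (MvPolynomial.constantCoeff (σ := Fin n) (R := R)) := by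
          rw [Ideal.span_le]; rintro _ ⟨i, rfl⟩; simp
        have := h0 (Ideal.Quotient.eq.1 ha)
        simpa [sub_eq_zero] using this
      · obtain ⟨p, rfl⟩ := Ideal.Quotient.mk_surjective z
        exact ⟨MvPolynomial.constantCoeff p, (Ideal.Quotient.eq.2 (hJ p)).symm⟩
    have h5 := (RingHom.Flat.of_bijective hbij).comp h4
    convert! h5 using 1
    exact RingHom.ext fun r => congrArg (Ideal.Quotient.mk Jg) (IsScalarTower.algebraMap_apply _ _ _ r)
  have hJφ : ∀ z ∈ Jg, φT z = 0 := by
    suffices Jg ≤ RingHom.ker φT by exact fun z hz => this hz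
    rw [hJg, Ideal.span_le]
    rintro _ ⟨i, rfl⟩
    rw [SetLike.mem_coe, RingHom.mem_ker, hφT, hgφ]
  let π : (CT ⧸ Jg) →ₐ[R] A₀ := Ideal.Quotient.liftₐ Jg φT hJφ
  have hπ : RingHom.ker π ≤ I.map (algebraMap R (CT ⧸ Jg)) := fun z hz => by
    obtain ⟨z, rfl⟩ := Ideal.Quotient.mk_surjective z
    have h6 := Ideal.mem_map_of_mem (Ideal.Quotient.mk Jg) (hkT (show z ∈ RingHom.ker φT from hz))
    rw [Ideal.map_sup, ← hJg, Ideal.map_quotient_self, bot_sup_eq, Ideal.map_map] at h6
    exact h6
  let φ' : C →ₐ[R] CT ⧸ Jg := (Ideal.Quotient.mkₐ R Jg).comp (IsScalarTower.toAlgHom R C CT)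
  have hπφ : π.comp φ' = φ := AlgHom.ext hφT
  obtain ⟨e, he⟩ := exists_basis I hI e₀ π hπ (fun i => φ' (w i)) fun i => (DFunLike.congr_fun hπφ (w i)).trans (hw i)
  exact ⟨CT ⧸ Jg, inferInstance, inferInstance, e, φ', π, fun i => by rw [he]; exact (DFunLike.congr_fun hπφ (w i)).trans (hw i), hπφ⟩

end Lifting

end Groth.Agent.FCov14.Lift
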