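import Groth.Agent.AlgStLib.Imm
import Groth.Agent.AlgStLib.Source
import Groth.Agent.AlgStLib.LocEss
import Groth.Agent.AlgSpDec.FppfLqf
import Groth.Agent.AlgSpDec.LqfScheme

/-! Scheme fibres of monomorphisms of stacks and lifts through them. -/

set_option autoImplicit false
set_option backward.isDefEq.respectTransparency false
set_option backward.isDefEq.respectTransparency.types false

universe u

open CategoryTheory CategoryTheory.Limits Opposite AlgebraicGeometry AlgSp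
open Groth.Agent.AlgSpLib Groth.Agent.AlgSpDec Groth.Agent.AlgStLib Groth.Agent.FibBase

namespace Groth.Agent.FCov14.MonoFib

variable {S : Scheme.{u}}

/-- Isomorphic functors between slices have equal structure maps. -/
theorem hom_eq_of_iso {W U : Over S} {Φ Ψ : FibCat.overCat W ⥤ᵇ FibCat.overCat U} (i : Φ ≅ Ψ) (z : Over W) :
    eqToHom ((Φ.w_obj z).trans (Ψ.w_obj z).symm) ≫ (Ψ.obj z).hom = (Φ.obj z).hom := by
  have : (FibCat.overCat U).p.IsHomLift (𝟙 z.left) (isoApp i z).hom :=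
    BasedNatTrans.isHomLift i.hom (rfl : (FibCat.overCat W).p.obj z = z.left)
  have e : (isoApp i z).hom.left = eqToHom ((Φ.w_obj z).trans (Ψ.w_obj z).symm) :=
    map_eq_of_isHomLift_id (p := (FibCat.overCat U).p) this
  rw [← e]
  exact Over.w _

/-- Composite of maps of slices. -/
def overMapCompIso {W T U : Over S} (m : W ⟶ T) (g : T ⟶ U) {h : W ⟶ U} (e : m ≫ g = h) :
    BasedFunctor.comp (AlgSt.overMap m) (AlgSt.overMap g) ≅ AlgSt.overMap h :=
  overIso _ _ fun z => by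
    subst e
    show 𝟙 z.left ≫ z.hom ≫ m ≫ g = (z.hom ≫ m) ≫ g
    simp

variable {𝒳 𝒴 : AlgSt.Cat S} {f : 𝒴 ⥤ᵇ 𝒳}

/-- A monomorphism of finite presentation has scheme fibres, which represent liftings. -/
theorem exists_scheme_fibre (hlfp : AlgSt.RepByAlgSpWith (LocP @LocallyOfFinitePresentation) f)
    (hm : AlgSt.IsMono f) {U : Over S} (y : FibCat.overCat U ⥤ᵇ 𝒳) :
    ∃ (T : Over S) (g : T ⟶ U) (e : AlgSt.ofSp ((yon S).obj T) ⥤ᵇ FibCat.fp y f),
      FibCat.IsEquivOver e ∧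
      AlgSt.spMapOfOver (BasedFunctor.comp e (FibCat.fpFst y f)) = (yon S).map g ∧
      LocallyOfFinitePresentation g.left ∧ Mono g.left ∧
      ∀ {W : Over S} (h : W ⟶ U), (∃ m : W ⟶ T, m ≫ g = h) ↔
        ∃ yW : FibCat.overCat W ⥤ᵇ 𝒴,
          Nonempty (BasedFunctor.comp yW f ≅ BasedFunctor.comp (AlgSt.overMap h) y) := by
  obtain ⟨F, e₀, he₀, hl⟩ := hlfp U y
  have hmono := isMono_property hm y e₀ he₀
  let p := AlgSt.spMapOfOver (BasedFunctor.comp e₀ (FibCat.fpFst y f))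
  have hU := IsAlgSpace.yon_obj (S := S) U
  have hlft : LocP @LocallyOfFiniteType p :=
    locP_mono (fun _ _ g (_ : LocallyOfFinitePresentation g) => (inferInstance : LocallyOfFiniteType g)) hl
  have hr : Representable p := representable_of_lqf_separated F.property hU p (locP_lqf_of_mono p hlft)
    (isSeparatedMor_of_mono p)
  let T := hr.pullback (𝟙 ((yon S).obj U))
  let φ : (yon S).obj T ⟶ F.obj := hr.fst (𝟙 _)
  have : IsIso φ := (hr.isPullback (𝟙 _)).isIso_fst_of_isIso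
  let g : T ⟶ U := hr.snd (𝟙 _)
  have hφ : φ ≫ p = (yon S).map g := (hr.isPullback (𝟙 _)).w.trans (Category.comp_id _)
  have hmg : Mono ((yon S).map g) := by rw [← hφ]; exact mono_comp _ _
  have : Mono g := (yon S).mono_of_mono_map hmg
  have hg : LocallyOfFinitePresentation g.left := by
    refine locP_yon_map (P := @LocallyOfFinitePresentation) ?_
    rw [← hφ]
    exact stableBC_locP.precomp F.property hU φ hl
  let e : AlgSt.ofSp ((yon S).obj T) ⥤ᵇ FibCat.fp y f := BasedFunctor.comp (AlgSt.ofSpMap φ) e₀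
  have he : FibCat.IsEquivOver e := isEquivOver_comp (isEquivOver_ofSpMap φ) he₀
  have hsp : AlgSt.spMapOfOver (BasedFunctor.comp e (FibCat.fpFst y f)) = (yon S).map g :=
    (spMapOfOver_comp (AlgSt.ofSpMap φ) (BasedFunctor.comp e₀ (FibCat.fpFst y f))).trans
      (by rw [spHom_ofSpMap, hφ])
  let E : FibCat.overCat T ⥤ᵇ FibCat.fp y f := BasedFunctor.comp (AlgSt.ofOverCat T) e
  have hE : FibCat.IsEquivOver E := isEquivOver_comp (isEquivOver_ofOverCat T) he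
  let iE : BasedFunctor.comp E (FibCat.fpFst y f) ≅ AlgSt.overMap g :=
    whiskerLeftIso (AlgSt.ofOverCat T) (isoSpMapOfOver (BasedFunctor.comp e (FibCat.fpFst y f)) ≪≫
      whiskerRightIso (eqToIso (congrArg (fun k => AlgSt.ofSpMap k) hsp)) (AlgSt.toOverCat U)) ≪≫
      overIso _ _ fun z => by
        show 𝟙 z.left ≫ z.hom ≫ g = z.hom ≫ g
        simp
  refine ⟨T, g, e, he, hsp, hg, inferInstanceAs (Mono ((Over.forget S).map g)), fun {W} h => ⟨?_, ?_⟩⟩
  · rintro ⟨m, hmg⟩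
    exact ⟨BasedFunctor.comp (AlgSt.overMap m) (BasedFunctor.comp E (FibCat.fpSnd y f)),
      ⟨whiskerLeftIso (BasedFunctor.comp (AlgSt.overMap m) E) (FibCat.fpIso y f).symm ≪≫
        whiskerRightIso (whiskerLeftIso (AlgSt.overMap m) iE ≪≫ overMapCompIso m g hmg) y⟩⟩
  · rintro ⟨yW, ⟨j⟩⟩
    let L : FibCat.overCat W ⥤ᵇ FibCat.fp y f := FibCat.fpLift (AlgSt.overMap h) yW j.symm
    obtain ⟨E', -, ⟨c⟩⟩ := hE
    let Φ : FibCat.overCat W ⥤ᵇ FibCat.overCat T := BasedFunctor.comp L E'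
    let z : Over W := Over.mk (𝟙 W)
    let m : W ⟶ T := eqToHom (Φ.w_obj z).symm ≫ (Φ.obj z).hom
    refine ⟨m, ?_⟩
    let i : BasedFunctor.comp Φ (AlgSt.overMap g) ≅ AlgSt.overMap h :=
      (whiskerLeftIso Φ iE).symm ≪≫ whiskerRightIso (whiskerLeftIso L c) (FibCat.fpFst y f)
    have := hom_eq_of_iso i z
    change _ ≫ 𝟙 W ≫ h = (Φ.obj z).hom ≫ g at this
    simp only [m, Category.assoc, ← this]
    rw [← Category.assoc, eqToHom_trans, eqToHom_refl, Category.id_comp]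
    exact Category.id_comp h

/-- The lift of a morphism of schemes through a scheme fibre. -/
theorem exists_lift_iff {T U : Over S} (g : T ⟶ U) {f : 𝒴 ⥤ᵇ 𝒳} {y : FibCat.overCat U ⥤ᵇ 𝒳}
    (hg : ∀ {W : Over S} (h : W ⟶ U), (∃ m : W ⟶ T, m ≫ g = h) ↔
      ∃ yW : FibCat.overCat W ⥤ᵇ 𝒴, Nonempty (BasedFunctor.comp yW f ≅ BasedFunctor.comp (AlgSt.overMap h) y))
    {Z : Scheme.{u}} (r : Z ⟶ S) (s : Z ⟶ U.left) (hr : s ≫ U.hom = r) :
    (∃ l : Z ⟶ T.left, l ≫ g.left = s) ↔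
      ∃ yW : FibCat.overCat (Over.mk r) ⥤ᵇ 𝒴,
        Nonempty (BasedFunctor.comp yW f ≅ BasedFunctor.comp (AlgSt.overMap (Over.homMk s hr : Over.mk r ⟶ U)) y) := by
  rw [← hg]
  refine ⟨fun ⟨l, hl⟩ => ⟨Over.homMk l ?_, Over.OverMorphism.ext hl⟩, fun ⟨m, hm⟩ =>
    ⟨m.left, congrArg (fun k => k.left) hm⟩⟩
  show l ≫ T.hom = r
  rw [← Over.w g, ← Category.assoc, hl, hr]

/-- Postcomposition of maps of slices before a functor. -/
def overMapCompIso' {W T U : Over S} (m : W ⟶ T) (g : T ⟶ U) {h : W ⟶ U} (e : m ≫ g = h)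
    (y : FibCat.overCat U ⥤ᵇ 𝒳) :
    BasedFunctor.comp (AlgSt.overMap m) (BasedFunctor.comp (AlgSt.overMap g) y) ≅
      BasedFunctor.comp (AlgSt.overMap h) y :=
  whiskerRightIso (overMapCompIso m g e) y

end Groth.Agent.FCov14.MonoFib

namespace Groth.Agent.FCov14.MonoFib

variable {S : Scheme.{u}} {𝒳 𝒴 : AlgSt.Cat S} {f : 𝒴 ⥤ᵇ 𝒳}

/-- Properties of a monomorphism are read on the scheme fibre over an atlas. -/
theorem repByAlgSpWith_of_atlas {P : MorphismProperty (Sp S)} (hPb : StableBC P)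
    (hloc : IsLocalOnBase IsFppfCover P) (h𝒳 : AlgSt.IsAlgStack Scheme.fppfPrecoverage 𝒳)
    (h𝒴 : AlgSt.IsAlgStack Scheme.fppfPrecoverage 𝒴) (hrep : AlgSt.RepByAlgSp1 f) {U : Over S}
    {x : FibCat.overCat U ⥤ᵇ 𝒳} (hx : AlgSt.RepByAlgSpWith (LocP @Smooth) x)
    (hx' : AlgSt.RepByAlgSpWith IsSurjectiveMor x) {T : Over S} {g : T ⟶ U}
    {e : AlgSt.ofSp ((yon S).obj T) ⥤ᵇ FibCat.fp x f} (he : FibCat.IsEquivOver e)
    (hsp : AlgSt.spMapOfOver (BasedFunctor.comp e (FibCat.fpFst x f)) = (yon S).map g)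
    (hP : P ((yon S).map g)) : AlgSt.RepByAlgSpWith P f := by
  let w : AlgSt.ofSch U ⥤ᵇ 𝒳 := BasedFunctor.comp (AlgSt.toOverCat U) x
  have hU := isEquivOver_toOverCat U
  have hw : LocEssSurj w := locEssSurj_of_repByAlgSp
    (repByAlgSpWith_mono (fun _ _ _ => locP_mono fun _ _ g (_ : Smooth g) => (inferInstance : Flat g))
      (repByAlgSpWith_precomp hU hx))
    (repByAlgSpWith_mono (fun _ _ _ => locP_mono fun _ _ g (_ : Smooth g) => (inferInstance : LocallyOfFinitePresentation g))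
      (repByAlgSpWith_precomp hU hx))
    (repByAlgSpWith_precomp hU hx')
  let α : BasedFunctor.comp (AlgSt.ofOverCat U) w ≅ BasedFunctor.comp x (BasedFunctor.id 𝒳) :=
    whiskerRightIso (ofOverCatIso U) x
  have : (BasedFunctor.id 𝒳).toFunctor.Full := inferInstanceAs (𝟭 _).Full
  have : (BasedFunctor.id 𝒳).toFunctor.Faithful := inferInstanceAs (𝟭 _).Faithful
  let m : FibCat.fp x f ⥤ᵇ FibCat.fp w f :=
    fpMap (F := w) (G := f) (F' := x) (G' := f) (a := AlgSt.ofOverCat U) (b := BasedFunctor.id 𝒴) α (Iso.refl _)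
  have hm : FibCat.IsEquivOver m := fpMap_isEquivOver _ _ (isEquivOver_ofOverCat U) isEquivOver_id
  refine (repByAlgSpWith_iff_exists_cover hPb hloc h𝒴.isStack.1 h𝒳.isStack.1 hrep
    ⟨_, IsAlgSpace.yon_obj U⟩ w hw).2 ⟨⟨_, IsAlgSpace.yon_obj T⟩, ObjectProperty.homMk ((yon S).map g),
      BasedFunctor.comp e m, isEquivOver_comp he hm, ⟨?_⟩, hP⟩
  exact whiskerRightIso (isoSpMapOfOver (BasedFunctor.comp e (FibCat.fpFst x f)) ≪≫
      whiskerRightIso (eqToIso (congrArg (fun k => AlgSt.ofSpMap k) hsp)) (AlgSt.toOverCat U)) (AlgSt.ofOverCat U) ≪≫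
    whiskerLeftIso (AlgSt.ofSpMap ((yon S).map g)) (toOverCatIso U)

/-- The lifting condition on dense sets of points for the fibre of a functor. -/
theorem denseLift_fibre {U : Over S} {x : FibCat.overCat U ⥤ᵇ 𝒳} {T : Over S} {g : T ⟶ U}
    (hg : ∀ {W : Over S} (h : W ⟶ U), (∃ m : W ⟶ T, m ≫ g = h) ↔
      ∃ yW : FibCat.overCat W ⥤ᵇ 𝒴, Nonempty (BasedFunctor.comp yW f ≅ BasedFunctor.comp (AlgSt.overMap h) x))
    (hc : ∀ (A : Type u) [CommRing A] [IsDomain A] (sA : Spec (CommRingCat.of A) ⟶ S)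
      (a : FibCat.overCat (Over.mk sA) ⥤ᵇ 𝒳) (D : Set ↥(Spec (CommRingCat.of A))), Dense D →
      (∀ p ∈ D, ∃ yp : FibCat.overCat (Over.mk ((Spec (CommRingCat.of A)).fromSpecResidueField p ≫ sA)) ⥤ᵇ 𝒴,
          Nonempty (BasedFunctor.comp yp f ≅ BasedFunctor.comp (AlgSt.overMap (Over.homMk ((Spec (CommRingCat.of A)).fromSpecResidueField p) rfl : Over.mk (((Spec (CommRingCat.of A)).fromSpecResidueField p) ≫ sA) ⟶ Over.mk sA)) a)) →
      ∃ U : (Spec (CommRingCat.of A)).Opens, (U : Set ↥(Spec (CommRingCat.of A))).Nonempty ∧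
        ∃ yU : FibCat.overCat (Over.mk (U.ι ≫ sA)) ⥤ᵇ 𝒴,
          Nonempty (BasedFunctor.comp yU f ≅ BasedFunctor.comp (AlgSt.overMap (Over.homMk (U.ι) rfl : Over.mk ((U.ι) ≫ sA) ⟶ Over.mk sA)) a))
    (A : Type u) [CommRing A] [IsDomain A] (s : Spec (CommRingCat.of A) ⟶ U.left)
    (D : Set ↥(Spec (CommRingCat.of A))) (hD : Dense D)
    (hl : ∀ p ∈ D, ∃ l : Spec ((Spec (CommRingCat.of A)).residueField p) ⟶ T.left,
      l ≫ g.left = (Spec (CommRingCat.of A)).fromSpecResidueField p ≫ s) :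
    ∃ V : (Spec (CommRingCat.of A)).Opens, (V : Set ↥(Spec (CommRingCat.of A))).Nonempty ∧
      ∃ l : (V : Scheme.{u}) ⟶ T.left, l ≫ g.left = V.ι ≫ s := by
  let sA := s ≫ U.hom
  let a := BasedFunctor.comp (AlgSt.overMap (Over.homMk s rfl : Over.mk sA ⟶ U)) x
  obtain ⟨V, hV, yV, ⟨j⟩⟩ := hc A sA a D hD fun p hp => by
    obtain ⟨yp, ⟨j⟩⟩ := (exists_lift_iff g hg (((Spec (CommRingCat.of A)).fromSpecResidueField p) ≫ sA) _
      (Category.assoc _ _ _)).1 (hl p hp)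
    exact ⟨yp, ⟨j ≪≫ (overMapCompIso' _ _ (by ext; rfl) x).symm⟩⟩
  exact ⟨V, hV, (exists_lift_iff g hg (V.ι ≫ sA) _ (Category.assoc _ _ _)).2
    ⟨yV, ⟨j ≪≫ overMapCompIso' _ _ (by ext; rfl) x⟩⟩⟩

end Groth.Agent.FCov14.MonoFib
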