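import Groth.Agent.FCov14.Framed
import Groth.Agent.FCov14.Frame
import Groth.Agent.DescLib.SigmaLocal

/-! The parameter space of finite free algebras of positive rank over a base. -/

set_option autoImplicit false
set_option backward.isDefEq.respectTransparency false
set_option backward.isDefEq.respectTransparency.types false

universe u

open CategoryTheory CategoryTheory.Limits Opposite AlgebraicGeometry AlgSp
open Groth.Agent.AlgSpLib Groth.Agent.AlgStLib Groth.Agent.FCov14.Pushf

namespace Groth.Agent.FCov14.Param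

/-- The affine pieces of the parameter space. -/
noncomputable abbrev Pd (n : ULift.{u} ℕ) : Scheme.{u} := Spec (CommRingCat.of (PU.{u} (n.down + 1)))

/-- The affine pieces of the universal algebra. -/
noncomputable abbrev Ld (n : ULift.{u} ℕ) : Scheme.{u} := Spec (CommRingCat.of (LU.{u} (n.down + 1)))

/-- The structure maps of the pieces. -/
noncomputable abbrev qd (n : ULift.{u} ℕ) : Ld n ⟶ Pd n :=
  Spec.map (CommRingCat.ofHom (algebraMap (PU.{u} (n.down + 1)) (LU.{u} (n.down + 1))))

/-- The absolute parameter space. -/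
noncomputable abbrev BU : Scheme.{u} := ∐ Pd.{u}

/-- The absolute universal finite scheme. -/
noncomputable abbrev ZU : Scheme.{u} := ∐ Ld.{u}

/-- The absolute cover. -/
noncomputable abbrev pu : ZU.{u} ⟶ BU.{u} := Limits.Sigma.map qd

theorem finite_LU (d : ℕ) : Module.Finite (PU.{u} d) (LU.{u} d) := Module.Finite.of_basis (eU d)

theorem faithfullyFlat_LU (d : ℕ) : Module.FaithfullyFlat (PU.{u} (d + 1)) (LU.{u} (d + 1)) := by
  haveI := Module.Free.of_basis (eU.{u} (d + 1))
  rcases subsingleton_or_nontrivial (PU.{u} (d + 1)) with h | h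
  · haveI : Module.Flat (PU.{u} (d + 1)) (LU.{u} (d + 1)) := inferInstance
    exact ⟨fun m hm => absurd (Subsingleton.elim m ⊤) hm.ne_top⟩
  · haveI : Nontrivial (LU.{u} (d + 1)) := nontrivial_of_ne (eU (d + 1) 0) 0 ((eU (d + 1)).ne_zero 0)
    infer_instance

theorem property_pu : IsFinite pu.{u} ∧ Flat pu.{u} ∧ LocallyOfFinitePresentation pu.{u} ∧ Surjective pu.{u} := by
  refine ⟨Groth.Agent.DescLib.prop_sigmaMap @IsFinite qd fun n => ?_,
    Groth.Agent.DescLib.prop_sigmaMap @Flat qd fun n => ?_,
    Groth.Agent.DescLib.prop_sigmaMap @LocallyOfFinitePresentation qd fun n => ?_,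
    Groth.Agent.DescLib.prop_sigmaMap @Surjective qd fun n => ?_⟩
  all_goals
    haveI := finite_LU.{u} (n.down + 1)
    haveI := faithfullyFlat_LU.{u} n.down
  · rw [IsFinite.SpecMap_iff]
    exact RingHom.finite_algebraMap.2 (finite_LU _)
  · rw [HasRingHomProperty.Spec_iff (P := @Flat)]
    exact RingHom.flat_algebraMap_iff.2 inferInstance
  · rw [HasRingHomProperty.Spec_iff (P := @LocallyOfFinitePresentation)]
    haveI := Module.Free.of_basis (eU.{u} (n.down + 1))
    have := Module.finitePresentation_of_projective (PU.{u} (n.down + 1)) (LU.{u} (n.down + 1))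
    exact RingHom.finitePresentation_algebraMap.2 (Algebra.FinitePresentation.of_finitePresentation _ _)
  · exact ⟨PrimeSpectrum.comap_surjective_of_faithfullyFlat⟩

variable (S : Scheme.{u})

/-- The parameter space. -/
noncomputable def B : Over S := Over.mk (pullback.fst (terminal.from S) (terminal.from BU.{u}))

/-- The universal finite scheme. -/
noncomputable def Z : Over S := Over.mk (pullback.fst (terminal.from S) (terminal.from ZU.{u}))

/-- The map to the absolute parameter space. -/
noncomputable def bu : (B S).left ⟶ BU.{u} := pullback.snd _ _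

/-- The cover. -/
noncomputable def pz : Z S ⟶ B S :=
  Over.homMk (pullback.map _ _ _ _ (𝟙 S) pu (𝟙 _) (by simp) (terminal.hom_ext _ _))
    ((pullback.lift_fst _ _ _).trans (Category.comp_id _))

theorem isPullback_pz : IsPullback (pullback.snd (terminal.from S) (terminal.from ZU.{u})) (pz S).left pu (bu S) := by
  refine IsPullback.of_bot ?_ (pullback.lift_snd _ _ _).symm
    (IsPullback.of_hasPullback (terminal.from S) (terminal.from BU.{u})).flip
  rw [show (pz S).left ≫ pullback.fst (terminal.from S) (terminal.from BU.{u}) =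
      pullback.fst (terminal.from S) (terminal.from ZU.{u}) from Over.w (pz S),
    show pu ≫ terminal.from BU.{u} = terminal.from ZU.{u} from terminal.hom_ext _ _]
  exact (IsPullback.of_hasPullback _ _).flip

instance : IsFinite (pz S).left := MorphismProperty.of_isPullback (isPullback_pz S) property_pu.1

instance : Flat (pz S).left := MorphismProperty.of_isPullback (isPullback_pz S) property_pu.2.1

instance : LocallyOfFinitePresentation (pz S).left :=
  MorphismProperty.of_isPullback (isPullback_pz S) property_pu.2.2.1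

instance : Surjective (pz S).left := MorphismProperty.of_isPullback (isPullback_pz S) property_pu.2.2.2

variable {S} (U : Over S)

/-- The framed parameter space. -/
noncomputable def B' : Over S := Over.mk (pullback.fst (terminal.from U.left) (terminal.from BU.{u}) ≫ U.hom)

/-- The projection to the object. -/
noncomputable def prU : B' U ⟶ U := Over.homMk (pullback.fst _ _)

/-- The projection to the parameter space. -/
noncomputable def prB : B' U ⟶ B S :=
  Over.homMk (pullback.map _ _ _ _ U.hom (𝟙 _) (𝟙 _) (terminal.hom_ext _ _) (by simp))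
    (pullback.lift_fst _ _ _)

theorem prB_bu : (prB U).left ≫ bu S = pullback.snd (terminal.from U.left) (terminal.from BU.{u}) :=
  (pullback.lift_snd _ _ _).trans (Category.comp_id _)

theorem isProd : Chart.IsProd (prB U) (prU U) := by
  intro W p q
  have hq : q.left ≫ U.hom = W.hom := Over.w q
  let r : W ⟶ B' U := Over.homMk (pullback.lift q.left (p.left ≫ bu S) (terminal.hom_ext _ _)) (by
    show pullback.lift _ _ _ ≫ pullback.fst _ _ ≫ U.hom = W.hom
    rw [pullback.lift_fst_assoc, hq])
  refine ⟨r, ⟨Over.OverMorphism.ext (pullback.hom_ext ?_ ?_), Over.OverMorphism.ext (pullback.lift_fst _ _ _)⟩, ?_⟩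
  · show (r.left ≫ (prB U).left) ≫ (B S).hom = p.left ≫ (B S).hom
    rw [Category.assoc, Over.w, Over.w, Over.w]
  · show (r.left ≫ (prB U).left) ≫ bu S = p.left ≫ bu S
    rw [Category.assoc, prB_bu]
    exact pullback.lift_snd _ _ _
  · rintro r' ⟨h₁, h₂⟩
    refine Over.OverMorphism.ext (pullback.hom_ext ?_ ?_)
    · rw [show r.left ≫ pullback.fst _ _ = q.left from pullback.lift_fst _ _ _]
      exact congrArg Over.Hom.left h₂
    · rw [show r.left ≫ pullback.snd _ _ = p.left ≫ bu S from pullback.lift_snd _ _ _, ← prB_bu]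
      exact (Category.assoc _ _ _).symm.trans (congrArg (fun m : W ⟶ B S => m.left ≫ bu S) h₁)

theorem locallyOfFinitePresentation_terminal : LocallyOfFinitePresentation (terminal.from BU.{u}) := by
  refine IsZariskiLocalAtSource.of_openCover (P := @LocallyOfFinitePresentation) (sigmaOpenCover Pd.{u}) fun n => ?_
  let f : Pd n ⟶ Spec (CommRingCat.of Zu.{u}) :=
    Spec.map (CommRingCat.ofHom (algebraMap Zu.{u} (PU.{u} (n.down + 1))))
  have hf : LocallyOfFinitePresentation f := by
    rw [HasRingHomProperty.Spec_iff (P := @LocallyOfFinitePresentation)]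
    exact RingHom.finitePresentation_algebraMap.2 (finitePresentation_PU _)
  have : IsIso (terminal.from (Spec (CommRingCat.of Zu.{u}))) :=
    isIso_of_isTerminal specULiftZIsTerminal terminalIsTerminal _
  rw [show (sigmaOpenCover Pd.{u}).f n ≫ terminal.from BU.{u} = f ≫ terminal.from _ from terminal.hom_ext _ _]
  infer_instance

instance : LocallyOfFinitePresentation (prU U).left :=
  MorphismProperty.pullback_fst (P := @LocallyOfFinitePresentation) _ _ locallyOfFinitePresentation_terminal

theorem isPullback_pz' : IsPullback ((prZ (pz S) (prB U)).left ≫ pullback.snd (terminal.from S) (terminal.from ZU.{u}))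
    (Chart.pz' (pz S) (prB U)).left pu (pullback.snd (terminal.from U.left) (terminal.from BU.{u})) := by
  rw [← prB_bu U]
  exact (((isPullback_pb (pz S) (prB U)).map (Over.forget S)).flip).paste_horiz (isPullback_pz S)

variable {U} {A : Type u} [CommRing A] [Algebra Zu.{u} A] (ι₀ : Spec (CommRingCat.of A) ⟶ U.left)

/-- The affine piece of the framed parameter space over an affine piece. -/
noncomputable def ιV (n : ℕ) : Spec (CommRingCat.of (Framed.kU A (n + 1))) ⟶ (B' U).left :=
  pullback.lift (Spec.map (CommRingCat.ofHom (algebraMap A (Framed.kU A (n + 1)))) ≫ ι₀)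
    (Spec.map (CommRingCat.ofHom (Framed.πU A (n + 1))) ≫ Sigma.ι Pd.{u} ⟨n⟩) (terminal.hom_ext _ _)

theorem ιV_prU (n : ℕ) :
    ιV ι₀ n ≫ (prU U).left = Spec.map (CommRingCat.ofHom (algebraMap A (Framed.kU A (n + 1)))) ≫ ι₀ :=
  pullback.lift_fst _ _ _

theorem isOpenImmersion_ιV [IsOpenImmersion ι₀] (n : ℕ) : IsOpenImmersion (ιV ι₀ n) := by
  have : IsIso (terminal.from (Spec (CommRingCat.of Zu.{u}))) :=
    isIso_of_isTerminal specULiftZIsTerminal terminalIsTerminal _
  have hp : CategoryTheory.IsPushout (CommRingCat.ofHom (algebraMap Zu.{u} A))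
      (CommRingCat.ofHom (algebraMap Zu.{u} (PU.{u} (n + 1))))
      (CommRingCat.ofHom (algebraMap A (Framed.kU A (n + 1)))) (CommRingCat.ofHom (Framed.πU A (n + 1))) :=
    CommRingCat.isPushout_tensorProduct Zu.{u} A (PU.{u} (n + 1))
  have h0 := isPullback_SpecMap_of_isPushout _ _ _ _ hp
  have h1 : IsPullback (Spec.map (CommRingCat.ofHom (algebraMap A (Framed.kU A (n + 1)))))
      (Spec.map (CommRingCat.ofHom (Framed.πU A (n + 1)))) (terminal.from (Spec (CommRingCat.of A)))
      (terminal.from (Pd.{u} ⟨n⟩)) :=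
    IsPullback.of_iso h0 (Iso.refl _) (Iso.refl _) (Iso.refl _) (asIso (terminal.from (Spec (CommRingCat.of Zu.{u}))))
      (by simp) (by simp) (terminal.hom_ext _ _) (terminal.hom_ext _ _)
  have : ιV ι₀ n = h1.isoPullback.hom ≫ pullback.map _ _ _ _ ι₀ (Sigma.ι Pd.{u} ⟨n⟩) (𝟙 _)
      (terminal.hom_ext _ _) (terminal.hom_ext _ _) := by
    refine pullback.hom_ext ?_ ?_
    · simp [ιV]
    · simp [ιV]
  rw [this]
  infer_instance

/-- The piece of the universal finite scheme is a base change. -/
theorem exists_sqZ (n : ℕ) : ∃ ζ : Spec (CommRingCat.of (Framed.lU A (n + 1))) ⟶ (Chart.Z' (pz S) (prB U)).left,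
    IsPullback ζ (Spec.map (CommRingCat.ofHom (algebraMap (Framed.kU A (n + 1)) (Framed.lU A (n + 1)))))
      (Chart.pz' (pz S) (prB U)).left (ιV ι₀ n) := by
  have hp : CategoryTheory.IsPushout (CommRingCat.ofHom (algebraMap (PU.{u} (n + 1)) (Framed.kU A (n + 1))))
      (CommRingCat.ofHom (algebraMap (PU.{u} (n + 1)) (LU.{u} (n + 1))))
      (CommRingCat.ofHom (algebraMap (Framed.kU A (n + 1)) (Framed.lU A (n + 1))))
      (CommRingCat.ofHom (Framed.ιL A (n + 1))) :=
    CommRingCat.isPushout_tensorProduct (PU.{u} (n + 1)) (Framed.kU A (n + 1)) (LU.{u} (n + 1))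
  have h1 := (isPullback_SpecMap_of_isPushout _ _ _ _ hp).flip.paste_horiz
    (Groth.Agent.DescLib.isPullback_sigmaMap qd.{u} ⟨n⟩)
  have hι : ιV ι₀ n ≫ pullback.snd (terminal.from U.left) (terminal.from BU.{u}) =
      Spec.map (CommRingCat.ofHom (Framed.πU A (n + 1))) ≫ Sigma.ι Pd.{u} ⟨n⟩ := pullback.lift_snd _ _ _
  have h2 := isPullback_pz' U
  refine ⟨h2.lift (Spec.map (CommRingCat.ofHom (Framed.ιL A (n + 1))) ≫ Sigma.ι Ld.{u} ⟨n⟩)
    (Spec.map (CommRingCat.ofHom (algebraMap (Framed.kU A (n + 1)) (Framed.lU A (n + 1)))) ≫ ιV ι₀ n) (by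
      rw [Category.assoc _ (ιV ι₀ n), hι]
      exact h1.w), IsPullback.of_right ?_ (h2.lift_snd _ _ _) h2⟩
  rw [h2.lift_fst, hι]
  exact h1

end Groth.Agent.FCov14.Param
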