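import Groth.Agent.FCov14.PushfPiece
import Groth.Agent.FCov14.FreeChart
import Groth.Agent.AlgSpDec.FppfFamily
import Groth.Agent.AlgSpDec.FinsetAffine

/-! Sections of a scheme along a finite flat morphism form an algebraic space. -/

set_option autoImplicit false
set_option backward.isDefEq.respectTransparency false
set_option backward.isDefEq.respectTransparency.types false

universe u

open CategoryTheory CategoryTheory.Limits Opposite AlgebraicGeometry AlgSp
open Groth.Agent.AlgSpLib Groth.Agent.AlgStLib Groth.Agent.AlgSpDec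

namespace Groth.Agent.FCov14.Pushf

variable {S : Scheme.{u}} {B Z Y : Over S}

/-- Finite sets of points over an affine open of the base lie in affine opens over it. -/
def HasAff (pz : Z ⟶ B) (q : Y ⟶ Z) : Prop :=
  ∀ V : B.left.Opens, IsAffineOpen V → ∀ T : Set Y.left, T.Finite → (∀ y ∈ T, (q ≫ pz).left y ∈ V) →
    ∃ U : Y.left.Opens, IsAffineOpen U ∧ T ⊆ U ∧ ∀ y ∈ U, (q ≫ pz).left y ∈ V

theorem hasAff_of_separated_quasiFinite (pz : Z ⟶ B) (q : Y ⟶ Z) [IsAffineHom pz.left] [IsSeparated q.left]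
    [LocallyQuasiFinite q.left] [LocallyOfFiniteType q.left] : HasAff pz q := by
  intro V hV T hT hTV
  let W : Z.left.Opens := pz.left ⁻¹ᵁ V
  have hW : IsAffineOpen W := hV.preimage pz.left
  have : IsAffine W := hW
  let X : Y.left.Opens := q.left ⁻¹ᵁ W
  obtain ⟨U, hU, hTU⟩ := exists_affineOpen_of_finite (q.left ∣_ W) (T := X.ι ⁻¹' T)
    (hT.preimage X.ι.isOpenEmbedding.injective.injOn)
  refine ⟨X.ι ''ᵁ U, hU.image_of_isOpenImmersion X.ι, fun y hy => ⟨⟨y, hTV y hy⟩, hTU hy, rfl⟩, ?_⟩
  rintro _ ⟨y, -, rfl⟩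
  exact y.2

variable (pz : Z ⟶ B) (q : Y ⟶ Z) [IsFinite pz.left] [Flat pz.left] [LocallyOfFinitePresentation pz.left]

theorem exists_pieceData (b₀ : B.left) :
    ∃ V : B.left.Opens, IsAffineOpen V ∧ b₀ ∈ V ∧ ∀ U : Y.left.Opens, IsAffineOpen U → (∀ y ∈ U, (q ≫ pz).left y ∈ V) →
      ∃ P : PieceData pz q, Set.range P.ιV = V ∧ Set.range P.ιY = U := by
  obtain ⟨k, L, _, _, _, d, e, ι, _, ζ, hb, hsq⟩ := exists_free_chart pz.left b₀
  refine ⟨ι.opensRange, isAffineOpen_opensRange ι, hb, fun U hU hUV => ?_⟩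
  have : IsOpenImmersion ζ := MorphismProperty.of_isPullback hsq.flip ‹IsOpenImmersion ι›
  have hrange : Set.range (hU.fromSpec ≫ q.left) ⊆ Set.range ζ := by
    rintro _ ⟨y, rfl⟩
    have hy : hU.fromSpec y ∈ U := by
      have : hU.fromSpec y ∈ Set.range hU.fromSpec := ⟨y, rfl⟩
      rwa [hU.range_fromSpec] at this
    obtain ⟨x, hx⟩ := hUV _ hy
    obtain ⟨p, hp, -⟩ := Scheme.exists_preimage_of_isPullback hsq (q.left (hU.fromSpec y)) x hx.symm
    exact ⟨p, hp⟩
  obtain ⟨φ, hφ⟩ := Spec.map_surjective (IsOpenImmersion.lift ζ (hU.fromSpec ≫ q.left) hrange)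
  letI : Algebra L Γ(Y.left, U) := φ.hom.toAlgebra
  letI : Algebra k Γ(Y.left, U) := ((algebraMap L Γ(Y.left, U)).comp (algebraMap k L)).toAlgebra
  haveI : IsScalarTower k L Γ(Y.left, U) := IsScalarTower.of_algebraMap_eq fun _ => rfl
  refine ⟨PieceData.mk (k := k) (L := L) (C := Γ(Y.left, U)) d e ι ζ hsq hU.fromSpec ?_, rfl, hU.range_fromSpec⟩
  refine (IsOpenImmersion.lift_fac ζ (hU.fromSpec ≫ q.left) hrange).symm.trans ?_
  rw [← hφ]
  rfl

omit [IsFinite pz.left] [Flat pz.left] [LocallyOfFinitePresentation pz.left] in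
variable {pz q} in
theorem PieceData.map_proj (P : PieceData pz q) : P.map ≫ proj pz ((yon S).map q) = (yon S).map P.b :=
  pt_proj pz _ P.sec

theorem exists_zarCover (hA : HasAff pz q) : ∃ (ι : Type u) (P : ι → PieceData pz q),
    IsZarCover (fun i => (yon S).obj (P i).obj) (fun i => (P i).map) := by
  choose V hV hbV hP using exists_pieceData pz q
  let ι := Σ b : B.left, {U : Y.left.Opens // IsAffineOpen U ∧ ∀ y ∈ U, (q ≫ pz).left y ∈ V b}
  choose P hPV hPU using fun i : ι => hP i.1 i.2.1 i.2.2.1 i.2.2.2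
  refine ⟨ι, P, fun i => (P i).repWith_map, fun x => ?_⟩
  induction x using Points.ind with
  | h p =>
    obtain ⟨x, hx⟩ := (pt pz ((yon S).map q)).surjective p.toHom
    let w₀ : (Over.mk p.str).left := IsLocalRing.closedPoint p.K
    have hsub : Subsingleton ↥(Over.mk p.str).left := inferInstanceAs (Subsingleton (PrimeSpectrum p.K))
    have : IsFinite (prW pz x.b).left :=
      MorphismProperty.of_isPullback ((isPullback_pb pz x.b).map (Over.forget S)).flip ‹IsFinite pz.left›
    let F : Set (pb pz x.b).left := (prW pz x.b).left ⁻¹' {w₀}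
    have hF : F.Finite := IsFinite.finite_preimage_singleton (prW pz x.b).left w₀
    have hFV : ∀ y ∈ x.m.left '' F, (q ≫ pz).left y ∈ V (x.b.left w₀) := by
      rintro _ ⟨z, hz, rfl⟩
      have h1 : (x.m ≫ q ≫ pz).left z = (prW pz x.b ≫ x.b).left z := by
        rw [← Category.assoc, x.m_q, pb_condition]
      show (q ≫ pz).left (x.m.left z) ∈ _
      have h2 : (q ≫ pz).left (x.m.left z) = x.b.left ((prW pz x.b).left z) := h1
      rw [h2, show (prW pz x.b).left z = w₀ from hz]
      exact hbV _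
    obtain ⟨U, hU, hFU, hUV⟩ := hA (V _) (hV _) _ (hF.image _) hFV
    let i : ι := ⟨x.b.left w₀, U, hU, hUV⟩
    obtain ⟨a, ha⟩ := (P i).exists_res_eq x (𝟙 _) fun w => by
      obtain rfl : w = w₀ := hsub.elim _ _
      refine ⟨by rw [hPV]; exact hbV _, ?_⟩
      rintro ⟨z, hz, hzw⟩
      exact hz (by show x.m.left z ∈ Set.range (P i).ιY; rw [hPU]; exact hFU ⟨z, hzw, rfl⟩)
    refine ⟨i, Points.ofPt ((yon S).map a) w₀, ?_⟩
    rw [Points.map_ofPt, mk_eq_ofPt, ← hx]
    refine congrArg (fun r => Points.ofPt r w₀) ?_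
    show (yon S).map a ≫ pt pz _ (P i).sec = _
    rw [map_pt, ha, x.res_id]

theorem isAlgSpace_sheaf_of_hasAff (hA : HasAff pz q) : IsAlgSpace (sheaf pz ((yon S).map q)) := by
  obtain ⟨ι, P, hP⟩ := exists_zarCover pz q hA
  exact isAlgSpace_of_zarCover hP fun i => IsAlgSpace.yon_obj _

variable {pz q} in
theorem PieceData.finitePresentation (P : PieceData pz q) [LocallyOfFinitePresentation q.left] :
    Algebra.FinitePresentation P.k P.C := by
  have : IsOpenImmersion P.ζ := MorphismProperty.of_isPullback P.sqZ.flip P.openV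
  have h : LocallyOfFinitePresentation (WeilAff.γS (L := P.L) P.C ≫ P.ζ) := by rw [← P.hY]; infer_instance
  have h1 : LocallyOfFinitePresentation (WeilAff.γS (L := P.L) P.C) :=
    MorphismProperty.of_postcomp (W := @LocallyOfFinitePresentation) (W' := @IsOpenImmersion) _ P.ζ inferInstance h
  have : Algebra.FinitePresentation P.L P.C :=
    RingHom.finitePresentation_algebraMap.1 ((HasRingHomProperty.Spec_iff (P := @LocallyOfFinitePresentation)).1 h1)
  have : Module.Free P.k P.L := Module.Free.of_basis P.e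
  have : Module.Finite P.k P.L := Module.Finite.of_basis P.e
  have : Module.FinitePresentation P.k P.L := Module.finitePresentation_of_projective _ _
  have : Algebra.FinitePresentation P.k P.L := inferInstance
  exact Algebra.FinitePresentation.trans P.k P.L P.C

theorem locP_proj_lfp (hA : HasAff pz q) [LocallyOfFinitePresentation q.left] :
    LocP @LocallyOfFinitePresentation (proj pz ((yon S).map q)) := by
  obtain ⟨ι, P, hP⟩ := exists_zarCover pz q hA
  refine locP_of_zarCover hP (fun i => IsAlgSpace.yon_obj _) _ fun i => ?_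
  rw [PieceData.map_proj]
  refine locP_of_repWith ((repWith_yon_map_iff _ _).2 ?_)
  rw [PieceData.b_left]
  have := (P i).finitePresentation
  have := WeilAff.finitePresentationS (P i).e (P i).C
  have : LocallyOfFinitePresentation (WeilAff.εS (P i).e (P i).C) :=
    (HasRingHomProperty.Spec_iff (P := @LocallyOfFinitePresentation)).2 (RingHom.finitePresentation_algebraMap.2 this)
  infer_instance

theorem locP_proj_etale (hA : HasAff pz q) [Etale q.left] : LocP @Etale (proj pz ((yon S).map q)) := by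
  obtain ⟨ι, P, hP⟩ := exists_zarCover pz q hA
  refine locP_of_zarCover hP (fun i => IsAlgSpace.yon_obj _) _ fun i => ?_
  rw [PieceData.map_proj]
  refine locP_of_repWith ((repWith_yon_map_iff _ _).2 ?_)
  rw [PieceData.b_left]
  have := (P i).finitePresentation
  have h1 := WeilAff.finitePresentationS (P i).e (P i).C
  have : IsOpenImmersion (P i).ζ := MorphismProperty.of_isPullback (P i).sqZ.flip (P i).openV
  have h : Etale (WeilAff.γS (L := (P i).L) (P i).C ≫ (P i).ζ) := by rw [← (P i).hY]; infer_instance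
  have h2 : Etale (WeilAff.γS (L := (P i).L) (P i).C) :=
    MorphismProperty.of_postcomp (W := @Etale) (W' := @IsOpenImmersion) _ (P i).ζ inferInstance h
  have : Algebra.Etale (P i).L (P i).C := RingHom.etale_algebraMap.1 ((HasRingHomProperty.Spec_iff (P := @Etale)).1 h2)
  have := WeilAff.formallyEtaleS (P i).e (P i).C
  have : Algebra.Etale (P i).k (WeilAff.WS (P i).e (P i).C) := ⟨inferInstance, inferInstance⟩
  have : Etale (WeilAff.εS (P i).e (P i).C) :=
    (HasRingHomProperty.Spec_iff (P := @Etale)).2 (RingHom.etale_algebraMap.2 this)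
  infer_instance

end Groth.Agent.FCov14.Pushf
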