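import Groth.Agent.S2106
import Groth.Agent.FlatModel.FibreNil
import Groth.Agent.FlatModel.Open
import Mathlib.RingTheory.NoetherNormalization
import Mathlib.RingTheory.Polynomial.Basic

/-! Finite slices of a flat finitely presented algebra through a given fibre. -/

set_option autoImplicit false
set_option backward.isDefEq.respectTransparency false
set_option backward.isDefEq.respectTransparency.types false

universe u

open TensorProduct

namespace Groth.Agent.FCov14.Slice

/-- Fibrewise flatness at a prime over the generic point of a fibre of a polynomial ring. -/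
theorem flat_localization_of_generic {R P C : Type u} [CommRing R] [CommRing P] [CommRing C] [Algebra R P] [Algebra P C]
    [Algebra R C] [IsScalarTower R P C] [Algebra.FinitePresentation R P] [Algebra.FinitePresentation R C] [Module.Flat R C]
    (p : Ideal R) [p.IsPrime] (Q : Ideal C) [Q.IsPrime] (hp : Q.comap (algebraMap R C) = p)
    (hq : Q.comap (algebraMap P C) = p.map (algebraMap R P)) :
    Module.Flat P (Localization.AtPrime Q) := by
  let q : Ideal P := Q.comap (algebraMap P C)
  have hpq : p = q.comap (algebraMap R P) := by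
    rw [← hp, Ideal.comap_comap, ← IsScalarTower.algebraMap_eq]
  let χ₁ := Localization.localRingHom p q (algebraMap R P) hpq
  let χ₂ := Localization.localRingHom q Q (algebraMap P C) rfl
  let := χ₁.toAlgebra
  let := χ₂.toAlgebra
  let := (χ₂.comp χ₁).toAlgebra
  have : IsScalarTower (Localization.AtPrime p) (Localization.AtPrime q) (Localization.AtPrime Q) :=
    IsScalarTower.of_algebraMap_eq' rfl
  have hc₁ : ∀ r, χ₁ (algebraMap R _ r) = algebraMap P _ (algebraMap R P r) :=
    Localization.localRingHom_to_map p q (algebraMap R P) hpq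
  have hc₂ : ∀ r, χ₂ (algebraMap P _ r) = algebraMap C _ (algebraMap P C r) :=
    Localization.localRingHom_to_map q Q (algebraMap P C) rfl
  have : IsScalarTower R (Localization.AtPrime p) (Localization.AtPrime q) := IsScalarTower.of_algebraMap_eq fun r => by
    rw [IsScalarTower.algebraMap_apply R P (Localization.AtPrime q)]
    exact (hc₁ r).symm
  have : IsScalarTower R (Localization.AtPrime p) (Localization.AtPrime Q) := IsScalarTower.of_algebraMap_eq fun r => by
    show _ = χ₂ (χ₁ (algebraMap R (Localization.AtPrime p) r))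
    rw [hc₁, hc₂, ← IsScalarTower.algebraMap_apply R P C, ← IsScalarTower.algebraMap_apply R C (Localization.AtPrime Q)]
  have : IsScalarTower P (Localization.AtPrime q) (Localization.AtPrime Q) := IsScalarTower.of_algebraMap_eq fun r => by
    rw [IsScalarTower.algebraMap_apply P C (Localization.AtPrime Q)]
    exact (hc₂ r).symm
  have : IsLocalHom (algebraMap (Localization.AtPrime p) (Localization.AtPrime q)) :=
    Localization.isLocalHom_localRingHom p q (algebraMap R P) hpq
  have : IsLocalHom (algebraMap (Localization.AtPrime q) (Localization.AtPrime Q)) :=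
    Localization.isLocalHom_localRingHom q Q (algebraMap P C) rfl
  have h1 := FlatModel.isEssFinitePresentation_localization (R := R) (S' := P) q p (Localization.AtPrime p)
    (Localization.AtPrime q)
  have h2 := FlatModel.isEssFinitePresentation_localization (R := R) (S' := C) Q p (Localization.AtPrime p)
    (Localization.AtPrime Q)
  have : Module.Flat (Localization.AtPrime p) (Localization.AtPrime Q) := by
    have : Module.Flat R (Localization.AtPrime Q) := Module.Flat.trans R C _
    exact (Module.flat_iff_of_isLocalization (Localization.AtPrime p) p.primeCompl (M := Localization.AtPrime Q)).2 this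
  have hmax : (IsLocalRing.maximalIdeal (Localization.AtPrime p)).map
      (algebraMap (Localization.AtPrime p) (Localization.AtPrime q)) = IsLocalRing.maximalIdeal _ := by
    rw [← Localization.AtPrime.map_eq_maximalIdeal, ← Localization.AtPrime.map_eq_maximalIdeal, Ideal.map_map,
      ← IsScalarTower.algebraMap_eq, IsScalarTower.algebraMap_eq R P (Localization.AtPrime q), ← Ideal.map_map, ← hq]
  have hfield : IsField (Localization.AtPrime q ⧸ (IsLocalRing.maximalIdeal (Localization.AtPrime p)).map
      (algebraMap (Localization.AtPrime p) (Localization.AtPrime q))) := by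
    rw [hmax]
    exact (Ideal.Quotient.maximal_ideal_iff_isField_quotient _).1 inferInstance
  have hfl : Module.Flat (Localization.AtPrime q ⧸ (IsLocalRing.maximalIdeal (Localization.AtPrime p)).map
        (algebraMap (Localization.AtPrime p) (Localization.AtPrime q)))
      (Localization.AtPrime Q ⧸ (IsLocalRing.maximalIdeal (Localization.AtPrime p)).map
        (algebraMap (Localization.AtPrime p) (Localization.AtPrime q)) •
          (⊤ : Submodule (Localization.AtPrime q) (Localization.AtPrime Q))) := by
    let := hfield.toField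
    infer_instance
  obtain ⟨_, _⟩ := S2106.result (M := Localization.AtPrime Q) h1 h2 hfl
  exact Module.Flat.trans P (Localization.AtPrime q) _

/-- A flat localisation of a finitely presented algebra at a prime comes from a flat basic open. -/
theorem exists_flat_away {P C : Type u} [CommRing P] [CommRing C] [Algebra P C] [Algebra.FinitePresentation P C]
    (Q : Ideal C) [Q.IsPrime] (h : Module.Flat P (Localization.AtPrime Q)) :
    ∃ g ∉ Q, Module.Flat P (Localization.Away g) := by
  let e := fun W : Submonoid C =>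
    (IsLocalizedModule.iso W (Algebra.linearMap C (Localization W))).restrictScalars P
  have h' : Module.Flat P (LocalizedModule Q.primeCompl C) := Module.Flat.of_linearEquiv (e Q.primeCompl)
  obtain ⟨g, hg, hW⟩ := FlatModel.exists_flat_nhd C Q h'
  have := hW (Submonoid.powers g) (Submonoid.mem_powers g)
  exact ⟨g, hg, Module.Flat.of_linearEquiv (e (Submonoid.powers g)).symm⟩

/-- A prime over a given fibre of a flat algebra at which a polynomial map with finite fibre maps is flat. -/
theorem exists_generic {A C : Type u} [CommRing A] [CommRing C] [Algebra A C] [Algebra.FinitePresentation A C]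
    [Module.Flat A C] (p : Ideal A) [p.IsPrime] [Nontrivial (p.ResidueField ⊗[A] C)] :
    ∃ (n : ℕ) (f : Fin n → C) (Q : Ideal C) (_ : Q.IsPrime), Q.comap (algebraMap A C) = p ∧
      (letI := (MvPolynomial.aeval f : MvPolynomial (Fin n) A →ₐ[A] C).toRingHom.toAlgebra
       Module.Flat (MvPolynomial (Fin n) A) (Localization.AtPrime Q)) ∧
      (MvPolynomial.aeval (fun i => (1 : p.ResidueField) ⊗ₜ[A] f i) :
        MvPolynomial (Fin n) p.ResidueField →ₐ[p.ResidueField] p.ResidueField ⊗[A] C).Finite := by
  classical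
  obtain ⟨n, g, hinj, hfin⟩ := exists_finite_inj_algHom_of_fg p.ResidueField (p.ResidueField ⊗[A] C)
  choose r hr c hc using fun i => Ideal.Fiber.exists_smul_eq_one_tmul p (g (MvPolynomial.X i))
  have hr0 : ∀ i, algebraMap A p.ResidueField (r i) ≠ 0 := fun i h =>
    hr i (Ideal.algebraMap_residueField_eq_zero.1 h)
  let σ : MvPolynomial (Fin n) p.ResidueField →ₐ[p.ResidueField] MvPolynomial (Fin n) p.ResidueField :=
    MvPolynomial.aeval fun i => MvPolynomial.C (algebraMap A p.ResidueField (r i)) * MvPolynomial.X i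
  let τ : MvPolynomial (Fin n) p.ResidueField →ₐ[p.ResidueField] MvPolynomial (Fin n) p.ResidueField :=
    MvPolynomial.aeval fun i => MvPolynomial.C (algebraMap A p.ResidueField (r i))⁻¹ * MvPolynomial.X i
  have h1 : σ.comp τ = AlgHom.id _ _ := MvPolynomial.algHom_ext fun i => by
    simp only [σ, τ, AlgHom.comp_apply, MvPolynomial.aeval_X, map_mul, MvPolynomial.algHom_C, AlgHom.id_apply,
      MvPolynomial.algebraMap_eq, ← mul_assoc]
    rw [← map_mul, inv_mul_cancel₀ (hr0 i), map_one, one_mul]
  have h2 : τ.comp σ = AlgHom.id _ _ := MvPolynomial.algHom_ext fun i => by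
    simp only [σ, τ, AlgHom.comp_apply, MvPolynomial.aeval_X, map_mul, MvPolynomial.algHom_C, AlgHom.id_apply,
      MvPolynomial.algebraMap_eq, ← mul_assoc]
    rw [← map_mul, mul_inv_cancel₀ (hr0 i), map_one, one_mul]
  let F : MvPolynomial (Fin n) p.ResidueField →ₐ[p.ResidueField] p.ResidueField ⊗[A] C :=
    MvPolynomial.aeval fun i => (1 : p.ResidueField) ⊗ₜ[A] c i
  have hF : F = g.comp σ := MvPolynomial.algHom_ext fun i => by
    simp only [F, σ, MvPolynomial.aeval_X, AlgHom.comp_apply, map_mul]
    rw [← hc i, show g (MvPolynomial.C (algebraMap A p.ResidueField (r i))) =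
      algebraMap p.ResidueField _ (algebraMap A p.ResidueField (r i)) from g.commutes _,
      ← IsScalarTower.algebraMap_apply A p.ResidueField, Algebra.smul_def]
  have hσ : Function.Bijective σ := Function.bijective_iff_has_inverse.2
    ⟨τ, fun x => DFunLike.congr_fun h2 x, fun x => DFunLike.congr_fun h1 x⟩
  have hFfin : F.Finite := hF ▸ hfin.comp (AlgHom.Finite.of_surjective σ hσ.2)
  have hFinj : Function.Injective F := by rw [hF]; exact hinj.comp hσ.1
  letI := F.toRingHom.toAlgebra
  haveI : Module.Finite (MvPolynomial (Fin n) p.ResidueField) (p.ResidueField ⊗[A] C) := hFfin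
  obtain ⟨Q', -, hQ', hQ0⟩ := Ideal.exists_ideal_over_prime_of_isIntegral
    (⊥ : Ideal (MvPolynomial (Fin n) p.ResidueField)) (⊥ : Ideal (p.ResidueField ⊗[A] C))
    (fun x hx => by
      rw [Ideal.mem_comap, Ideal.mem_bot] at hx
      exact Ideal.mem_bot.2 (hFinj (hx.trans (map_zero F).symm)))
  haveI := hQ'
  let Q : Ideal C := Q'.comap (Algebra.TensorProduct.includeRight : C →ₐ[A] p.ResidueField ⊗[A] C)
  haveI : Q.IsPrime := Ideal.IsPrime.comap _
  letI : Algebra (MvPolynomial (Fin n) A) C := (MvPolynomial.aeval c : MvPolynomial (Fin n) A →ₐ[A] C).toRingHom.toAlgebra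
  haveI : IsScalarTower A (MvPolynomial (Fin n) A) C := IsScalarTower.of_algebraMap_eq fun a =>
    (MvPolynomial.aeval c : MvPolynomial (Fin n) A →ₐ[A] C).commutes a |>.symm
  have hcomm : (Algebra.TensorProduct.includeRight : C →ₐ[A] p.ResidueField ⊗[A] C).toRingHom.comp
      (algebraMap (MvPolynomial (Fin n) A) C) = F.toRingHom.comp (MvPolynomial.map (algebraMap A p.ResidueField)) := by
    refine MvPolynomial.ringHom_ext (fun a => ?_) fun i => ?_
    · show (1 : p.ResidueField) ⊗ₜ[A] MvPolynomial.aeval c (MvPolynomial.C a) = F (MvPolynomial.map _ (MvPolynomial.C a))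
      rw [MvPolynomial.aeval_C, MvPolynomial.map_C, ← Algebra.TensorProduct.tmul_one_eq_one_tmul]
      exact (F.commutes (algebraMap A p.ResidueField a)).symm
    · show (1 : p.ResidueField) ⊗ₜ[A] MvPolynomial.aeval c (MvPolynomial.X i) = F (MvPolynomial.map _ (MvPolynomial.X i))
      simp [F]
  have hq : Q.comap (algebraMap (MvPolynomial (Fin n) A) C) = p.map (algebraMap A (MvPolynomial (Fin n) A)) := by
    show (Q'.comap _).comap _ = _
    erw [Ideal.comap_comap, hcomm, ← Ideal.comap_comap, hQ0, ← RingHom.ker_eq_comap_bot, MvPolynomial.ker_map,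
      Ideal.ker_algebraMap_residueField]
    rfl
  have hp : Q.comap (algebraMap A C) = p := by
    rw [IsScalarTower.algebraMap_eq A (MvPolynomial (Fin n) A) C, ← Ideal.comap_comap, hq]
    refine le_antisymm (fun a ha => ?_) Ideal.le_comap_map
    rw [Ideal.mem_comap] at ha
    have := Ideal.mem_map_of_mem (MvPolynomial.eval (0 : Fin n → A)) ha
    rw [Ideal.map_map, show (MvPolynomial.eval (0 : Fin n → A)).comp (algebraMap A _) = RingHom.id A from
      RingHom.ext fun x => MvPolynomial.eval_C x, Ideal.map_id] at this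
    simpa using this
  exact ⟨n, c, Q, inferInstance, hp, flat_localization_of_generic p Q hp hq, hFfin⟩

/-- A finite polynomial map has finite dimensional slices, also on basic opens. -/
theorem finite_of_slice {A C κ k Ak : Type u} [CommRing A] [CommRing C] [Algebra A C] [Field κ] [Field k] [Algebra A κ]
    [Algebra A k] [Algebra κ k] [IsScalarTower A κ k] [CommRing Ak] [Algebra k Ak] {n : ℕ} (c : Fin n → C)
    (hfin : (MvPolynomial.aeval (fun i => (1 : κ) ⊗ₜ[A] c i) : MvPolynomial (Fin n) κ →ₐ[κ] κ ⊗[A] C).Finite)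
    (g : C) (φk : k ⊗[A] Localization.Away g →ₐ[k] Ak) (hφ : Function.Surjective φk) (t : Fin n → k)
    (ht : ∀ i, φk (1 ⊗ₜ algebraMap C (Localization.Away g) (c i)) = algebraMap k Ak (t i)) :
    Module.Finite k Ak := by
  classical
  letI : Algebra A Ak := ((algebraMap k Ak).comp (algebraMap A k)).toAlgebra
  letI : Algebra κ Ak := ((algebraMap k Ak).comp (algebraMap κ k)).toAlgebra
  haveI : IsScalarTower A k Ak := IsScalarTower.of_algebraMap_eq fun _ => rfl
  haveI : IsScalarTower κ k Ak := IsScalarTower.of_algebraMap_eq fun _ => rfl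
  haveI : IsScalarTower A κ Ak := IsScalarTower.of_algebraMap_eq fun a => by
    show algebraMap k Ak (algebraMap A k a) = algebraMap k Ak (algebraMap κ k (algebraMap A κ a))
    rw [← IsScalarTower.algebraMap_apply A κ k]
  let φC : k ⊗[A] C →ₐ[k] Ak :=
    φk.comp (Algebra.TensorProduct.map (AlgHom.id k k) (IsScalarTower.toAlgHom A C (Localization.Away g)))
  have hφC : ∀ a x, φC (a ⊗ₜ x) = φk (a ⊗ₜ algebraMap C (Localization.Away g) x) := fun a x => by
    simp [φC]
  let Φ : κ ⊗[A] C →ₐ[κ] Ak := Algebra.TensorProduct.lift (Algebra.ofId κ Ak)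
    ((φC.restrictScalars A).comp Algebra.TensorProduct.includeRight) fun _ _ => Commute.all _ _
  have hΦ : ∀ x : C, Φ (1 ⊗ₜ x) = φC (1 ⊗ₜ x) := fun x =>
    (Algebra.TensorProduct.lift_tmul _ _ _ _ _).trans (by rw [map_one, one_mul]; rfl)
  let F : MvPolynomial (Fin n) κ →ₐ[κ] κ ⊗[A] C := MvPolynomial.aeval fun i => (1 : κ) ⊗ₜ[A] c i
  have hΦF : Φ.comp F = (IsScalarTower.toAlgHom κ k Ak).comp (MvPolynomial.aeval t) :=
    MvPolynomial.algHom_ext fun i => by
      simp only [F, AlgHom.comp_apply, MvPolynomial.aeval_X, hΦ, hφC, ht, IsScalarTower.coe_toAlgHom']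
  letI := F.toRingHom.toAlgebra
  haveI : Module.Finite (MvPolynomial (Fin n) κ) (κ ⊗[A] C) := hfin
  obtain ⟨s, hs⟩ := (inferInstance : Module.Finite (MvPolynomial (Fin n) κ) (κ ⊗[A] C)).fg_top
  let M : Submodule k Ak := Submodule.span k (Φ '' s)
  have hM : ∀ x, Φ x ∈ M := fun x => by
    have hx : x ∈ Submodule.span (MvPolynomial (Fin n) κ) (s : Set (κ ⊗[A] C)) := hs ▸ trivial
    induction hx using Submodule.span_induction with
    | mem x hx => exact Submodule.subset_span ⟨x, hx, rfl⟩
    | zero => rw [map_zero]; exact M.zero_mem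
    | add x y _ _ hx hy => rw [map_add]; exact M.add_mem hx hy
    | smul a x _ hx =>
      rw [Algebra.smul_def, map_mul, show Φ (algebraMap _ _ a) = algebraMap k Ak (MvPolynomial.aeval t a) from
        DFunLike.congr_fun hΦF a, ← Algebra.smul_def]
      exact M.smul_mem _ hx
  let R' := φC.range
  have hR' : Subalgebra.toSubmodule R' ≤ M := by
    rintro _ ⟨z, rfl⟩
    induction z using TensorProduct.induction_on with
    | zero => rw [map_zero]; exact M.zero_mem
    | tmul a x =>
      show φC (a ⊗ₜ x) ∈ M
      rw [show (a ⊗ₜ[A] x : k ⊗[A] C) = a • ((1 : k) ⊗ₜ x) by rw [TensorProduct.smul_tmul', smul_eq_mul, mul_one],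
        map_smul, ← hΦ]
      exact M.smul_mem _ (hM _)
    | add x y hx hy => rw [map_add]; exact M.add_mem hx hy
  haveI : FiniteDimensional k M := Module.Finite.span_of_finite k (s.finite_toSet.image _)
  haveI : FiniteDimensional k R' := Submodule.finiteDimensional_of_le hR'
  let u : R' := ⟨φC (1 ⊗ₜ g), 1 ⊗ₜ g, rfl⟩
  have huu : IsUnit (φC (1 ⊗ₜ[A] g)) := by
    rw [hφC]
    exact ((IsLocalization.Away.algebraMap_isUnit g).map
      (Algebra.TensorProduct.includeRight : Localization.Away g →ₐ[A] k ⊗[A] Localization.Away g)).map φk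
  obtain ⟨v, hv⟩ := LinearMap.surjective_of_injective (f := LinearMap.mulLeft k u)
    (fun a b h => Subtype.ext (huu.mul_left_cancel (congrArg Subtype.val h))) 1
  have hv' : φC (1 ⊗ₜ g) * v.1 = 1 := congrArg Subtype.val hv
  have hall : ∀ z, φk z ∈ R' := fun z => by
    induction z using TensorProduct.induction_on with
    | zero => rw [map_zero]; exact R'.zero_mem
    | tmul a x =>
      obtain ⟨m, y, hy⟩ := IsLocalization.Away.surj g x
      have h1 : φk (a ⊗ₜ x) * φC (1 ⊗ₜ g) ^ m = φC (a ⊗ₜ y) := by
        rw [hφC, hφC, ← map_pow, ← map_mul, Algebra.TensorProduct.tmul_pow, one_pow,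
          Algebra.TensorProduct.tmul_mul_tmul, mul_one, hy]
      have h2 : φk (a ⊗ₜ x) = φC (a ⊗ₜ y) * v.1 ^ m := by
        rw [← h1, mul_assoc, ← mul_pow, hv', one_pow, mul_one]
      rw [h2]
      exact R'.mul_mem ⟨_, rfl⟩ (R'.pow_mem v.2 m)
    | add x y hx hy => rw [map_add]; exact R'.add_mem hx hy
  exact Module.Finite.of_surjective R'.val.toLinearMap fun y => by
    obtain ⟨z, rfl⟩ := hφ y
    exact ⟨⟨_, hall z⟩, rfl⟩

/-- A finite slice through a fibre of a flat finitely presented algebra. -/
theorem exists_slice {A C : Type u} [CommRing A] [CommRing C] [Algebra A C] [Algebra.FinitePresentation A C]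
    [Module.Flat A C] (Q₀ : Ideal C) [Q₀.IsPrime] :
    ∃ (g : C) (n : ℕ) (f : Fin n → Localization.Away g) (k : Type u) (_ : Field k) (_ : Algebra A k) (d : ℕ)
      (Ak : Type u) (_ : CommRing Ak) (_ : Algebra k Ak) (_ : Module.Basis (Fin (d + 1)) k Ak)
      (φk : k ⊗[A] Localization.Away g →ₐ[k] Ak) (t : Fin n → k),
      RingHom.ker (algebraMap A k) = Q₀.comap (algebraMap A C) ∧
      (MvPolynomial.aeval f : MvPolynomial (Fin n) A →ₐ[A] Localization.Away g).toRingHom.Flat ∧
      Function.Surjective φk ∧
      RingHom.ker φk = Ideal.span (Set.range fun i => (1 : k) ⊗ₜ[A] f i - t i ⊗ₜ[A] 1) := by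
  classical
  let p : Ideal A := Q₀.comap (algebraMap A C)
  letI : Algebra p.ResidueField Q₀.ResidueField :=
    (Ideal.ResidueField.mapₐ (R := A) p Q₀ (Algebra.ofId A C) rfl).toRingHom.toAlgebra
  haveI : IsScalarTower A p.ResidueField Q₀.ResidueField := IsScalarTower.of_algebraMap_eq fun a =>
    ((Ideal.ResidueField.mapₐ (R := A) p Q₀ (Algebra.ofId A C) rfl).commutes a).symm
  haveI : Nontrivial (p.ResidueField ⊗[A] C) := (Algebra.TensorProduct.lift
    (IsScalarTower.toAlgHom A p.ResidueField Q₀.ResidueField) (IsScalarTower.toAlgHom A C Q₀.ResidueField)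
    fun _ _ => Commute.all _ _).toRingHom.domain_nontrivial
  obtain ⟨n, c, Q, _, hQp, hfl, hfin⟩ := exists_generic (C := C) p
  letI : Algebra p.ResidueField Q.ResidueField :=
    (Ideal.ResidueField.mapₐ (R := A) p Q (Algebra.ofId A C) hQp.symm).toRingHom.toAlgebra
  haveI : IsScalarTower A p.ResidueField Q.ResidueField := IsScalarTower.of_algebraMap_eq fun a =>
    ((Ideal.ResidueField.mapₐ (R := A) p Q (Algebra.ofId A C) hQp.symm).commutes a).symm
  letI : Algebra (MvPolynomial (Fin n) A) C := (MvPolynomial.aeval c : MvPolynomial (Fin n) A →ₐ[A] C).toRingHom.toAlgebra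
  haveI : IsScalarTower A (MvPolynomial (Fin n) A) C := IsScalarTower.of_algebraMap_eq fun a =>
    (MvPolynomial.aeval c : MvPolynomial (Fin n) A →ₐ[A] C).commutes a |>.symm
  haveI : Algebra.FinitePresentation (MvPolynomial (Fin n) A) C :=
    Algebra.FinitePresentation.of_restrict_scalars_finitePresentation A _ _
  obtain ⟨g, hg, hgfl⟩ := exists_flat_away Q hfl
  let C' := Localization.Away g
  let f : Fin n → C' := fun i => algebraMap C C' (c i)
  have hf : (MvPolynomial.aeval f : MvPolynomial (Fin n) A →ₐ[A] C').toRingHom = algebraMap (MvPolynomial (Fin n) A) C' := by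
    rw [IsScalarTower.algebraMap_eq (MvPolynomial (Fin n) A) C C']
    refine MvPolynomial.ringHom_ext (fun a => ?_) fun i => ?_
    · show MvPolynomial.aeval f (MvPolynomial.C a) = algebraMap C C' (MvPolynomial.aeval c (MvPolynomial.C a))
      rw [MvPolynomial.aeval_C, MvPolynomial.aeval_C, ← IsScalarTower.algebraMap_apply]
    · show MvPolynomial.aeval f (MvPolynomial.X i) = algebraMap C C' (MvPolynomial.aeval c (MvPolynomial.X i))
      rw [MvPolynomial.aeval_X, MvPolynomial.aeval_X]
  let k := Q.ResidueField
  have hgu : IsUnit (algebraMap C k g) := isUnit_iff_ne_zero.2 fun h => hg (Ideal.algebraMap_residueField_eq_zero.1 h)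
  let ψ : C' →ₐ[A] k :=
    { toRingHom := IsLocalization.Away.lift g hgu
      commutes' := fun a => by
        show IsLocalization.Away.lift g hgu (algebraMap A C' a) = _
        rw [IsScalarTower.algebraMap_apply A C C', IsLocalization.Away.lift_eq, ← IsScalarTower.algebraMap_apply] }
  let t : Fin n → k := fun i => algebraMap C k (c i)
  let J : Ideal (k ⊗[A] C') := Ideal.span (Set.range fun i => (1 : k) ⊗ₜ[A] f i - t i ⊗ₜ[A] 1)
  have hJ : J ≠ ⊤ := fun h => by
    let ε : k ⊗[A] C' →ₐ[k] k := Algebra.TensorProduct.lift (AlgHom.id k k) ψ fun _ _ => Commute.all _ _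
    have h1 : J ≤ RingHom.ker ε := Ideal.span_le.2 fun _ ⟨i, hi⟩ => by
      subst hi
      rw [SetLike.mem_coe, RingHom.mem_ker, map_sub, Algebra.TensorProduct.lift_tmul, Algebra.TensorProduct.lift_tmul,
        map_one, map_one, one_mul, mul_one]
      exact sub_eq_zero.2 (IsLocalization.Away.lift_eq g hgu (c i))
    exact RingHom.ker_ne_top ε.toRingHom (top_le_iff.1 (h ▸ h1))
  let Ak := (k ⊗[A] C') ⧸ J
  haveI : Nontrivial Ak := Ideal.Quotient.nontrivial_iff.2 hJ
  let φk : k ⊗[A] C' →ₐ[k] Ak := Ideal.Quotient.mkₐ k J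
  haveI : Module.Finite k Ak := finite_of_slice (κ := p.ResidueField) (k := k) (Ak := Ak) c hfin g φk (Ideal.Quotient.mkₐ_surjective k J) t fun i =>
    ((Ideal.Quotient.eq (I := J)).2 (Ideal.subset_span ⟨i, rfl⟩)).trans (φk.commutes (t i))
  obtain ⟨d, hd⟩ := Nat.exists_eq_succ_of_ne_zero (Module.finrank_pos (R := k) (M := Ak)).ne'
  refine ⟨g, n, f, k, inferInstance, inferInstance, d, Ak, inferInstance, inferInstance,
    (Module.finBasis k Ak).reindex (finCongr hd), φk, t, ?_, ?_, Ideal.Quotient.mkₐ_surjective k J,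
    Ideal.Quotient.mkₐ_ker k J⟩
  · rw [IsScalarTower.algebraMap_eq A C k, ← RingHom.comap_ker, Ideal.ker_algebraMap_residueField, hQp]
  · rw [hf]
    exact RingHom.flat_algebraMap_iff.2 hgfl

end Groth.Agent.FCov14.Slice
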