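import Groth.Agent.FCov14.Atlas
import Groth.Agent.FCov14.Param
import Groth.Agent.FCov14.Slice
import Groth.Agent.FCov14.PushfScheme

/-! Every point of the source of a cover is the image of a smooth point among framed sections. -/

set_option autoImplicit false
set_option backward.isDefEq.respectTransparency false
set_option backward.isDefEq.respectTransparency.types false

universe u

open CategoryTheory CategoryTheory.Limits Opposite AlgebraicGeometry AlgSp
open Groth.Agent.AlgSpLib Groth.Agent.AlgStLib Groth.Agent.FCov14.Pushf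
open scoped TensorProduct

namespace Groth.Agent.FCov14

/-- A smooth prime gives a point of the smooth locus. -/
theorem mem_smoothLocus_SpecMap {A E : Type u} [CommRing A] [CommRing E] [Algebra A E]
    [Algebra.FinitePresentation A E] {X : Scheme.{u}} (ι₀ : Spec (CommRingCat.of A) ⟶ X) [IsOpenImmersion ι₀]
    (f : Spec (CommRingCat.of E) ⟶ X) [LocallyOfFinitePresentation f]
    (e : f = Spec.map (CommRingCat.ofHom (algebraMap A E)) ≫ ι₀) (q : Ideal E) [q.IsPrime]
    [Algebra.IsSmoothAt A q] : (⟨q, ‹q.IsPrime›⟩ : PrimeSpectrum E) ∈ f.smoothLocus := by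
  obtain ⟨r, hr, hsm⟩ := Algebra.IsSmoothAt.exists_notMem_smooth A q
  let j : Spec (CommRingCat.of (Localization.Away r)) ⟶ Spec (CommRingCat.of E) :=
    Spec.map (CommRingCat.ofHom (algebraMap E (Localization.Away r)))
  have : Smooth (Spec.map (CommRingCat.ofHom (algebraMap A (Localization.Away r)))) := by
    rw [HasRingHomProperty.Spec_iff (P := @Smooth)]
    exact RingHom.smooth_algebraMap.2 hsm
  have : Smooth (j ≫ f) := by
    rw [e, ← Category.assoc, ← Spec.map_comp, ← CommRingCat.ofHom_comp, ← IsScalarTower.algebraMap_eq]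
    infer_instance
  obtain ⟨y, hy⟩ : (⟨q, ‹q.IsPrime›⟩ : PrimeSpectrum E) ∈ Set.range (PrimeSpectrum.comap
      (algebraMap E (Localization.Away r))) := by
    rw [PrimeSpectrum.localization_away_comap_range (Localization.Away r) r]
    exact hr
  have h1 : y ∈ (j ≫ f).smoothLocus := by rw [Scheme.Hom.smoothLocus_eq_top]; trivial
  rw [← Scheme.Hom.preimage_smoothLocus_eq] at h1
  rw [← hy]
  exact h1

/-- A pullback stays one after composing with a monomorphism. -/
theorem isPullback_comp_mono {C : Type*} [Category C] {P X Y W Z : C} {p : P ⟶ X} {q : P ⟶ Y} {a : X ⟶ W}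
    {b : Y ⟶ W} (h : IsPullback p q a b) (i : W ⟶ Z) [Mono i] : IsPullback p q (a ≫ i) (b ≫ i) :=
  IsPullback.of_isLimit (PullbackCone.isLimitOfCompMono a b i _ h.isLimit)

namespace Chart

variable {S : Scheme.{u}} {𝒳 : BasedCategory.{u + 1, u + 2} (Over S)} {U : Over S}
  (hX : Stk.IsPrestack (J S) 𝒳) (f : FibCat.overCat U ⥤ᵇ 𝒳)

/-- A flat affine chart of the relation through a point of the cover. -/
theorem exists_affine_chart (hd : AlgSt.RepByAlgSp1 (FibCat.diag (FibCat.toSelf 𝒳)))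
    (hf : AlgSt.RepByAlgSpWith CoverP f) (u₀ : U.left) :
    ∃ (A C : Type u) (_ : CommRing A) (_ : CommRing C) (_ : Algebra A C) (ι₀ : Spec (CommRingCat.of A) ⟶ U.left)
      (_ : IsOpenImmersion ι₀) (Co : Over S) (c : Co ⟶ U) (jC : Spec (CommRingCat.of C) ⟶ Co.left) (_ : IsIso jC)
      (h : (yon S).obj Co ⟶ isomP hX f f) (Q₀ : Ideal C) (_ : Q₀.IsPrime),
      Algebra.FinitePresentation A C ∧ Module.Flat A C ∧ RepWith @Etale h ∧ h ≫ isomP₂ hX f f = (yon S).map c ∧
        jC ≫ c.left = Spec.map (CommRingCat.ofHom (algebraMap A C)) ≫ ι₀ ∧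
        ι₀ (PrimeSpectrum.comap (algebraMap A C) ⟨Q₀, ‹Q₀.IsPrime›⟩) = u₀ := by
  have hR : IsAlgSpace (isomP hX f f) := isAlgSpace_isomP hX hd
  obtain ⟨R₀, r, hr, hrs⟩ := hR.atlas
  obtain ⟨r₂, h₂⟩ := (yon S).map_surjective (r ≫ isomP₂ hX f f)
  have hP := (property_isomP₁ hX (y₁ := f) stableBC_coverP hf).2
  have hEf : (@Etale : MorphismProperty Scheme.{u}) ≤ @Flat := fun _ _ e (_ : Etale e) => inferInstanceAs (Flat e)
  have hEp : (@Etale : MorphismProperty Scheme.{u}) ≤ @LocallyOfFinitePresentation :=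
    fun _ _ e (_ : Etale e) => inferInstanceAs (LocallyOfFinitePresentation e)
  have : Flat r₂.left := locP_yon_map (by
    rw [h₂, ← isomInv_fst hX]
    exact locP_comp (IsAlgSpace.yon_obj R₀) hR (IsAlgSpace.yon_obj U) (locP_mono hEf (locP_of_repWith hr))
      (locP_comp hR hR (IsAlgSpace.yon_obj U) (locP_mono hEf (locP_of_repWith (repWith_of_isIso @Etale
        (isomInvIso hX f f).hom))) hP.1.2))
  have : LocallyOfFinitePresentation r₂.left := locP_yon_map (by
    rw [h₂, ← isomInv_fst hX]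
    exact locP_comp (IsAlgSpace.yon_obj R₀) hR (IsAlgSpace.yon_obj U) (locP_mono hEp (locP_of_repWith hr))
      (locP_comp hR hR (IsAlgSpace.yon_obj U) (locP_mono hEp (locP_of_repWith (repWith_of_isIso @Etale
        (isomInvIso hX f f).hom))) hP.2))
  obtain ⟨z, hz⟩ : ∃ z : R₀.left, r₂.left z = u₀ := by
    obtain ⟨m, hm⟩ := hP.1.1 (Points.schemeHomeo U u₀)
    obtain ⟨m', rfl⟩ : ∃ m', Points.map (isomInv hX f f) m' = m := ⟨Points.map (isomInvIso hX f f).inv m, by
      rw [← Points.map_comp]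
      show Points.map ((isomInvIso hX f f).inv ≫ (isomInvIso hX f f).hom) m = m
      rw [Iso.inv_hom_id, Points.map_id]⟩
    obtain ⟨n, rfl⟩ := surjective_map_of_repWith hrs m'
    obtain ⟨z, rfl⟩ := (Points.schemeHomeo R₀).surjective n
    refine ⟨z, (Points.schemeHomeo U).injective ?_⟩
    rw [← hm, ← Points.map_comp, ← Points.map_comp, isomInv_fst, ← h₂, Points.map_yon_map_eq,
      Function.comp_apply, Function.comp_apply, Homeomorph.symm_apply_apply]
  obtain ⟨_, ⟨U₀, hU₀, rfl⟩, hu₀, -⟩ :=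
    U.left.isBasis_affineOpens.exists_subset_of_mem_open (Set.mem_univ u₀) isOpen_univ
  obtain ⟨_, ⟨V, hV, rfl⟩, hzV, hVU⟩ :=
    R₀.left.isBasis_affineOpens.exists_subset_of_mem_open (show z ∈ r₂.left ⁻¹ᵁ U₀ by
      show r₂.left z ∈ U₀; rw [hz]; exact hu₀) (r₂.left ⁻¹ᵁ U₀).2
  let ι₀ : Spec (CommRingCat.of Γ(U.left, U₀)) ⟶ U.left := hU₀.fromSpec
  let jV : Spec (CommRingCat.of Γ(R₀.left, V)) ⟶ R₀.left := hV.fromSpec
  have hsub : Set.range (jV ≫ r₂.left) ⊆ Set.range ι₀ := by
    rintro _ ⟨y, rfl⟩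
    have hy : jV y ∈ V := by rw [← SetLike.mem_coe, ← hV.range_fromSpec]; exact ⟨y, rfl⟩
    show _ ∈ Set.range hU₀.fromSpec
    rw [hU₀.range_fromSpec]
    exact hVU hy
  obtain ⟨φ, hφ⟩ := Spec.map_surjective (IsOpenImmersion.lift ι₀ (jV ≫ r₂.left) hsub)
  letI : Algebra Γ(U.left, U₀) Γ(R₀.left, V) := φ.hom.toAlgebra
  have hfac : jV ≫ r₂.left = Spec.map (CommRingCat.ofHom (algebraMap Γ(U.left, U₀) Γ(R₀.left, V))) ≫ ι₀ := by
    refine (IsOpenImmersion.lift_fac ι₀ (jV ≫ r₂.left) hsub).symm.trans ?_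
    rw [← hφ]
    rfl
  let Co : Over S := Over.mk (jV ≫ R₀.hom)
  let jo : Co ⟶ R₀ := Over.homMk jV rfl
  let c : Co ⟶ U := jo ≫ r₂
  obtain ⟨Q₀, hQ₀⟩ : z ∈ Set.range jV := by show z ∈ Set.range hV.fromSpec; rw [hV.range_fromSpec]; exact hzV
  refine ⟨Γ(U.left, U₀), Γ(R₀.left, V), inferInstance, inferInstance, inferInstance, ι₀, inferInstance, Co, c,
    𝟙 _, inferInstance, (yon S).map jo ≫ r, Q₀.asIdeal, Q₀.isPrime, ?_, ?_,
    repWith_comp ((repWith_yon_map_iff _ _).2 (inferInstanceAs (Etale jV))) hr, ?_, ?_, ?_⟩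
  · refine RingHom.finitePresentation_algebraMap.1 ((HasRingHomProperty.Spec_iff (P := @LocallyOfFinitePresentation)
      (φ := CommRingCat.ofHom (algebraMap Γ(U.left, U₀) Γ(R₀.left, V)))).1 ?_)
    exact IsEtLocal.cancel_right _ ι₀ (P := @LocallyOfFinitePresentation) (by rw [← hfac]; infer_instance)
  · refine RingHom.flat_algebraMap_iff.1 ((HasRingHomProperty.Spec_iff (P := @Flat)
      (φ := CommRingCat.ofHom (algebraMap Γ(U.left, U₀) Γ(R₀.left, V)))).1 ?_)
    exact IsEtLocal.cancel_right _ ι₀ (P := @Flat) (by rw [← hfac]; infer_instance)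
  · rw [Category.assoc, ← h₂, ← Functor.map_comp]
  · exact (Category.id_comp _).trans hfac
  · rw [← hz, ← hQ₀, ← Scheme.Hom.comp_apply, hfac]
    rfl

/-- Every point of the source is the image of a smooth point among framed sections. -/
theorem hasSlices (hd : AlgSt.RepByAlgSp1 (FibCat.diag (FibCat.toSelf 𝒳)))
    (hf : AlgSt.RepByAlgSpWith CoverP f) :
    HasSlices hX f (Param.pz S) (Param.prB U) (Param.prU U) := by
  intro u₀
  obtain ⟨A, C₀, _, _, _, ι₀, _, Co₀, c₀, jC₀, _, h₀, Q₀, _, _, _, hh₀, hc₀, hj₀, hu₀⟩ :=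
    exists_affine_chart hX f hd hf u₀
  obtain ⟨g, n, fs, k, _, _, d, Ak, _, _, ek, φk, t, hkp, hflat, hφks, hker⟩ := Slice.exists_slice (A := A) Q₀
  let C := Localization.Away g
  letI : Algebra Zu.{u} A := (zHom A).toAlgebra
  haveI : Algebra.FinitePresentation C₀ C := IsLocalization.Away.finitePresentation g
  haveI : Algebra.FinitePresentation A C := Algebra.FinitePresentation.trans A C₀ C
  haveI : Module.Flat A C := Module.Flat.trans A C₀ C
  let jg : Spec (CommRingCat.of C) ⟶ Co₀.left := Spec.map (CommRingCat.ofHom (algebraMap C₀ C)) ≫ jC₀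
  have : IsOpenImmersion (Spec.map (CommRingCat.ofHom (algebraMap C₀ C))) :=
    IsOpenImmersion.of_isLocalization g
  let Co : Over S := Over.mk (jg ≫ Co₀.hom)
  let jo : Co ⟶ Co₀ := Over.homMk jg rfl
  let c : Co ⟶ U := jo ≫ c₀
  have hc : c.left = Spec.map (CommRingCat.ofHom (algebraMap A C)) ≫ ι₀ := by
    show jg ≫ c₀.left = _
    rw [Category.assoc, hj₀, ← Category.assoc, ← Spec.map_comp, ← CommRingCat.ofHom_comp, ← IsScalarTower.algebraMap_eq]
  let h : (yon S).obj Co ⟶ isomP hX f f := (yon S).map jo ≫ h₀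
  have hh : RepWith @Etale h := repWith_comp ((repWith_yon_map_iff _ _).2 (inferInstanceAs (Etale jg))) hh₀
  have hhc : h ≫ isomP₂ hX f f = (yon S).map c := by rw [Category.assoc, hc₀, ← Functor.map_comp]
  -- the piece
  obtain ⟨ζ, hζ⟩ := Param.exists_sqZ ι₀ d
  have hιV := Param.isOpenImmersion_ιV ι₀ d
  have : IsOpenImmersion ζ := MorphismProperty.of_isPullback hζ.flip hιV
  let pB := Param.prB U
  let Cz := Framed.lU A (d + 1) ⊗[A] C
  let Y : Over S := Over.mk ((Spec.map (CommRingCat.ofHom (algebraMap (Framed.lU A (d + 1)) Cz)) ≫ ζ) ≫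
    (Z' (Param.pz S) pB).hom)
  let qz : Y ⟶ Z' (Param.pz S) pB :=
    Over.homMk (Spec.map (CommRingCat.ofHom (algebraMap (Framed.lU A (d + 1)) Cz)) ≫ ζ) rfl
  let P : PieceData (pz' (Param.pz S) pB) qz := PieceData.mk (k := Framed.kU A (d + 1)) (L := Framed.lU A (d + 1))
    (C := Cz) (d + 1) (Framed.eA A (d + 1)) (openV := hιV) (Param.ιV ι₀ d) ζ hζ (𝟙 _) (Category.id_comp _)
  let qU : Z' (Param.pz S) pB ⟶ U := pz' (Param.pz S) pB ≫ Param.prU U
  have hqU : ζ ≫ qU.left = Spec.map (CommRingCat.ofHom (algebraMap A (Framed.lU A (d + 1)))) ≫ ι₀ := by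
    rw [Over.comp_left, ← Category.assoc, hζ.w, Category.assoc, Param.ιV_prU, ← Category.assoc, ← Spec.map_comp,
      ← CommRingCat.ofHom_comp, ← IsScalarTower.algebraMap_eq]
  have sq2 := IsPullback.of_hasPullback c qU
  have hpush : CategoryTheory.IsPushout (CommRingCat.ofHom (algebraMap A (Framed.lU A (d + 1))))
      (CommRingCat.ofHom (algebraMap A C)) (CommRingCat.ofHom (algebraMap (Framed.lU A (d + 1)) Cz))
      (CommRingCat.ofHom (Algebra.TensorProduct.includeRight : C →ₐ[A] Cz).toRingHom) :=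
    CommRingCat.isPushout_tensorProduct A (Framed.lU A (d + 1)) C
  have h1 : IsPullback (Spec.map (CommRingCat.ofHom (Algebra.TensorProduct.includeRight : C →ₐ[A] Cz).toRingHom))
      (Spec.map (CommRingCat.ofHom (algebraMap (Framed.lU A (d + 1)) Cz))) c.left (ζ ≫ qU.left) := by
    rw [hc, hqU]
    exact isPullback_comp_mono (isPullback_SpecMap_of_isPushout _ _ _ _ hpush).flip ι₀
  have sq2L := sq2.map (Over.forget S)
  let m : Spec (CommRingCat.of Cz) ⟶ (pullback c qU).left := sq2L.lift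
    (Spec.map (CommRingCat.ofHom (Algebra.TensorProduct.includeRight : C →ₐ[A] Cz).toRingHom))
    (Spec.map (CommRingCat.ofHom (algebraMap (Framed.lU A (d + 1)) Cz)) ≫ ζ)
    (by rw [Category.assoc]; exact h1.w)
  have hm₂ : m ≫ (pullback.snd c qU).left = Spec.map (CommRingCat.ofHom (algebraMap (Framed.lU A (d + 1)) Cz)) ≫ ζ :=
    sq2L.lift_snd _ _ _
  have h1' : IsPullback (m ≫ (pullback.fst c qU).left)
      (Spec.map (CommRingCat.ofHom (algebraMap (Framed.lU A (d + 1)) Cz))) c.left (ζ ≫ qU.left) := by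
    rw [show m ≫ (pullback.fst c qU).left = _ from sq2L.lift_fst _ _ _]
    exact h1
  have : IsOpenImmersion m :=
    MorphismProperty.of_isPullback (IsPullback.of_right h1' hm₂ sq2L).flip ‹IsOpenImmersion ζ›
  let mo : Y ⟶ pullback c qU := Over.homMk m (by
    rw [← Over.w (pullback.snd c qU), ← Category.assoc, hm₂]
    rfl)
  have hmo : mo ≫ pullback.snd c qU = qz := Over.OverMorphism.ext hm₂
  let l : (yon S).obj (pullback c qU) ⟶ F' hX f (Param.pz S) pB (Param.prU U) :=
    pullback.lift ((yon S).map (pullback.fst c qU) ≫ h) ((yon S).map (pullback.snd c qU))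
      (by rw [Category.assoc, hhc, ← Functor.map_comp, ← Functor.map_comp, sq2.w])
  have sql : IsPullback ((yon S).map (pullback.fst c qU)) l h (pullback.fst _ _) := by
    refine IsPullback.of_bot ?_ (pullback.lift_fst _ _ _).symm (IsPullback.of_hasPullback _ _)
    rw [hhc, pullback.lift_snd]
    exact sq2.map (yon S)
  let hz : (yon S).obj Y ⟶ F' hX f (Param.pz S) pB (Param.prU U) := (yon S).map mo ≫ l
  have hze : RepWith @Etale hz :=
    repWith_comp ((repWith_yon_map_iff _ _).2 (inferInstanceAs (Etale m))) (repWith_of_isPullback sql hh)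
  have hzπ : hz ≫ π' hX f (Param.pz S) pB (Param.prU U) = (yon S).map qz := by
    rw [Category.assoc, pullback.lift_snd, ← Functor.map_comp, hmo]
  obtain ⟨_, _, _⟩ := isFinite_base (Param.pz S) pB
  have : IsSeparated Y.hom := by
    have : IsSeparated (Y.hom ≫ terminal.from S) := by
      rw [show Y.hom ≫ terminal.from S = terminal.from Y.left from terminal.hom_ext _ _]
      have : IsAffine Y.left := inferInstanceAs (IsAffine (Spec (CommRingCat.of Cz)))
      infer_instance
    exact IsSeparated.of_comp Y.hom (terminal.from S)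
  have hMsp := isAlgSpace_M' hX f (Param.pz S) pB (Param.prU U) hd
  let e : (yon S).obj P.obj ⟶ M' hX f (Param.pz S) pB (Param.prU U) := P.map ≫ Pushf.map hz hzπ
  have he : RepWith @Etale e := repWith_etale_comp hMsp (repBySpWith_map (pz' (Param.pz S) pB) hzπ hze).1
    (repWith_mono (fun _ _ m (_ : IsOpenImmersion m) => inferInstanceAs (Etale m)) _ P.repWith_map)
  let q : P.obj ⟶ U := P.b ≫ Param.prU U
  have heq : e ≫ projU hX f (Param.pz S) pB (Param.prU U) = (yon S).map q := by
    show (P.map ≫ Pushf.map hz hzπ) ≫ proj _ _ ≫ (yon S).map (Param.prU U) = _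
    rw [Category.assoc, ← Category.assoc (Pushf.map hz hzπ), map_proj, ← Category.assoc, P.map_proj,
      ← Functor.map_comp]
  -- the point
  have hfpE : Algebra.FinitePresentation A (Framed.EU A (d + 1) C) := by
    have := Module.Finite.of_basis (Framed.eA A (d + 1))
    have := Module.Free.of_basis (Framed.eA A (d + 1))
    have := Module.finitePresentation_of_projective (Framed.kU A (d + 1)) (Framed.lU A (d + 1))
    have : Algebra.FinitePresentation (Framed.kU A (d + 1)) (Framed.lU A (d + 1)) :=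
      Algebra.FinitePresentation.of_finitePresentation _ _
    have : Algebra.FinitePresentation (Framed.kU A (d + 1)) Cz :=
      Algebra.FinitePresentation.trans _ (Framed.lU A (d + 1)) _
    have := WeilAff.finitePresentationS (Framed.eA A (d + 1)) Cz
    exact Algebra.FinitePresentation.trans A (Framed.kU A (d + 1)) _
  have hql : q.left = Spec.map (CommRingCat.ofHom (algebraMap A (Framed.EU A (d + 1) C))) ≫ ι₀ := by
    show (WeilAff.εS P.e P.C ≫ P.ιV) ≫ (Param.prU U).left = _
    rw [Category.assoc]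
    refine (congrArg (WeilAff.εS P.e P.C ≫ ·) (Param.ιV_prU ι₀ d)).trans ?_
    rw [← Category.assoc]
    refine congrArg (· ≫ ι₀) ?_
    exact (Spec.map_comp _ _).symm
  have : LocallyOfFinitePresentation q.left := by
    rw [hql]
    have : LocallyOfFinitePresentation (Spec.map (CommRingCat.ofHom (algebraMap A (Framed.EU A (d + 1) C)))) := by
      rw [HasRingHomProperty.Spec_iff (P := @LocallyOfFinitePresentation)]
      exact RingHom.finitePresentation_algebraMap.2 hfpE
    infer_instance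
  let φ' : C →+* Ak := φk.toRingHom.comp (Algebra.TensorProduct.includeRight : C →ₐ[A] k ⊗[A] C).toRingHom
  obtain ⟨g₀, θ, hθ, hθe, hθc⟩ := Framed.framedExists A (d + 1) C k Ak ek φ' fun a => by
    show φk (1 ⊗ₜ algebraMap A C a) = _
    rw [← Algebra.TensorProduct.tmul_one_eq_one_tmul]
    exact φk.commutes (algebraMap A k a)
  letI : Algebra (Framed.EU A (d + 1) C) k := g₀.toRingHom.toAlgebra
  haveI : IsScalarTower A (Framed.EU A (d + 1) C) k := IsScalarTower.of_algebraMap_eq fun a => (g₀.commutes a).symm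
  let η : Ideal (Framed.EU A (d + 1) C) := RingHom.ker (algebraMap (Framed.EU A (d + 1) C) k)
  haveI : η.IsPrime := RingHom.ker_isPrime _
  haveI := Framed.finiteType_EU A (d + 1) C
  haveI : Algebra.IsSmoothAt A η := isSmoothAt_of_slice hflat (Framed.eE A (d + 1) C) (Framed.φE A (d + 1) C)
    (Framed.φE_algebraMap A (d + 1) C) (Framed.framedExists A (d + 1) C) (Framed.framedUnique A (d + 1) C) η rfl ek
    d.succ_pos θ hθ hθe φk (fun x => (hθc x).symm) hφks t hker
  refine ⟨P.obj, e, q, inferInstance, (⟨η, inferInstance⟩ : PrimeSpectrum (Framed.EU A (d + 1) C)), he, heq, ?_,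
    mem_smoothLocus_SpecMap ι₀ q.left hql η⟩
  rw [hql, ← hu₀]
  show ι₀ (PrimeSpectrum.comap (algebraMap A (Framed.EU A (d + 1) C)) _) = _
  refine congrArg _ (PrimeSpectrum.ext ?_)
  show η.comap (algebraMap A (Framed.EU A (d + 1) C)) = Q₀.comap (algebraMap A C₀)
  rw [RingHom.comap_ker, ← IsScalarTower.algebraMap_eq]
  exact hkp

end Chart

end Groth.Agent.FCov14
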