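import Groth.Agent.FCov14.Pushf
import Mathlib.RingTheory.AdjoinRoot
import Mathlib.RingTheory.Smooth.StandardSmooth
import Mathlib.AlgebraicGeometry.Morphisms.Smooth
import Mathlib.AlgebraicGeometry.Morphisms.Finite
import Mathlib.AlgebraicGeometry.AffineSpace

/-! The parameter space of monic polynomials of given degree and its universal finite free cover. -/

set_option autoImplicit false
set_option backward.isDefEq.respectTransparency false
set_option backward.isDefEq.respectTransparency.types false

universe u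

open CategoryTheory CategoryTheory.Limits AlgebraicGeometry

namespace Groth.Agent.FCov14.PolyParam

open Groth.Agent.FCov14.Pushf

variable (d : ℕ)

/-- The ring of coefficients. -/
abbrev PR : Type u := MvPolynomial (ULift.{u} (Fin d)) (ULift.{u} ℤ)

/-- The universal monic polynomial. -/
noncomputable def univ : Polynomial (PR.{u} d) :=
  Polynomial.X ^ d + ∑ i : Fin d, Polynomial.C (MvPolynomial.X ⟨i⟩) * Polynomial.X ^ (i : ℕ)

theorem monic_univ : (univ.{u} d).Monic :=
  Polynomial.monic_X_pow_add ((Polynomial.degree_sum_fin_lt _))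

theorem natDegree_univ : (univ.{u} d).natDegree = d := by
  rw [univ, Polynomial.natDegree_eq_of_degree_eq_some]
  rw [Polynomial.degree_add_eq_left_of_degree_lt]
  · exact Polynomial.degree_X_pow d
  · rw [Polynomial.degree_X_pow]
    exact Polynomial.degree_sum_fin_lt _

/-- The universal algebra. -/
abbrev LR : Type u := AdjoinRoot (univ.{u} d)

/-- The structure map of the universal algebra. -/
noncomputable abbrev qR : Spec (CommRingCat.of (LR.{u} d)) ⟶ Spec (CommRingCat.of (PR.{u} d)) :=
  Spec.map (CommRingCat.ofHom (AdjoinRoot.of (univ.{u} d)))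

theorem property_qR (hd : 0 < d) :
    IsFinite (qR.{u} d) ∧ Flat (qR.{u} d) ∧ LocallyOfFinitePresentation (qR.{u} d) ∧ Surjective (qR.{u} d) := by
  haveI : Module.Finite (PR.{u} d) (LR.{u} d) := (monic_univ d).finite_adjoinRoot
  haveI : Module.Free (PR.{u} d) (LR.{u} d) := (monic_univ d).free_adjoinRoot
  refine ⟨?_, ?_, ?_, ?_⟩
  · rw [IsFinite.SpecMap_iff]
    exact RingHom.finite_algebraMap.2 inferInstance
  · rw [HasRingHomProperty.Spec_iff (P := @Flat)]
    exact RingHom.flat_algebraMap_iff.2 inferInstance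
  · rw [HasRingHomProperty.Spec_iff (P := @LocallyOfFinitePresentation)]
    exact RingHom.finitePresentation_algebraMap.2
      (Algebra.FinitePresentation.quotient (Submodule.fg_span_singleton (univ.{u} d)))
  · let pb := AdjoinRoot.powerBasis' (monic_univ.{u} d)
    haveI : Nontrivial (LR.{u} d) :=
      nontrivial_of_ne (pb.basis ⟨0, by rw [AdjoinRoot.powerBasis'_dim, natDegree_univ]; exact hd⟩) 0
        (pb.basis.ne_zero _)
    haveI : Module.FaithfullyFlat (PR.{u} d) (LR.{u} d) := inferInstance
    exact ⟨PrimeSpectrum.comap_surjective_of_faithfullyFlat⟩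

variable (S : Scheme.{u})

/-- The parameter space. -/
noncomputable def B : Over S :=
  Over.mk (pullback.fst (terminal.from S) (terminal.from (Spec (CommRingCat.of (PR.{u} d)))))

/-- The map to the absolute parameter space. -/
noncomputable def bu : (B d S).left ⟶ Spec (CommRingCat.of (PR.{u} d)) := pullback.snd _ _

/-- The universal finite scheme. -/
noncomputable def Z : Over S :=
  Over.mk (pullback.fst (bu d S) (qR d) ≫ (B d S).hom)

/-- The cover. -/
noncomputable def pz : Z d S ⟶ B d S := Over.homMk (pullback.fst (bu d S) (qR d)) rfl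

/-- The map to the absolute universal finite scheme. -/
noncomputable def zu : (Z d S).left ⟶ Spec (CommRingCat.of (LR.{u} d)) := pullback.snd _ _

theorem isPullback_pz : IsPullback (zu d S) (pz d S).left (qR d) (bu d S) :=
  (IsPullback.of_hasPullback (bu d S) (qR d)).flip

theorem property_pz (hd : 0 < d) : IsFinite (pz d S).left ∧ Flat (pz d S).left ∧
    LocallyOfFinitePresentation (pz d S).left ∧ Surjective (pz d S).left :=
  have h := property_qR.{u} d hd
  ⟨MorphismProperty.of_isPullback (isPullback_pz d S) h.1, MorphismProperty.of_isPullback (isPullback_pz d S) h.2.1,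
    MorphismProperty.of_isPullback (isPullback_pz d S) h.2.2.1,
    MorphismProperty.of_isPullback (isPullback_pz d S) h.2.2.2⟩

theorem smooth_hom : Smooth (B d S).hom := by
  have h : Smooth (terminal.from (Spec (CommRingCat.of (PR.{u} d)))) := by
    have : IsIso (terminal.from (Spec (CommRingCat.of (ULift.{u} ℤ)))) :=
      isIso_of_isTerminal specULiftZIsTerminal terminalIsTerminal _
    rw [show terminal.from (Spec (CommRingCat.of (PR.{u} d))) =
      Spec.map (CommRingCat.ofHom (algebraMap (ULift.{u} ℤ) (PR.{u} d))) ≫ terminal.from _ from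
      terminal.hom_ext _ _]
    have : Smooth (Spec.map (CommRingCat.ofHom (algebraMap (ULift.{u} ℤ) (PR.{u} d)))) := by
      rw [HasRingHomProperty.Spec_iff (P := @Smooth)]
      exact RingHom.smooth_algebraMap.2 (show Algebra.Smooth (ULift.{u} ℤ) (PR.{u} d) from ⟨inferInstance, inferInstance⟩)
    infer_instance
  exact MorphismProperty.pullback_fst _ _ h

variable {k : Type u} [CommRing k] (p : Polynomial k) (hp : p.Monic) (hd : p.natDegree = d)

/-- The coefficient map of a polynomial. -/
noncomputable def coeffs : PR.{u} d →+* k :=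
  MvPolynomial.eval₂Hom ((Int.castRingHom k).comp ULift.ringEquiv.toRingHom) fun i => p.coeff i.down

include hp hd in
theorem map_univ : (univ.{u} d).map (coeffs d p) = p := by
  conv_rhs => rw [hp.as_sum, hd]
  simp [univ, coeffs, Polynomial.map_sum, Finset.sum_range]

variable {S} (s : Spec (CommRingCat.of k) ⟶ S)

include hp hd in
/-- A monic polynomial gives a point of the parameter space whose cover is its root algebra. -/
theorem exists_point :
    ∃ (b : Over.mk s ⟶ B d S)
      (ζ : Over.mk (Spec.map (CommRingCat.ofHom (AdjoinRoot.of p)) ≫ s) ⟶ Z d S),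
      IsPullback
        (Over.homMk (Spec.map (CommRingCat.ofHom (AdjoinRoot.of p))) rfl :
          Over.mk (Spec.map (CommRingCat.ofHom (AdjoinRoot.of p)) ≫ s) ⟶ Over.mk s) ζ b (pz d S) := by
  have hm := map_univ d p hp hd
  let θ : LR.{u} d →+* AdjoinRoot p := AdjoinRoot.lift ((AdjoinRoot.of p).comp (coeffs d p)) (AdjoinRoot.root p) (by
    rw [← Polynomial.eval₂_map, hm]; exact AdjoinRoot.eval₂_root p)
  have hθ : CommRingCat.ofHom (coeffs d p) ≫ CommRingCat.ofHom (AdjoinRoot.of p) =
      CommRingCat.ofHom (AdjoinRoot.of (univ.{u} d)) ≫ CommRingCat.ofHom θ := by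
    refine CommRingCat.hom_ext (RingHom.ext fun x => ?_)
    show _ = θ (AdjoinRoot.of _ x)
    simp [θ]
  have po : IsPushout (CommRingCat.ofHom (coeffs d p)) (CommRingCat.ofHom (AdjoinRoot.of (univ.{u} d)))
      (CommRingCat.ofHom (AdjoinRoot.of p)) (CommRingCat.ofHom θ) := by
    have hc : ∀ c : PushoutCocone (CommRingCat.ofHom (coeffs d p)) (CommRingCat.ofHom (AdjoinRoot.of (univ.{u} d))),
        p.eval₂ c.inl.hom (c.inr.hom (AdjoinRoot.root _)) = 0 := fun c => by
      have h0 := congrArg c.inr.hom (AdjoinRoot.eval₂_root (univ.{u} d))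
      rw [Polynomial.hom_eval₂, map_zero] at h0
      have e : c.inr.hom.comp (AdjoinRoot.of (univ.{u} d)) = c.inl.hom.comp (coeffs d p) :=
        congrArg CommRingCat.Hom.hom c.condition.symm
      rw [e, ← Polynomial.eval₂_map, hm] at h0
      exact h0
    refine ⟨⟨hθ⟩, ⟨PushoutCocone.IsColimit.mk hθ (fun c => CommRingCat.ofHom (AdjoinRoot.lift c.inl.hom
      (c.inr.hom (AdjoinRoot.root _)) (hc c))) (fun c => ?_) (fun c => ?_) (fun c m h₁ h₂ => ?_)⟩⟩
    · exact CommRingCat.hom_ext (AdjoinRoot.lift_comp_of (hc c))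
    · apply CommRingCat.hom_ext
      refine AdjoinRoot.ringHom_ext ?_ ?_
      · refine RingHom.ext fun x => ?_
        show AdjoinRoot.lift _ _ (hc c) (θ (AdjoinRoot.of _ x)) = c.inr.hom (AdjoinRoot.of _ x)
        rw [AdjoinRoot.lift_of, RingHom.comp_apply, AdjoinRoot.lift_of]
        exact DFunLike.congr_fun (congrArg CommRingCat.Hom.hom c.condition) x
      · show AdjoinRoot.lift _ _ (hc c) (θ (AdjoinRoot.root _)) = _
        rw [AdjoinRoot.lift_root, AdjoinRoot.lift_root]
    · apply CommRingCat.hom_ext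
      refine AdjoinRoot.ringHom_ext ?_ ?_
      · refine RingHom.ext fun x => ?_
        show m.hom (AdjoinRoot.of _ x) = AdjoinRoot.lift _ _ (hc c) (AdjoinRoot.of _ x)
        rw [AdjoinRoot.lift_of]
        exact DFunLike.congr_fun (congrArg CommRingCat.Hom.hom h₁) x
      · show m.hom (AdjoinRoot.root _) = AdjoinRoot.lift _ _ (hc c) (AdjoinRoot.root _)
        rw [AdjoinRoot.lift_root]
        refine Eq.trans ?_ (DFunLike.congr_fun (congrArg CommRingCat.Hom.hom h₂) (AdjoinRoot.root _))
        show _ = m.hom (θ (AdjoinRoot.root _))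
        rw [AdjoinRoot.lift_root]
  let b₀ : Spec (CommRingCat.of k) ⟶ (B d S).left :=
    pullback.lift s (Spec.map (CommRingCat.ofHom (coeffs d p))) (terminal.hom_ext _ _)
  have hb₀ : b₀ ≫ bu d S = Spec.map (CommRingCat.ofHom (coeffs d p)) := pullback.lift_snd _ _ _
  have hb₁ : b₀ ≫ (B d S).hom = s := pullback.lift_fst _ _ _
  let ζ₀ : Spec (CommRingCat.of (AdjoinRoot p)) ⟶ (Z d S).left :=
    (isPullback_pz d S).lift (Spec.map (CommRingCat.ofHom θ))
      (Spec.map (CommRingCat.ofHom (AdjoinRoot.of p)) ≫ b₀) (by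
        rw [Category.assoc, hb₀, ← Spec.map_comp, ← Spec.map_comp, hθ])
  have hζ : ζ₀ ≫ (pz d S).left = Spec.map (CommRingCat.ofHom (AdjoinRoot.of p)) ≫ b₀ :=
    (isPullback_pz d S).lift_snd _ _ _
  refine ⟨Over.homMk b₀ hb₁, Over.homMk ζ₀ (by
    rw [← Over.w (pz d S), ← Category.assoc, hζ, Category.assoc, hb₁]; rfl),
    IsPullback.of_map (Over.forget S) (Over.OverMorphism.ext hζ.symm) ?_⟩
  show IsPullback (Spec.map (CommRingCat.ofHom (AdjoinRoot.of p))) ζ₀ b₀ (pz d S).left
  refine IsPullback.of_bot ?_ hζ.symm (isPullback_pz d S).flip |>.flip.flip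
  show IsPullback _ (ζ₀ ≫ zu d S) (b₀ ≫ bu d S) (qR d)
  rw [show ζ₀ ≫ zu d S = Spec.map (CommRingCat.ofHom θ) from (isPullback_pz d S).lift_fst _ _ _, hb₀]
  exact isPullback_SpecMap_of_isPushout _ _ _ _ po

end Groth.Agent.FCov14.PolyParam
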