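import Groth.Agent.FCov14.PushfScheme
import Groth.Agent.AlgSpDec.EtaleSpCover
import Groth.Agent.AlgSpLib.EtLocalInst

/-! The fibres of the map on sections induced by a map over the source. -/

set_option autoImplicit false
set_option backward.isDefEq.respectTransparency false
set_option backward.isDefEq.respectTransparency.types false

universe u

open CategoryTheory CategoryTheory.Limits Opposite AlgebraicGeometry AlgSp
open Groth.Agent.AlgSpLib Groth.Agent.AlgStLib Groth.Agent.AlgSpDec

namespace Groth.Agent.FCov14.Pushf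

variable {S : Scheme.{u}} {B Z : Over S} {pz : Z ⟶ B} {F : Sp S} {π : F ⟶ (yon S).obj Z}
variable {At : Over S} {q : At ⟶ Z} {h : (yon S).obj At ⟶ F} (hh : h ≫ π = (yon S).map q)
variable {T : Over S} (x : Sec pz π T) {Y : Over S} {fst : (yon S).obj Y ⟶ (yon S).obj At} {q' : Y ⟶ pb pz x.b}
variable (sq : IsPullback fst ((yon S).map q') h x.s)

/-- The comparison of iterated base changes. -/
noncomputable def toIter {W : Over S} (g : W ⟶ T) {bW : W ⟶ B} (e : g ≫ x.b = bW) :
    pb pz bW ⟶ pb (prW pz x.b) g :=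
  pbLift (prW pz x.b) (prW pz bW) (pbMap pz g e) (pbMap_fst pz g e).symm

/-- The inverse comparison of iterated base changes. -/
noncomputable def ofIter {W : Over S} (g : W ⟶ T) {bW : W ⟶ B} (e : g ≫ x.b = bW) :
    pb (prW pz x.b) g ⟶ pb pz bW :=
  pbLift pz (prW (prW pz x.b) g) (prZ (prW pz x.b) g ≫ prZ pz x.b) (by
    rw [← e, ← Category.assoc, pb_condition, Category.assoc, pb_condition, Category.assoc])

theorem toIter_ofIter {W : Over S} (g : W ⟶ T) {bW : W ⟶ B} (e : g ≫ x.b = bW) :
    toIter x g e ≫ ofIter x g e = 𝟙 _ :=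
  pb_hom_ext pz (by rw [Category.assoc, ofIter, pbLift_fst, toIter, pbLift_fst, Category.id_comp])
    (by rw [Category.assoc, ofIter, pbLift_snd, toIter, pbLift_snd_assoc, pbMap_snd, Category.id_comp])

theorem ofIter_toIter {W : Over S} (g : W ⟶ T) {bW : W ⟶ B} (e : g ≫ x.b = bW) :
    ofIter x g e ≫ toIter x g e = 𝟙 _ := by
  refine pb_hom_ext _ ?_ ?_
  · rw [Category.assoc, toIter, pbLift_fst, ofIter, pbLift_fst, Category.id_comp]
  · rw [Category.assoc, toIter, pbLift_snd, Category.id_comp]
    refine pb_hom_ext pz ?_ ?_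
    · rw [Category.assoc, pbMap_fst, ofIter, pbLift_fst_assoc, pb_condition]
    · rw [Category.assoc, pbMap_snd, ofIter, pbLift_snd]

theorem toIter_natural {W V : Over S} (k : V ⟶ W) (g : W ⟶ T) {bW : W ⟶ B} (e : g ≫ x.b = bW) {bV : V ⟶ B}
    (eb : k ≫ bW = bV) (e' : (k ≫ g) ≫ x.b = bV) :
    toIter x (k ≫ g) e' ≫ pbMap (prW pz x.b) k rfl = pbMap pz k eb ≫ toIter x g e := by
  refine pb_hom_ext _ ?_ ?_
  · rw [Category.assoc, pbMap_fst, toIter, pbLift_fst_assoc, Category.assoc, toIter, pbLift_fst, pbMap_fst]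
  · rw [Category.assoc, pbMap_snd, toIter, pbLift_snd, Category.assoc, toIter, pbLift_snd, pbMap_comp]

/-- A section of the fibre as a section of the source. -/
noncomputable def down {W : Over S} (z : Sec (prW pz x.b) ((yon S).map q') W) : Sec pz ((yon S).map q) W where
  b := z.b ≫ x.b
  s := (yon S).map (toIter x z.b rfl) ≫ z.s ≫ fst
  w := by
    have h1 : z.s ≫ fst ≫ h ≫ π = (yon S).map (prZ (prW pz x.b) z.b) ≫ x.s ≫ π := by
      rw [sq.w_assoc, ← Category.assoc, z.w]
    rw [Category.assoc, Category.assoc, ← hh, h1, x.w, ← Functor.map_comp, ← Functor.map_comp, toIter,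
      pbLift_snd_assoc, pbMap_snd]

theorem down_res_aux {W V : Over S} (k : V ⟶ W) (g : W ⟶ T) {G G' : Sp S}
    (s : (yon S).obj (pb (prW pz x.b) g) ⟶ G) (f : G ⟶ G') :
    (yon S).map (pbMap pz (𝟙 V) (b := k ≫ g ≫ x.b) (b' := (k ≫ g) ≫ x.b)
        ((Category.id_comp _).trans (Category.assoc k g x.b).symm)) ≫
      (yon S).map (pbMap pz k rfl) ≫ (yon S).map (toIter x g rfl) ≫ s ≫ f =
    (yon S).map (toIter x (k ≫ g) rfl) ≫ ((yon S).map (pbMap (prW pz x.b) k rfl) ≫ s) ≫ f := by
  have key := toIter_natural x k g rfl (Category.assoc k g x.b).symm rfl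
  rw [Category.assoc ((yon S).map (pbMap (prW pz x.b) k rfl)) s f, ← Functor.map_comp_assoc (yon S) (toIter x (k ≫ g) rfl), key, ← Functor.map_comp_assoc,
    ← Functor.map_comp_assoc, pbMap_comp]
  simp only [Category.id_comp]

theorem down_res {W V : Over S} (k : V ⟶ W) (z : Sec (prW pz x.b) ((yon S).map q') W) :
    down hh x sq (z.res k) = (down hh x sq z).res k := by
  refine Sec.ext' (Category.assoc _ _ _) ?_
  exact down_res_aux x k z.b z.s fst

/-- The map from the sections of the fibre. -/
noncomputable def fibreMap : sheaf (prW pz x.b) ((yon S).map q') ⟶ sheaf pz ((yon S).map q) :=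
  SheafGlue.homOfPoints (fun _ p => pt pz _ (down hh x sq ((pt _ _).symm p))) fun V W k p => by
    rw [pt_symm_map, down_res, map_pt]

theorem pt_fibreMap {W : Over S} (z : Sec (prW pz x.b) ((yon S).map q') W) :
    pt _ _ z ≫ fibreMap hh x sq = pt pz _ (down hh x sq z) := by
  rw [fibreMap, SheafGlue.comp_homOfPoints, Equiv.symm_apply_apply]

theorem down_injective {W : Over S} {z z' : Sec (prW pz x.b) ((yon S).map q') W}
    (hb : z.b = z'.b) (hd : down hh x sq z = down hh x sq z') : z = z' := by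
  obtain ⟨g, s, w⟩ := z
  obtain ⟨g', s', w'⟩ := z'
  obtain rfl : g = g' := hb
  have hs : (yon S).map (toIter x g rfl) ≫ s ≫ fst = (yon S).map (toIter x g rfl) ≫ s' ≫ fst := by
    injection hd with _ h2
  have hi : ∀ {G : Sp S} (f f' : (yon S).obj (pb (prW pz x.b) g) ⟶ G),
      (yon S).map (toIter x g rfl) ≫ f = (yon S).map (toIter x g rfl) ≫ f' → f = f' := fun f f' e => by
    have := congrArg (fun r => (yon S).map (ofIter x g rfl) ≫ r) e
    simpa only [← Functor.map_comp_assoc, ofIter_toIter, CategoryTheory.Functor.map_id, Category.id_comp] using this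
  obtain rfl : s = s' := sq.hom_ext (hi _ _ hs) (w.trans w'.symm)
  rfl

theorem fibre_w_aux {W : Over S} (g : W ⟶ T) (s : (yon S).obj (pb (prW pz x.b) g) ⟶ (yon S).obj Y)
    (hs : s ≫ (yon S).map q' = (yon S).map (prZ (prW pz x.b) g))
    (w : fst ≫ h = (yon S).map q' ≫ x.s) :
    (yon S).map (pbMap pz (𝟙 W) (b := g ≫ x.b) (b' := g ≫ x.b) (Category.id_comp _)) ≫
      (yon S).map (pbMap pz g rfl) ≫ x.s = ((yon S).map (toIter x g rfl) ≫ s ≫ fst) ≫ h := by
  rw [Category.assoc, Category.assoc, w, ← Category.assoc s, hs, ← Functor.map_comp_assoc,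
    ← Functor.map_comp_assoc, toIter, pbLift_snd, pbMap_id, Category.id_comp]

theorem isPullback_fibreMap :
    IsPullback (fibreMap hh x sq) (proj (prW pz x.b) ((yon S).map q')) (map h hh) ((yon S).map (𝟙 T) ≫ pt pz π x) := by
  refine isPullback_of_points (SheafGlue.hom_ext_points fun W p => ?_) fun W a g hag => ?_
  · obtain ⟨z, rfl⟩ := (pt _ _).surjective p
    rw [← Category.assoc, pt_fibreMap, pt_map, ← Category.assoc, pt_proj, ← Functor.map_comp_assoc, Category.comp_id,
      map_pt]
    refine congrArg (pt pz π) (Sec.ext' rfl ?_)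
    exact fibre_w_aux x z.b z.s z.w sq.w
  · obtain ⟨a, rfl⟩ := (pt pz _).surjective a
    obtain ⟨g, rfl⟩ := (yon S).map_surjective g
    rw [pt_map, ← Functor.map_comp_assoc, Category.comp_id, map_pt] at hag
    have he : a.push h hh = x.res g := (pt pz π).injective hag
    have hb : g ≫ x.b = a.b := (congrArg Sec.b he).symm
    have hs : (yon S).map (pbMap pz g hb) ≫ x.s = a.s ≫ h := Sec.res_s he.symm hb
    let z : Sec (prW pz x.b) ((yon S).map q') W :=
      ⟨g, (yon S).map (ofIter x g hb) ≫ sq.lift a.s ((yon S).map (pbMap pz g hb)) hs.symm, by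
        rw [Category.assoc, sq.lift_snd, ← Functor.map_comp]
        refine congrArg _ ?_
        have := congrArg (fun r => r ≫ prZ (prW pz x.b) g) (ofIter_toIter x g hb)
        simpa only [Category.assoc, toIter, pbLift_snd, Category.id_comp] using this⟩
    have hz : down hh x sq z = a := by
      refine (Sec.ext' hb.symm ?_).symm
      show (yon S).map (pbMap pz (𝟙 W) _) ≫ (yon S).map (toIter x g rfl) ≫
        ((yon S).map (ofIter x g hb) ≫ sq.lift _ _ _) ≫ fst = a.s
      rw [Category.assoc, sq.lift_fst, ← Functor.map_comp_assoc, ← Functor.map_comp_assoc]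
      have h1 : (pbMap pz (𝟙 W) (b := g ≫ x.b) (b' := a.b) ((Category.id_comp _).trans hb) ≫ toIter x g rfl) ≫
          ofIter x g hb = 𝟙 _ := by
        rw [show pbMap pz (𝟙 W) (b := g ≫ x.b) (b' := a.b) ((Category.id_comp _).trans hb) ≫ toIter x g rfl =
          toIter x g hb from pb_hom_ext _
            (by rw [Category.assoc, toIter, pbLift_fst, pbMap_fst, Category.comp_id, toIter, pbLift_fst])
            (by rw [Category.assoc, toIter, pbLift_snd, toIter, pbLift_snd, pbMap_comp]; simp only [Category.id_comp]),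
          toIter_ofIter]
      rw [h1, CategoryTheory.Functor.map_id, Category.id_comp]
    refine ⟨pt _ _ z, ⟨by rw [pt_fibreMap, hz], pt_proj _ _ _⟩, ?_⟩
    rintro p ⟨hp1, hp2⟩
    obtain ⟨z', rfl⟩ := (pt _ _).surjective p
    rw [pt_proj] at hp2
    rw [pt_fibreMap] at hp1
    exact congrArg _ (down_injective hh x sq ((yon S).map_injective hp2) (((pt pz _).injective hp1).trans hz.symm))

theorem isPullback_fibreMap' :
    IsPullback (fibreMap hh x sq) (proj (prW pz x.b) ((yon S).map q')) (map h hh) (pt pz π x) := by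
  have := isPullback_fibreMap hh x sq
  rwa [CategoryTheory.Functor.map_id, Category.id_comp] at this

end Groth.Agent.FCov14.Pushf
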