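import Groth.Agent.FCov14.LfpProj
import Groth.Agent.FCov14.Ev
import Groth.Agent.AlgSpDec.SmoothFormal
import Groth.Agent.AlgSpDec.SmoothCriteria

/-! Sections of a smooth map along a finite flat morphism form a smooth map. -/

set_option autoImplicit false
set_option backward.isDefEq.respectTransparency false
set_option backward.isDefEq.respectTransparency.types false

universe u

open CategoryTheory CategoryTheory.Limits Opposite AlgebraicGeometry AlgSp
open Groth.Agent.AlgSpLib Groth.Agent.AlgStLib Groth.Agent.AlgSpDec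

namespace Groth.Agent.FCov14.Pushf

variable {S : Scheme.{u}}

/-- The base change of a square zero thickening of affine schemes to an affine scheme over it. -/
theorem exists_thickening_pullback {A : Type u} [CommRing A] (I : Ideal A) (hI : I ^ 2 = ⊥) {P P₀ : Scheme.{u}}
    [IsAffine P] [IsAffine P₀] (p : P ⟶ Spec (CommRingCat.of A))
    {p₀ : P₀ ⟶ Spec (CommRingCat.of (A ⧸ I))} {m : P₀ ⟶ P}
    (sq : IsPullback m p₀ p (Spec.map (CommRingCat.ofHom (Ideal.Quotient.mk I)))) :
    ∃ (A' : Type u) (_ : CommRing A') (e : Spec (CommRingCat.of A') ≅ P) (J : Ideal A') (_ : J ^ 2 = ⊥)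
      (e₀ : Spec (CommRingCat.of (A' ⧸ J)) ≅ P₀),
      e₀.hom ≫ m = Spec.map (CommRingCat.ofHom (Ideal.Quotient.mk J)) ≫ e.hom := by
  let A' := Γ(P, ⊤)
  let φ : CommRingCat.of A ⟶ A' := Spec.preimage (P.isoSpec.inv ≫ p)
  have hφ : Spec.map φ = P.isoSpec.inv ≫ p := Spec.map_preimage _
  let J : Ideal A' := I.map φ.hom
  have hJ : J ^ 2 = ⊥ := by
    show I.map φ.hom ^ 2 = ⊥
    rw [← Ideal.map_pow, hI, Ideal.map_bot]
  let ψ : A ⧸ I →+* A' ⧸ J := Ideal.quotientMap J φ.hom Ideal.le_comap_map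
  have hψ : CommRingCat.ofHom (Ideal.Quotient.mk I) ≫ CommRingCat.ofHom ψ =
      φ ≫ CommRingCat.ofHom (Ideal.Quotient.mk J) := by
    ext a
    rfl
  let n : Spec (CommRingCat.of (A' ⧸ J)) ⟶ P₀ := sq.lift
    (Spec.map (CommRingCat.ofHom (Ideal.Quotient.mk J)) ≫ P.isoSpec.inv) (Spec.map (CommRingCat.ofHom ψ)) (by
      rw [Category.assoc, ← hφ, ← Spec.map_comp, ← Spec.map_comp, hψ])
  have hker : ∀ a ∈ I, (φ ≫ m.appTop).hom a = 0 := by
    intro a ha
    have key : φ ≫ m.appTop = CommRingCat.ofHom (Ideal.Quotient.mk I) ≫ Spec.preimage (P₀.isoSpec.inv ≫ p₀) := by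
      apply Spec.map_injective
      rw [Spec.map_comp, Spec.map_comp, Spec.map_preimage, Spec.map_preimage, Category.assoc, ← sq.w, ← Category.assoc,
        Scheme.isoSpec_inv_naturality, Category.assoc]
    rw [key]
    show (Spec.preimage (P₀.isoSpec.inv ≫ p₀)).hom (Ideal.Quotient.mk I a) = 0
    rw [Ideal.Quotient.eq_zero_iff_mem.2 ha, map_zero]
  let χ : A' ⧸ J →+* Γ(P₀, ⊤) := Ideal.Quotient.lift J m.appTop.hom fun x hx => by
    have : J ≤ RingHom.ker m.appTop.hom := Ideal.map_le_iff_le_comap.2 fun a ha => hker a ha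
    exact this hx
  let n' : P₀ ⟶ Spec (CommRingCat.of (A' ⧸ J)) := P₀.isoSpec.hom ≫ Spec.map (CommRingCat.ofHom χ)
  have hn' : n' ≫ Spec.map (CommRingCat.ofHom (Ideal.Quotient.mk J)) ≫ P.isoSpec.inv = m := by
    simp only [n', Category.assoc]
    rw [← Spec.map_comp_assoc, show CommRingCat.ofHom (Ideal.Quotient.mk J) ≫ CommRingCat.ofHom χ = m.appTop by
      ext x; rfl, Scheme.isoSpec_inv_naturality, Iso.hom_inv_id_assoc]
  haveI : IsClosedImmersion (Spec.map (CommRingCat.ofHom (Ideal.Quotient.mk I))) :=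
    IsClosedImmersion.spec_of_surjective _ Ideal.Quotient.mk_surjective
  haveI : Mono m := MorphismProperty.of_isPullback (P := MorphismProperty.monomorphisms Scheme) sq.flip
    (MorphismProperty.monomorphisms.infer_property _)
  have h1 : n' ≫ n = 𝟙 _ := by
    rw [← cancel_mono m, Category.assoc, sq.lift_fst, hn', Category.id_comp]
  haveI : IsClosedImmersion (Spec.map (CommRingCat.ofHom (Ideal.Quotient.mk J))) :=
    IsClosedImmersion.spec_of_surjective _ Ideal.Quotient.mk_surjective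
  haveI : Mono (Spec.map (CommRingCat.ofHom (Ideal.Quotient.mk J)) ≫ P.isoSpec.inv) := inferInstance
  have h2 : n ≫ n' = 𝟙 _ := by
    rw [← cancel_mono (Spec.map (CommRingCat.ofHom (Ideal.Quotient.mk J)) ≫ P.isoSpec.inv), Category.assoc, hn',
      sq.lift_fst, Category.id_comp]
  exact ⟨A', inferInstance, P.isoSpec.symm, J, hJ, ⟨n, n', h2, h1⟩, sq.lift_fst _ _ _⟩

variable {B Z : Over S} (pz : Z ⟶ B) [IsFinite pz.left] {F : Sp S} (π : F ⟶ (yon S).obj Z)

/-- Sections of a formally smooth map along a finite morphism are formally smooth. -/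
theorem isFormallySmoothMor_proj (hπ : IsFormallySmoothMor π) : IsFormallySmoothMor (proj pz π) := by
  intro sq
  obtain ⟨x, hx⟩ := (pt pz π).surjective sq.top
  obtain ⟨b', hb'⟩ := (yon S).map_surjective sq.bot
  have hb : sq.j ≫ b' = x.b := (yon S).map_injective (by
    rw [Functor.map_comp, hb', ← pt_proj pz π, hx]
    exact sq.comm.symm)
  let m : pb pz x.b ⟶ pb pz b' := pbMap pz sq.j hb
  haveI : IsAffineHom (prW pz b').left :=
    MorphismProperty.of_isPullback ((isPullback_pb pz b').map (Over.forget S)).flip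
      (inferInstanceAs (IsAffineHom pz.left))
  haveI : IsAffineHom (prW pz x.b).left :=
    MorphismProperty.of_isPullback ((isPullback_pb pz x.b).map (Over.forget S)).flip
      (inferInstanceAs (IsAffineHom pz.left))
  haveI : IsAffine sq.ptT'.left := inferInstanceAs (IsAffine (Spec (CommRingCat.of sq.A)))
  haveI : IsAffine sq.ptT.left := inferInstanceAs (IsAffine (Spec (CommRingCat.of (sq.A ⧸ sq.I))))
  haveI : IsAffine (pb pz b').left := isAffine_of_isAffineHom (prW pz b').left
  haveI : IsAffine (pb pz x.b).left := isAffine_of_isAffineHom (prW pz x.b).left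
  obtain ⟨A', _, e, J, hJ, e₀, he⟩ := exists_thickening_pullback sq.I sq.sq_zero (prW pz b').left
    (p₀ := (prW pz x.b).left) (m := m.left)
    ((isPullback_pbMap pz sq.j hb).map (Over.forget S))
  let T₁ : Over S := Over.mk (e.hom ≫ (pb pz b').hom)
  let T₀ : Over S := Over.mk (Spec.map (CommRingCat.ofHom (Ideal.Quotient.mk J)) ≫ e.hom ≫ (pb pz b').hom)
  let E : T₁ ≅ pb pz b' := Over.isoMk e rfl
  let E₀ : T₀ ≅ pb pz x.b := Over.isoMk e₀ (by
    show e₀.hom ≫ (pb pz x.b).hom = Spec.map _ ≫ e.hom ≫ (pb pz b').hom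
    rw [← Over.w m, ← Category.assoc, he, Category.assoc])
  have hE : E₀.hom ≫ m = (Over.homMk (Spec.map (CommRingCat.ofHom (Ideal.Quotient.mk J))) rfl : T₀ ⟶ T₁) ≫ E.hom :=
    Over.OverMorphism.ext he
  let sq' : InfSq π :=
    { A := A', I := J, sq_zero := hJ, str := T₁.hom
      top := (yon S).map E₀.hom ≫ x.s
      bot := (yon S).map (E.hom ≫ prZ pz b')
      comm := by
        rw [Category.assoc, x.w, ← Functor.map_comp, ← Functor.map_comp]
        refine congrArg (yon S).map ?_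
        rw [← Category.assoc]
        refine Eq.trans ?_ (congrArg (· ≫ prZ pz b') hE)
        rw [Category.assoc, pbMap_snd] }
  obtain ⟨l, hl₁, hl₂⟩ := hπ sq'
  let s' : (yon S).obj (pb pz b') ⟶ F := (yon S).map E.inv ≫ l
  let y : Sec pz π sq.ptT' := ⟨b', s', by
    show ((yon S).map E.inv ≫ l) ≫ π = _
    rw [Category.assoc, hl₂, ← Functor.map_comp, Iso.inv_hom_id_assoc]⟩
  refine ⟨pt pz π y, ?_, by rw [pt_proj, hb']⟩
  rw [map_pt, ← hx]
  refine congrArg (pt pz π) (Sec.ext' hb ?_)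
  show (yon S).map _ ≫ x.s = (yon S).map _ ≫ (yon S).map E.inv ≫ l
  have h3 : (yon S).map m ≫ (yon S).map E.inv ≫ l = x.s := by
    rw [← cancel_epi ((yon S).map E₀.hom), ← Functor.map_comp_assoc, ← Functor.map_comp_assoc, hE, Category.assoc,
      Iso.hom_inv_id, Category.comp_id]
    exact hl₁
  rw [← h3, ← Functor.map_comp_assoc]
  congr 2
  exact pb_hom_ext pz (by rw [Category.assoc, pbMap_fst, pbMap_fst, ← Category.assoc, pbMap_fst, Category.comp_id]; rfl)
    (by rw [Category.assoc, pbMap_snd, pbMap_snd, pbMap_snd]; rfl)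

/-- Sections of a smooth map along a finite flat morphism are smooth. -/
theorem locP_proj_smooth [Flat pz.left] [LocallyOfFinitePresentation pz.left] (hF : IsAlgSpace F)
    (hπ : LocP @Smooth π) : LocP @Smooth (proj pz π) := by
  obtain ⟨h1, h2⟩ := (SmoothFormal.smooth_iff (X := ⟨F, hF⟩) (Y := ⟨_, IsAlgSpace.yon_obj Z⟩) π).1 hπ
  exact (SmoothFormal.smooth_iff (X := ⟨_, isAlgSpace_sheaf pz π hF⟩) (Y := ⟨_, IsAlgSpace.yon_obj B⟩)
    (proj pz π)).2 ⟨locP_proj_space pz π hF h1, isFormallySmoothMor_proj pz π h2⟩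

end Groth.Agent.FCov14.Pushf
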