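import Groth.Agent.FCov14.PushfFibre
import Groth.Agent.FCov14.FiniteSection
import Groth.Agent.FpqcSpace13.SigmaSep
import Groth.Agent.AlgSpLib.EtLocalInst

/-! Sections of an algebraic space along a finite flat morphism form an algebraic space. -/

set_option autoImplicit false
set_option backward.isDefEq.respectTransparency false
set_option backward.isDefEq.respectTransparency.types false

universe u

open CategoryTheory CategoryTheory.Limits Opposite AlgebraicGeometry AlgSp
open Groth.Agent.AlgSpLib Groth.Agent.AlgStLib Groth.Agent.AlgSpDec Groth.Agent.AlgSpPts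

namespace Groth.Agent.FCov14.Pushf

variable {S : Scheme.{u}} {B Z : Over S} (pz : Z ⟶ B)

theorem hasAff_sigma {ι : Type u} (V : ι → Over S) [∀ i, IsAffine (V i).left] (q : sigmaOver V ⟶ Z) :
    HasAff pz q := by
  intro O hO T hT hTV
  choose c v hv using fun x : (sigmaOver V).left => exists_sigmaι V x
  let U : ι → (sigmaOver V).left.Opens := fun i => (sigmaι V i).left.opensRange
  have hU0 : IsAffineOpen (⨆ i ∈ c '' T, U i) :=
    IsAffineOpen.biSup_of_disjoint (hT.image c) (fun i _ => isAffineOpen_opensRange _) fun i _ j _ hij =>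
      TopologicalSpace.Opens.coe_disjoint.1 (Set.disjoint_left.2 fun x hi hj => by
        obtain ⟨a, ha⟩ := hi
        obtain ⟨b, hb⟩ := hj
        exact hij (sigmaι_injective V (ha.trans hb.symm)))
  have hTU : T ⊆ (⨆ i ∈ c '' T, U i : (sigmaOver V).left.Opens) := fun x hx =>
    TopologicalSpace.Opens.mem_iSup.2 ⟨c x, TopologicalSpace.Opens.mem_iSup.2 ⟨⟨x, hx, rfl⟩, ⟨v x, hv x⟩⟩⟩
  obtain ⟨g, hg1, hg2⟩ := Groth.Agent.GrpdLib.exists_basicOpen_of_finite hU0 hT ((q ≫ pz).left ⁻¹ᵁ O) hTU hTV
  exact ⟨_, hU0.basicOpen g, hg1, fun y hy => hg2 hy⟩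

variable {At : Over S} {F : Sp S} {h : (yon S).obj At ⟶ F}

theorem isSeparated_of_pullback [IsSeparated At.hom] {X Y : Over S} {g : (yon S).obj X ⟶ F}
    {fst : (yon S).obj Y ⟶ (yon S).obj At} {q : Y ⟶ X} (sq : IsPullback fst ((yon S).map q) h g) :
    IsSeparated q.left := by
  obtain ⟨φ, rfl⟩ := (yon S).map_surjective fst
  let m : Y.left ⟶ pullback At.hom X.hom := pullback.lift φ.left q.left (by rw [Over.w, Over.w])
  have : Mono m := ⟨fun {W} a b hab => by
    have h1 : a ≫ φ.left = b ≫ φ.left := by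
      simpa only [m, Category.assoc, pullback.lift_fst] using congrArg (· ≫ pullback.fst _ _) hab
    have h2 : a ≫ q.left = b ≫ q.left := by
      simpa only [m, Category.assoc, pullback.lift_snd] using congrArg (· ≫ pullback.snd _ _) hab
    let a' : Over.mk (a ≫ Y.hom) ⟶ Y := Over.homMk a rfl
    let b' : Over.mk (a ≫ Y.hom) ⟶ Y := Over.homMk b (by
      show b ≫ Y.hom = a ≫ Y.hom
      rw [← Over.w q, ← Category.assoc b, ← h2, Category.assoc])
    have e : (yon S).map a' = (yon S).map b' := sq.hom_ext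
      (by rw [← Functor.map_comp, ← Functor.map_comp]; exact congrArg _ (Over.OverMorphism.ext h1))
      (by rw [← Functor.map_comp, ← Functor.map_comp]; exact congrArg _ (Over.OverMorphism.ext h2))
    exact congrArg Over.Hom.left ((yon S).map_injective e)⟩
  have hm : IsSeparated (m ≫ pullback.snd At.hom X.hom) := inferInstance
  rwa [pullback.lift_snd] at hm

theorem surjective_map_proj [IsFinite pz.left] {Y : Over S} (q : Y ⟶ Z) [Etale q.left] [Surjective q.left] :
    Function.Surjective (Points.map (proj pz ((yon S).map q))) := by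
  intro y
  obtain ⟨t, rfl⟩ : ∃ t : B.left, Points.ofPt (𝟙 ((yon S).obj B)) t = y := surjective_ofPt (repWith_id _ B) y
  let K := AlgebraicClosure (B.left.residueField t)
  let g₀ : Spec (CommRingCat.of K) ⟶ B.left :=
    Spec.map (CommRingCat.ofHom (algebraMap (B.left.residueField t) K)) ≫ B.left.fromSpecResidueField t
  let W : Over S := Over.mk (g₀ ≫ B.hom)
  let g : W ⟶ B := Over.homMk g₀ rfl
  have : IsFinite (prW pz g).left :=
    MorphismProperty.of_isPullback ((isPullback_pb pz g).map (Over.forget S)).flip ‹IsFinite pz.left›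
  obtain ⟨σ, hσ⟩ := exists_section_finite (K := K) (prW pz g).left (pullback.snd q.left (prZ pz g).left)
  let m₀ : (pb pz g).left ⟶ Y.left := σ ≫ pullback.fst _ _
  have hm₀ : m₀ ≫ q.left = (prZ pz g).left := by
    simp only [m₀, Category.assoc, pullback.condition]
    rw [← Category.assoc, hσ, Category.id_comp]
  let z : Sec pz ((yon S).map q) W := secOf g (Over.homMk m₀ (by rw [← Over.w q, ← Category.assoc, hm₀, Over.w]))
    (Over.OverMorphism.ext hm₀)
  let w₀ : W.left := IsLocalRing.closedPoint K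
  refine ⟨Points.ofPt (pt pz _ z) w₀, ?_⟩
  rw [Points.map_ofPt, pt_proj]
  refine Eq.trans ?_ (congrArg (Points.ofPt (𝟙 _)) (Scheme.fromSpecResidueField_apply t
    (Spec.map (CommRingCat.ofHom (algebraMap (B.left.residueField t) K)) w₀)))
  rw [← Category.comp_id ((yon S).map z.b), ofPt_comp]
  rfl

variable [IsFinite pz.left] [Flat pz.left] [LocallyOfFinitePresentation pz.left]
variable {π : F ⟶ (yon S).obj Z} {q : At ⟶ Z} (hh : h ≫ π = (yon S).map q)

/-- The map on sections induced by an etale map from a separated scheme is etale. -/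
theorem repBySpWith_map [IsSeparated At.hom] (he : RepWith @Etale h) :
    RepBySpWith IsEtaleMor (map (pz := pz) h hh).hom ∧
      (RepWith @Surjective h → RepBySpWith (IsSurjectiveMor ⊓ IsEtaleMor) (map (pz := pz) h hh).hom) := by
  have key : ∀ ⦃T : Over S⦄ (ξ : (yon S).obj T ⟶ sheaf pz π) ⦃F' : Sp S⦄
      (fst : F' ⟶ sheaf pz ((yon S).map q)) (snd : F' ⟶ (yon S).obj T), IsPullback fst snd (map h hh) ξ →
      IsAlgSpace F' ∧ IsEtaleMor snd ∧ (RepWith @Surjective h → IsSurjectiveMor snd) := by
    intro T ξ F' fst snd sq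
    obtain ⟨x, rfl⟩ := (pt pz π).surjective ξ
    have hY := he.rep.isPullback x.s
    let q' := he.rep.snd x.s
    have : Etale q'.left := he.property_snd x.s
    have : IsSeparated q'.left := isSeparated_of_pullback hY
    have : LocallyQuasiFinite q'.left := locallyQuasiFinite_of_formallyUnramified _
    have hpw : IsFinite (prW pz x.b).left ∧ Flat (prW pz x.b).left ∧ LocallyOfFinitePresentation (prW pz x.b).left :=
      have hp := ((isPullback_pb pz x.b).map (Over.forget S)).flip
      ⟨MorphismProperty.of_isPullback hp ‹IsFinite pz.left›, MorphismProperty.of_isPullback hp ‹Flat pz.left›,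
        MorphismProperty.of_isPullback hp ‹LocallyOfFinitePresentation pz.left›⟩
    obtain ⟨_, _, _⟩ := hpw
    have hA' : HasAff (prW pz x.b) q' := hasAff_of_separated_quasiFinite _ _
    have hsp := isAlgSpace_sheaf_of_hasAff _ _ hA'
    let e := sq.isoIsPullback _ _ (isPullback_fibreMap' hh x hY)
    have hsnd : e.hom ≫ proj (prW pz x.b) ((yon S).map q') = snd := sq.isoIsPullback_hom_snd _ _ _
    have hF' : IsAlgSpace F' := hsp.of_iso e.symm
    refine ⟨hF', ?_, fun hs => ?_⟩
    · rw [← hsnd]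
      exact (isEtaleMor_iff_locP hF' (IsAlgSpace.yon_obj T) _).2 (locP_comp hF' hsp (IsAlgSpace.yon_obj T)
        (locP_of_repWith (repWith_of_isIso _ _)) (locP_proj_etale _ _ hA'))
    · have hsY : RepWith @Surjective h := hs
      have : Surjective q'.left := hsY.property _ _ _ hY
      intro y
      obtain ⟨z, hz⟩ := surjective_map_proj (prW pz x.b) q' y
      exact ⟨Points.map e.inv z, by rw [← Points.map_comp, ← hsnd, Iso.inv_hom_id_assoc, hz]⟩
  refine ⟨?_, fun hs => ?_⟩
  · rw [repBySpWith_hom_iff]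
    exact fun T ξ F' fst snd sq => ⟨(key ξ fst snd sq).1, (key ξ fst snd sq).2.1⟩
  · rw [repBySpWith_hom_iff]
    exact fun T ξ F' fst snd sq => ⟨(key ξ fst snd sq).1, (key ξ fst snd sq).2.2 hs, (key ξ fst snd sq).2.1⟩

/-- Composites of etale charts with etale maps representable by spaces are etale charts. -/
theorem repWith_etale_comp {F' G : Sp S} (hG : IsAlgSpace G) {f : F' ⟶ G} (hf : RepBySpWith IsEtaleMor f.hom)
    {U : Over S} {a : (yon S).obj U ⟶ F'} (ha : RepWith @Etale a) : RepWith @Etale (a ≫ f) := by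
  have hr : Representable (a ≫ f) := hG.representable_from_yon _
  refine ⟨hr, fun T V ξ fst snd sq => ?_⟩
  obtain ⟨h', hA, he⟩ := hf ξ.hom (pullback.fst f ξ).hom (pullback.snd f ξ).hom
    ((IsPullback.of_hasPullback f ξ).map (sheafToPresheaf (J S) (Type (u + 1))))
  have hA : IsAlgSpace (pullback f ξ) := hA
  have he : IsEtaleMor (pullback.snd f ξ) := he
  let l : (yon S).obj V ⟶ pullback f ξ := pullback.lift (fst ≫ a) ((yon S).map snd) (by rw [Category.assoc, sq.w])
  have hl₂ : l ≫ pullback.snd f ξ = (yon S).map snd := pullback.lift_snd _ _ _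
  have sql : IsPullback fst l a (pullback.fst f ξ) := by
    refine IsPullback.of_bot (?_ : IsPullback fst (l ≫ pullback.snd f ξ) (a ≫ f) ξ) (pullback.lift_fst _ _ _).symm
      (IsPullback.of_hasPullback f ξ)
    rw [hl₂]
    exact sq
  refine (repWith_yon_map_iff _ _).1 ?_
  rw [← hl₂]
  exact he l (repWith_of_isPullback sql ha)

variable (π)

theorem exists_atlas (hF : IsAlgSpace F) : ∃ (At : Over S) (h : (yon S).obj At ⟶ F) (q : At ⟶ Z),
    IsSeparated At.hom ∧ HasAff pz q ∧ h ≫ π = (yon S).map q ∧ RepWith @Etale h ∧ RepWith @Surjective h := by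
  obtain ⟨U, p, hp, hps⟩ := hF.atlas
  let 𝒰 := U.left.affineCover
  let V : U.left → Over S := fun i => Over.mk (𝒰.f (𝒰.idx i) ≫ U.hom)
  have : ∀ i, IsAffine (V i).left := fun i => inferInstanceAs (IsAffine (𝒰.X _))
  let j₀ : (sigmaOver V).left ⟶ U.left := Sigma.desc fun i => 𝒰.f (𝒰.idx i)
  let j : sigmaOver V ⟶ U := Over.homMk j₀ (Sigma.hom_ext _ _ fun i => by
    show Sigma.ι (fun i => (V i).left) i ≫ j₀ ≫ U.hom = Sigma.ι (fun i => (V i).left) i ≫ Sigma.desc _
    rw [← Category.assoc, Sigma.ι_desc, Sigma.ι_desc]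
    rfl)
  have : Etale j.left := IsZariskiLocalAtSource.sigmaDesc (P := @Etale) fun i => inferInstanceAs (Etale (𝒰.f _))
  have : Surjective j.left := ⟨fun x => by
    obtain ⟨y, hy⟩ := 𝒰.covers x
    refine ⟨(Sigma.ι (fun i => (V i).left) x) y, ?_⟩
    show (Sigma.ι (fun i => (V i).left) x ≫ Sigma.desc fun i => 𝒰.f (𝒰.idx i)) y = x
    rw [Sigma.ι_desc]
    exact hy⟩
  obtain ⟨q, hq⟩ := (yon S).map_surjective (((yon S).map j ≫ p) ≫ π)
  have : (sigmaOver V).left.IsSeparated := FpqcSpace13.isSeparated_sigma fun i => (V i).left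
  exact ⟨sigmaOver V, (yon S).map j ≫ p, q, inferInstance, hasAff_sigma pz V q, hq.symm,
    repWith_comp ((repWith_yon_map_iff _ _).2 ‹Etale j.left›) hp,
    repWith_comp ((repWith_yon_map_iff _ _).2 ‹Surjective j.left›) hps⟩

/-- Sections of an algebraic space along a finite flat morphism form an algebraic space. -/
theorem isAlgSpace_sheaf (hF : IsAlgSpace F) : IsAlgSpace (sheaf pz π) := by
  obtain ⟨At, h, q, _, hA, hh, he, hs⟩ := exists_atlas pz π hF
  exact isAlgSpace_of_repBySp_etale (isAlgSpace_sheaf_of_hasAff pz q hA) ((repBySpWith_map pz hh he).2 hs)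

end Groth.Agent.FCov14.Pushf
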