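import Groth.Prelude.Def_AlgSt5
import Groth.Prelude.Def_AlgSt6
import Groth.Agent.AlgSpGrp.Sheaf
import Groth.Agent.AlgStLib.SpQuotStack
import Groth.Agent.AlgStLib.SpTorsor
import Groth.Agent.AlgSpLib.AffineDescProps
import Groth.Agent.FibBase.Basic
import Groth.Agent.AlgStLib.SpBGDiag

/-! Scheme torsors and sheaf torsors. -/

set_option autoImplicit false
set_option backward.isDefEq.respectTransparency false
set_option backward.isDefEq.respectTransparency.types false

universe u

open CategoryTheory CategoryTheory.Limits MonoidalCategory CartesianMonoidalCategory AlgebraicGeometry AlgSp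
open scoped MonObj
open Opposite
open Groth.Agent.AlgSpLib Groth.Agent.AlgSpPts Groth.Agent.AlgSpGrp Groth.Agent.FibBase Groth.Agent.AlgStLib

noncomputable section

namespace Groth.Agent.FCov14.Compare

variable {S : Scheme.{u}} {G : Over S} [GrpObj G] {X : Over S}

local notation "K₀" => Scheme.fppfPrecoverage

instance grpG : GrpObj ((yonB S).obj G) := Functor.grpObjObj

/-- An action as an action on sheaves. -/
def mapAct {P : Over S} (a : AlgGrp.Action G P) : GAction ((yonB S).obj G) ((yonB S).obj P) where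
  act := Functor.LaxMonoidal.μ (yonB S) G P ≫ (yonB S).map a.act
  one_act := by
    show ((Functor.LaxMonoidal.ε (yonB S) ≫ (yonB S).map η[G]) ▷ _) ≫ _ = _
    rw [comp_whiskerRight, Category.assoc, Functor.LaxMonoidal.μ_natural_left_assoc, ← Functor.map_comp, a.one_act, ← Functor.LaxMonoidal.left_unitality]
  mul_act := by
    show ((Functor.LaxMonoidal.μ (yonB S) G G ≫ (yonB S).map μ[G]) ▷ _) ≫ _ = _
    rw [comp_whiskerRight, Category.assoc, Functor.LaxMonoidal.μ_natural_left_assoc, ← Functor.map_comp, a.mul_act,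
      MonoidalCategory.whiskerLeft_comp, Category.assoc, Functor.LaxMonoidal.μ_natural_right_assoc, Functor.map_comp, Functor.map_comp,
      Functor.LaxMonoidal.associativity_assoc]

theorem μ_whiskerLeft {P Q : Over S} (f : P ⟶ Q) :
    ((yonB S).obj G ◁ (yonB S).map f) ≫ Functor.LaxMonoidal.μ (yonB S) G Q = Functor.LaxMonoidal.μ (yonB S) G P ≫ (yonB S).map (G ◁ f) :=
  Functor.LaxMonoidal.μ_natural_right _ _ _

theorem map_eqv {P Q : Over S} (a : AlgGrp.Action G P) (b : AlgGrp.Action G Q) (f : P ⟶ Q)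
    (h : a.act ≫ f = (G ◁ f) ≫ b.act) :
    (mapAct a).act ≫ (yonB S).map f = ((yonB S).obj G ◁ (yonB S).map f) ≫ (mapAct b).act := by
  show (Functor.LaxMonoidal.μ (yonB S) G P ≫ (yonB S).map a.act) ≫ _ = _ ≫ Functor.LaxMonoidal.μ (yonB S) G Q ≫ (yonB S).map b.act
  rw [Category.assoc, ← Functor.map_comp, h, Functor.map_comp, ← Category.assoc, ← μ_whiskerLeft (G := G) f,
    Category.assoc]

theorem eqv_of_map {P Q : Over S} (a : AlgGrp.Action G P) (b : AlgGrp.Action G Q) (f : P ⟶ Q)
    (h : (mapAct a).act ≫ (yonB S).map f = ((yonB S).obj G ◁ (yonB S).map f) ≫ (mapAct b).act) :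
    a.act ≫ f = (G ◁ f) ≫ b.act := by
  apply (yonB S).map_injective
  rw [← cancel_epi (Functor.LaxMonoidal.μ (yonB S) G P), Functor.map_comp, Functor.map_comp,
    ← Category.assoc (g := (yonB S).map (G ◁ f)), ← μ_whiskerLeft (G := G) f, Category.assoc]
  exact (Category.assoc _ _ _).symm.trans h

variable (aX : AlgGrp.Action G X)

/-- The base of a sheaf torsor. -/
abbrev bOf (T : Over S) : (yon S).obj T ⟶ base S := (isTerminalYon S).from _

variable {aX}

theorem hasSecLoc_map {T P : Over S} (π : P ⟶ T)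
    (h : NonAbH1.IsLocallyTrivialFor K₀ (Over.mk π.left : Over T.left)) :
    AlgSt.HasSecLoc K₀ ((yon S).map π) := by
  obtain ⟨R, hR, hs⟩ := h
  refine ⟨R, hR, fun T' f hf => ?_⟩
  obtain ⟨s, hs'⟩ := hs f hf
  refine ⟨(yon S).map (Over.homMk s (by
    show s ≫ P.hom = f ≫ T.hom
    rw [← Over.w π, ← hs', Category.assoc]; rfl)), ?_⟩
  rw [← Functor.map_comp]
  exact congrArg (yon S).map (Over.OverMorphism.ext hs')

/-- The sheaf torsor of a scheme torsor. -/
def obj (A : AlgSt.QuotObj K₀ G aX) : AlgSt.SpQuotObj K₀ ((yonB S).obj G) (mapAct aX) where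
  base := A.base
  b := bOf A.base
  P := (yonB S).obj A.P
  act := mapAct A.act
  π := (yonB S).map A.π
  cart := (A.cart.map (yonB S)).of_iso (asIso (Functor.LaxMonoidal.μ (yonB S) G A.P)).symm (Iso.refl _) (Iso.refl _) (Iso.refl _)
    (by
      rw [Iso.symm_hom, asIso_inv, IsIso.eq_inv_comp, Iso.refl_hom, Category.comp_id]
      rfl)
    (by
      rw [Iso.symm_hom, asIso_inv, IsIso.eq_inv_comp, Iso.refl_hom, Category.comp_id]
      exact Functor.Monoidal.μ_snd (yonB S) G A.P) (by simp) (by simp)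
  loc := hasSecLoc_map A.π A.loc
  φ := (yonB S).map A.φ
  eqv := map_eqv A.act aX A.φ A.eqv

theorem bHom_eq {T' T : Over S} (f : T' ⟶ T) (w : (yon S).map f ≫ bOf T = bOf T') :
    AlgSt.bHom f w = (yonB S).map f := Over.OverMorphism.ext rfl

/-- The comparison functor. -/
def functor : AlgSt.QuotSt K₀ G aX ⥤ᵇ AlgSt.SpQuotSt K₀ ((yonB S).obj G) (mapAct aX) where
  toFunctor :=
    { obj := obj
      map := fun {A A'} f =>
        { base := f.base
          wb := (isTerminalYon S).hom_ext _ _
          top := (yonB S).map f.top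
          eqv := map_eqv A.act A'.act f.top f.eqv
          cart := by
            show IsPullback _ _ _ (AlgSt.bHom f.base _)
            rw [bHom_eq]
            exact f.cart.map (yonB S)
          wφ := ((yonB S).map_comp _ _).symm.trans (congrArg (yonB S).map f.wφ) }
      map_id := fun A => AlgSt.SpQuotObj.hom_ext rfl ((yonB S).map_id _)
      map_comp := fun f g => AlgSt.SpQuotObj.hom_ext rfl ((yonB S).map_comp _ _) }
  w := rfl

theorem functor_faithful : (functor (aX := aX)).toFunctor.Faithful :=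
  ⟨fun {A A'} f g h => AlgSt.QuotObj.hom_ext (congrArg AlgSt.SpQuotObj.Hom.base h)
    ((yonB S).map_injective (congrArg AlgSt.SpQuotObj.Hom.top h))⟩

theorem functor_full : (functor (aX := aX)).toFunctor.Full := by
  refine ⟨fun {A A'} g => ?_⟩
  obtain ⟨t, ht⟩ := (yonB S).map_surjective (X := A.P) (Y := A'.P) g.top
  have hc : IsPullback ((yonB S).map t) ((yonB S).map A.π) ((yonB S).map A'.π) ((yonB S).map g.base) := by
    rw [← bHom_eq g.base g.wb, ht]
    exact g.cart
  refine ⟨{ base := g.base, top := t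
            eqv := eqv_of_map A.act A'.act t (by rw [ht]; exact g.eqv)
            cart := IsPullback.of_map (yonB S) ((yonB S).map_injective (by
              rw [Functor.map_comp, Functor.map_comp]; exact hc.w)) hc
            wφ := (yonB S).map_injective (by rw [Functor.map_comp, ht]; exact g.wφ) },
    AlgSt.SpQuotObj.hom_ext rfl ht⟩

/-- A sheaf torsor under an affine group scheme is an affine scheme over its base. -/
theorem exists_rep [IsAffineHom G.hom] (A : AlgSt.SpQuotObj K₀ ((yonB S).obj G) (mapAct aX)) :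
    ∃ P : Over S, Nonempty ((yonB S).obj P ≅ A.P) := by
  have hB : IsAlgSpace (base S) := IsAlgSpace.yon_obj _
  have hG : IsAlgSpace ((yonB S).obj G).left := IsAlgSpace.yon_obj G
  have haff : IsAffineMor ((yonB S).obj G).hom := by
    obtain ⟨h, hh⟩ : ∃ h : G ⟶ Over.mk (𝟙 S), (yon S).map h = ((yonB S).obj G).hom :=
      ⟨Over.mkIdTerminal.from G, (isTerminalYon S).hom_ext _ _⟩
    rw [← hh]
    refine Groth.Agent.AlgSpDec.isAffineMor_of_repWith le_rfl ((repWith_yon_map_iff _ h).2 ?_)
    have e : h.left = G.hom := (Category.comp_id _).symm.trans (Over.w h)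
    show IsAffineHom h.left
    rw [e]
    infer_instance
  obtain ⟨I₀, U, f, s, hs, hcov⟩ := exists_sections_cover (A := A)
  choose Q a p c h1 h2 using fun i => exists_isPullback_of_section A (f i) (s i) (hs i)
  have hQ : ∀ i, IsAlgSpace (Q i) := fun i => isAlgSpace_of_isPullback (h2 i) hG (IsAlgSpace.yon_obj _) hB
  have hπ : IsAffineMor A.π.left :=
    ((isLocalOnBase_fppf_of_fpqc isLocalOnBase_fpqc_isAffineMor) _ _ (IsAlgSpace.yon_obj A.base)
      (fun i => IsAlgSpace.yon_obj (U i)) hcov A.π.left (isAlgSpace_torsor hB hG A) Q p a hQ h1).2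
      fun i => isAffineMor_of_isPullback (h2 i) haff
  obtain ⟨W, sW, fst, sq⟩ := Groth.Agent.AlgSpDec.representable_of_isAffineMor hπ (𝟙 ((yon S).obj A.base))
  have : IsIso fst := sq.isIso_fst_of_isIso
  exact ⟨W, ⟨Over.isoMk (asIso fst) ((isTerminalYon S).hom_ext _ _)⟩⟩

theorem functor_essSurj [IsAffineHom G.hom] (A : AlgSt.SpQuotObj K₀ ((yonB S).obj G) (mapAct aX)) :
    ∃ (A₀ : AlgSt.QuotObj K₀ G aX) (e : functor.obj A₀ ≅ A),
      (AlgSt.SpQuotSt K₀ ((yonB S).obj G) (mapAct aX)).p.IsHomLift (𝟙 A.base) e.hom := by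
  obtain ⟨P, ⟨j⟩⟩ := exists_rep A
  obtain ⟨π, hπ⟩ : ∃ π : P ⟶ A.base, (yon S).map π = j.hom.left ≫ A.π.left := (yon S).map_surjective _
  obtain ⟨φ, hφ⟩ := (yonB S).map_surjective (j.hom ≫ A.φ)
  have hb : bOf A.base = A.b := (isTerminalYon S).hom_ext _ _
  have hπ' : ((yonB S).map π).left = j.hom.left ≫ A.π.left := hπ
  obtain ⟨act, hact⟩ : ∃ act : G ⊗ P ⟶ P, (yonB S).map act =
      Functor.OplaxMonoidal.δ (yonB S) G P ≫ (((yonB S).obj G ◁ j.hom) ≫ A.act.act ≫ j.inv) :=
    (yonB S).map_surjective _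
  have hact' : Functor.LaxMonoidal.μ (yonB S) G P ≫ (yonB S).map act =
      ((yonB S).obj G ◁ j.hom) ≫ A.act.act ≫ j.inv := by
    rw [hact, ← Category.assoc, Functor.Monoidal.μ_δ, Category.id_comp]
  have hone : (η[G] ▷ P) ≫ act = (λ_ P).hom := by
    apply (yonB S).map_injective
    have key : (η[(yonB S).obj G] ▷ _) ≫ Functor.LaxMonoidal.μ (yonB S) G P ≫ (yonB S).map act =
        (λ_ ((yonB S).obj P)).hom := by
      rw [hact', ← whisker_exchange_assoc, reassoc_of% A.act.one_act, ← Category.assoc,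
        leftUnitor_naturality, Category.assoc, Iso.hom_inv_id, Category.comp_id]
    rw [Functor.LaxMonoidal.left_unitality (yonB S) P] at key
    change ((Functor.LaxMonoidal.ε (yonB S) ≫ (yonB S).map η[G]) ▷ _) ≫ _ = _ at key
    rw [comp_whiskerRight, Category.assoc, Functor.LaxMonoidal.μ_natural_left_assoc, ← Functor.map_comp] at key
    rw [← cancel_epi (Functor.LaxMonoidal.μ (yonB S) (𝟙_ (Over S)) P),
      ← cancel_epi ((Functor.LaxMonoidal.ε (yonB S)) ▷ ((yonB S).obj P))]
    exact key
  have hmul : (μ[G] ▷ P) ≫ act = (α_ G G P).hom ≫ (G ◁ act) ≫ act := by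
    apply (yonB S).map_injective
    have key : (μ[(yonB S).obj G] ▷ _) ≫ (((yonB S).obj G ◁ j.hom) ≫ A.act.act ≫ j.inv) =
        (α_ _ _ _).hom ≫ ((yonB S).obj G ◁ (((yonB S).obj G ◁ j.hom) ≫ A.act.act ≫ j.inv)) ≫
          ((yonB S).obj G ◁ j.hom) ≫ A.act.act ≫ j.inv := by
      rw [← whisker_exchange_assoc, reassoc_of% A.act.mul_act]
      simp only [MonoidalCategory.whiskerLeft_comp, Category.assoc]
      rw [← MonoidalCategory.whiskerLeft_comp_assoc _ j.inv j.hom, Iso.inv_hom_id, MonoidalCategory.whiskerLeft_id,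
        Category.id_comp, ← associator_naturality_right_assoc]
      rfl
    rw [← hact'] at key
    change ((Functor.LaxMonoidal.μ (yonB S) G G ≫ (yonB S).map μ[G]) ▷ _) ≫ _ = _ at key
    rw [comp_whiskerRight, Category.assoc, Functor.LaxMonoidal.μ_natural_left_assoc,
      MonoidalCategory.whiskerLeft_comp, Category.assoc, Functor.LaxMonoidal.μ_natural_right_assoc,
      ← Functor.map_comp, ← Functor.map_comp] at key
    rw [← cancel_epi (Functor.LaxMonoidal.μ (yonB S) (G ⊗ G) P),
      ← cancel_epi ((Functor.LaxMonoidal.μ (yonB S) G G) ▷ ((yonB S).obj P)), key,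
      Functor.map_comp, Functor.map_comp, ← Functor.LaxMonoidal.associativity_assoc]
    simp only [Functor.map_comp]
  let a : AlgGrp.Action G P := ⟨act, hone, hmul⟩
  have hj : j.hom ≫ A.π = (yonB S).map π ≫ AlgSt.bHom (𝟙 A.base)
      (by rw [CategoryTheory.Functor.map_id, Category.id_comp]; exact hb.symm) := by
    refine Over.OverMorphism.ext ?_
    show j.hom.left ≫ A.π.left = (yon S).map π ≫ (yon S).map (𝟙 A.base)
    rw [CategoryTheory.Functor.map_id, Category.comp_id, hπ]
  have heqv : (mapAct a).act ≫ j.hom = ((yonB S).obj G ◁ j.hom) ≫ A.act.act := by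
    show (Functor.LaxMonoidal.μ (yonB S) G P ≫ (yonB S).map act) ≫ j.hom = _
    rw [hact', Category.assoc, Category.assoc, Iso.inv_hom_id, Category.comp_id]
  let k : Over.mk (bOf A.base) ⟶ Over.mk A.b := AlgSt.bHom (𝟙 A.base)
      (by rw [CategoryTheory.Functor.map_id, Category.id_comp]; exact hb.symm)
  have hk : IsIso k := by
    have : IsIso ((Over.forget (base S)).map k) := inferInstanceAs (IsIso ((yon S).map (𝟙 A.base)))
    exact isIso_of_reflects_iso k (Over.forget (base S))
  have hcart : IsPullback act (snd G P) π π := by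
    refine IsPullback.of_map (yonB S) ?_ ?_
    · apply (yonB S).map_injective
      rw [← cancel_epi (Functor.LaxMonoidal.μ (yonB S) G P), Functor.map_comp, Functor.map_comp,
        ← Category.assoc, hact', ← Category.assoc (f := Functor.LaxMonoidal.μ (yonB S) G P),
        Functor.Monoidal.μ_snd, ← cancel_mono k]
      simp only [Category.assoc]
      rw [← hj, Iso.inv_hom_id_assoc, A.cart.w, whiskerLeft_snd_assoc]
    · refine A.cart.of_iso ((whiskerLeftIso ((yonB S).obj G) j).symm ≪≫ asIso (Functor.LaxMonoidal.μ (yonB S) G P))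
        j.symm j.symm (asIso k).symm ?_ ?_ ?_ ?_
      · simp only [Iso.trans_hom, Iso.symm_hom, asIso_hom, whiskerLeftIso_inv, Category.assoc]
        rw [hact', ← MonoidalCategory.whiskerLeft_comp_assoc, Iso.inv_hom_id, MonoidalCategory.whiskerLeft_id,
          Category.id_comp]
      · simp only [Iso.trans_hom, Iso.symm_hom, asIso_hom, whiskerLeftIso_inv, Category.assoc]
        rw [Functor.Monoidal.μ_snd, whiskerLeft_snd]
      all_goals
        rw [Iso.symm_hom, Iso.symm_hom, asIso_inv, IsIso.comp_inv_eq, Category.assoc, ← hj, Iso.inv_hom_id_assoc]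
  let A₀ : AlgSt.QuotObj K₀ G aX :=
    { base := A.base
      P := P
      act := a
      π := π
      cart := hcart
      loc := by
        obtain ⟨R, hR, hs⟩ := A.loc
        refine ⟨R, hR, fun T' f hf => ?_⟩
        obtain ⟨s, hs'⟩ := hs f hf
        obtain ⟨σ, hσ⟩ := (yon S).map_surjective (s ≫ j.inv.left)
        refine ⟨σ.left, ?_⟩
        have : σ ≫ π = Over.homMk f := (yon S).map_injective (by
          rw [Functor.map_comp, hσ, hπ, Category.assoc, ← Over.comp_left_assoc, Iso.inv_hom_id]
          simpa using hs')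
        exact congrArg CommaMorphism.left this
      φ := φ
      eqv := eqv_of_map a aX φ (by
        rw [hφ, reassoc_of% heqv, A.eqv, MonoidalCategory.whiskerLeft_comp, Category.assoc]; rfl) }
  let h : functor.obj A₀ ⟶ A :=
    { base := 𝟙 A.base
      wb := (isTerminalYon S).hom_ext _ _
      top := j.hom
      eqv := heqv
      cart := by
        have hw : CommSq j.hom ((yonB S).map π) A.π k := ⟨hj⟩
        exact IsPullback.of_horiz_isIso hw
      wφ := hφ.symm }
  have hl : (AlgSt.SpQuotSt K₀ ((yonB S).obj G) (mapAct aX)).p.IsHomLift (𝟙 A.base) h :=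
    IsHomLift.of_fac' _ _ h rfl rfl (by simp; rfl)
  have : IsIso h :=
    isIso_of_lift (hp := Groth.Agent.AlgStLib.SpQuot.isFibGrpd) (𝟙 A.base) h
  exact ⟨A₀, asIso h, hl⟩

theorem functor_isEquivOver [IsAffineHom G.hom] : FibCat.IsEquivOver (functor (aX := aX)) :=
  isEquivOver_of_exists_iso _ functor_full functor_faithful functor_essSurj

/-- Quotient categories with scheme torsors under an affine group are stacks. -/
theorem isStack_quotSt [IsAffineHom G.hom] : Stk.IsStack (J S) (AlgSt.QuotSt K₀ G aX) :=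
  (Groth.Agent.StkLib.isStack_iff_of_isEquivOver _ functor_isEquivOver).2 Groth.Agent.AlgStLib.SpQuot.isStack

end Groth.Agent.FCov14.Compare
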