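import Groth.Agent.AlgStLib.SpBGDiag
import Groth.Agent.FCov14.QuotCover

/-! The diagonal of a quotient stack with sheaf torsors is representable. -/

set_option autoImplicit false
set_option backward.isDefEq.respectTransparency false
set_option backward.isDefEq.respectTransparency.types false

universe u

open CategoryTheory CategoryTheory.Functor CategoryTheory.Limits MonoidalCategory CartesianMonoidalCategory MonObj
open Opposite AlgebraicGeometry AlgSp Groth.Agent.AlgSpLib Groth.Agent.FibBase Groth.Agent.AlgSpDec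
open Groth.Agent.AlgStLib Groth.Agent.AlgStLib.SpQuot

namespace Groth.Agent.FCov14.QuotDiag

variable {S : Scheme.{u}} {B : Sp S} {G : Over B} [GrpObj G] {X : Over B} {aX : GAction G X}

local notation "K₀" => Scheme.fppfPrecoverage

/-- The prestack condition for a quotient stack with sheaf torsors. -/
theorem isPrestack_spQuot : Stk.IsPrestack (J S) (AlgSt.SpQuotSt K₀ G aX) :=
  Groth.Agent.StkLib.isPrestack_of_isStack isStack

variable {U : Over S} (y₁ y₂ : FibCat.overCat U ⥤ᵇ AlgSt.SpQuotSt K₀ G aX)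

local notation "I₁₂" => IsomSheaf.isom y₁ y₂ isPrestack_spQuot
local notation "πI" => IsomSheaf.isomπ y₁ y₂ isPrestack_spQuot

section Trivialised

variable {V : Over S} (v : V ⟶ U) (s₁ : (yon S).obj V ⟶ (tors y₁).P.left)

/-- A translate of the section as a point of the first torsor. -/
noncomputable abbrev secPt {W : Over S} (g : W ⟶ V) : (AlgSt.ofSp (tors y₁).P.left).obj :=
  ⟨W, (J S).uliftYonedaEquiv ((yon S).map g ≫ s₁)⟩

theorem ptMap_secPt {W : Over S} (g : W ⟶ V) : ptMap y₁ (secPt y₁ s₁ g) = (yon S).map g ≫ s₁ :=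
  Equiv.symm_apply_apply _ _

variable (hs₁ : s₁ ≫ torsπ y₁ = (yon S).map v)

include hs₁ in
theorem ptBase_secPt {W : Over S} (g : W ⟶ V) : ptBase y₁ (secPt y₁ s₁ g) = g ≫ v :=
  (yon S).map_injective (by rw [ptBase, Functor.map_preimage, ptMap_secPt, Category.assoc, hs₁, Functor.map_comp])

/-- The morphism out of the trivial torsor attached to an isomorphism. -/
noncomputable def toHom₂ {W : Over S} (g : W ⟶ V) (x : IsomSheaf.Pt y₁ y₂ W) (hx : x.t = g ≫ v) :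
    Q (ptX y₁ (secPt y₁ s₁ g)) ⟶ tors y₂ :=
  (exists_ptIso y₁ (secPt y₁ s₁ g)).choose.inv ≫
    y₁.map (Over.homMk (𝟙 W) ((Category.id_comp _).trans (hx.trans (ptBase_secPt y₁ v s₁ hs₁ g).symm)) :
      (Over.mk (ptBase y₁ (secPt y₁ s₁ g)) : Over U) ⟶ Over.mk x.t) ≫ x.m ≫ y₂.map (toId (Over.mk x.t))

theorem toHom₂_lift {W : Over S} (g : W ⟶ V) (x : IsomSheaf.Pt y₁ y₂ W) (hx : x.t = g ≫ v) :
    (AlgSt.SpQuotSt K₀ G aX).p.IsHomLift (g ≫ v) (toHom₂ y₁ y₂ v s₁ hs₁ g x hx) := by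
  rw [← hx]
  have := (exists_ptIso y₁ (secPt y₁ s₁ g)).choose_spec.1
  have := IsHomLift.lift_id_inv (AlgSt.SpQuotSt K₀ G aX).p W (exists_ptIso y₁ (secPt y₁ s₁ g)).choose
  have := x.lift
  let c : (Over.mk (ptBase y₁ (secPt y₁ s₁ g)) : Over U) ⟶ Over.mk x.t :=
    Over.homMk (𝟙 W) ((Category.id_comp _).trans (hx.trans (ptBase_secPt y₁ v s₁ hs₁ g).symm))
  have : (AlgSt.SpQuotSt K₀ G aX).p.IsHomLift (𝟙 W) (y₁.map c) := overMap_isHomLift y₁ c
  have : (AlgSt.SpQuotSt K₀ G aX).p.IsHomLift x.t (y₂.map (toId (Over.mk x.t))) := overMap_isHomLift y₂ (toId (Over.mk x.t))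
  show (AlgSt.SpQuotSt K₀ G aX).p.IsHomLift x.t ((exists_ptIso y₁ (secPt y₁ s₁ g)).choose.inv ≫ y₁.map c ≫ x.m ≫
    y₂.map (toId (Over.mk x.t)))
  have h1 : (AlgSt.SpQuotSt K₀ G aX).p.IsHomLift x.t (x.m ≫ y₂.map (toId (Over.mk x.t))) :=
    IsHomLift.comp_lift_id_left' _ W x.m x.t _
  have h2 : (AlgSt.SpQuotSt K₀ G aX).p.IsHomLift x.t (y₁.map c ≫ x.m ≫ y₂.map (toId (Over.mk x.t))) :=
    IsHomLift.comp_lift_id_left' _ W (y₁.map c) x.t _
  exact IsHomLift.comp_lift_id_left' _ W _ x.t _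

/-- The point of the second torsor attached to an isomorphism. -/
noncomputable def toPt₂ {W : Over S} (g : W ⟶ V) (x : IsomSheaf.Pt y₁ y₂ W) (hx : x.t = g ≫ v) :
    (yon S).obj W ⟶ (tors y₂).P.left :=
  (secOfHom (toHom₂ y₁ y₂ v s₁ hs₁ g x hx)).left

theorem toPt₂_π {W : Over S} (g : W ⟶ V) (x : IsomSheaf.Pt y₁ y₂ W) (hx : x.t = g ≫ v) :
    toPt₂ y₁ y₂ v s₁ hs₁ g x hx ≫ torsπ y₂ = (yon S).map (g ≫ v) := by
  rw [torsπ, ← Category.assoc]
  refine (congrArg (· ≫ _) (congrArg CommaMorphism.left (secOfHom_π (toHom₂ y₁ y₂ v s₁ hs₁ g x hx)))).trans ?_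
  show (yon S).map (toHom₂ y₁ y₂ v s₁ hs₁ g x hx).base ≫ _ = _
  have := toHom₂_lift y₁ y₂ v s₁ hs₁ g x hx
  have e := IsHomLift.fac' (AlgSt.SpQuotSt K₀ G aX).p (g ≫ v) (toHom₂ y₁ y₂ v s₁ hs₁ g x hx)
  rw [← Functor.map_comp, show (toHom₂ y₁ y₂ v s₁ hs₁ g x hx).base = _ from e]
  simp

theorem toPt₂_nat {W W' : Over S} (k : W' ⟶ W) (g : W ⟶ V) (x : IsomSheaf.Pt y₁ y₂ W) (hx : x.t = g ≫ v)
    (x' : IsomSheaf.Pt y₁ y₂ W') (hx' : x'.t = (k ≫ g) ≫ v) (hr : IsomSheaf.IsRes k x' x) :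
    toPt₂ y₁ y₂ v s₁ hs₁ (k ≫ g) x' hx' = (yon S).map k ≫ toPt₂ y₁ y₂ v s₁ hs₁ g x hx := by
  let p : (AlgSt.ofSp (tors y₁).P.left).obj := secPt y₁ s₁ g
  let p' : (AlgSt.ofSp (tors y₁).P.left).obj := secPt y₁ s₁ (k ≫ g)
  let f : p' ⟶ p := ⟨k, by
    show (tors y₁).P.left.obj.map k.op ((J S).uliftYonedaEquiv ((yon S).map g ≫ s₁)) = _
    rw [uliftYonedaEquiv_precomp, ← Functor.map_comp_assoc]⟩
  let κ := (AlgSt.spQuotMap K₀ G aX).map ((AlgSt.ofSpMap (tors y₁).φ.left).map f)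
  have key : κ ≫ toHom₂ y₁ y₂ v s₁ hs₁ g x hx = toHom₂ y₁ y₂ v s₁ hs₁ (k ≫ g) x' hx' := by
    have hw : y₁.map (Over.homMk k (ptBase_comp y₁ f) :
          (Over.mk (ptBase y₁ p') : Over U) ⟶ Over.mk (ptBase y₁ p)) ≫ (exists_ptIso y₁ p).choose.hom =
        (exists_ptIso y₁ p').choose.hom ≫ κ := (ptObjMap y₁ f).hom.w
    let c : (Over.mk x'.t : Over U) ⟶ Over.mk x.t := Over.homMk k hr.1.symm
    have e := hr.2 c rfl
    rw [toHom₂, toHom₂, ← (exists_ptIso y₁ p').choose.inv_hom_id_assoc κ, ← hw]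
    simp only [Category.assoc, Iso.hom_inv_id_assoc]
    refine congrArg (_ ≫ ·) ?_
    rw [← IsomSheaf.map_toId_eq c, y₂.toFunctor.map_comp, ← Category.assoc x'.m, e, Category.assoc]
    simp only [← Category.assoc, ← y₁.toFunctor.map_comp]
    refine congrArg (fun m => (y₁.map m ≫ x.m) ≫ y₂.map (toId (Over.mk x.t))) (Over.OverMorphism.ext ?_)
    show k ≫ 𝟙 W = 𝟙 W' ≫ k
    simp
  show (secOfHom (toHom₂ y₁ y₂ v s₁ hs₁ (k ≫ g) x' hx')).left = _
  rw [← key, secOfHom_comp]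
  rfl

theorem toPt₂_φ {W : Over S} (g : W ⟶ V) (x : IsomSheaf.Pt y₁ y₂ W) (hx : x.t = g ≫ v) :
    toPt₂ y₁ y₂ v s₁ hs₁ g x hx ≫ (tors y₂).φ.left = ((yon S).map g ≫ s₁) ≫ (tors y₁).φ.left :=
  (congrArg CommaMorphism.left (secOfHom_φ (toHom₂ y₁ y₂ v s₁ hs₁ g x hx))).trans
    ((secYon_ptX y₁ (secPt y₁ s₁ g)).trans (by rw [ptMap_secPt]))

theorem existsUnique_toPt₂ {W : Over S} (g : W ⟶ V) (q : (yon S).obj W ⟶ (tors y₂).P.left)
    (hq : q ≫ torsπ y₂ = (yon S).map (g ≫ v))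
    (hqφ : q ≫ (tors y₂).φ.left = ((yon S).map g ≫ s₁) ≫ (tors y₁).φ.left) :
    ∃ x : IsomSheaf.Pt y₁ y₂ W, ∃ hx : x.t = g ≫ v, toPt₂ y₁ y₂ v s₁ hs₁ g x hx = q ∧
      ∀ (x' : IsomSheaf.Pt y₁ y₂ W) (hx' : x'.t = g ≫ v), toPt₂ y₁ y₂ v s₁ hs₁ g x' hx' = q → x' = x := by
  let p : (AlgSt.ofSp (tors y₁).P.left).obj := secPt y₁ s₁ g
  have hqX : q ≫ (tors y₂).φ.left = AlgSt.secYon (ptX y₁ p) := by
    rw [secYon_ptX, hqφ]
    exact congrArg (· ≫ _) (ptMap_secPt y₁ s₁ g).symm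
  let σ : src (ptX y₁ p) ⟶ (tors y₂).P := Over.homMk q (by
    show q ≫ (tors y₂).P.hom = AlgSt.secYon (ptX y₁ p) ≫ X.hom
    rw [← hqX, Category.assoc, Over.w (tors y₂).φ])
  let n : Q (ptX y₁ p) ⟶ tors y₂ :=
    homOfSec ((g ≫ v) ≫ eqToHom (y₂.w_obj (Over.mk (𝟙 U))).symm) σ (by
      show q ≫ (tors y₂).π.left = _
      rw [← cancel_mono ((yon S).map (eqToHom (y₂.w_obj (Over.mk (𝟙 U))))), Category.assoc]
      refine hq.trans ?_
      rw [← Functor.map_comp, Category.assoc, eqToHom_trans, eqToHom_refl]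
      exact congrArg (yon S).map (Category.comp_id _).symm) (Over.OverMorphism.ext hqX)
  have hn : (AlgSt.SpQuotSt K₀ G aX).p.IsHomLift (g ≫ v) n :=
    IsHomLift.of_fac' _ _ n rfl (y₂.w_obj _) (Category.id_comp _).symm
  let t : W ⟶ U := g ≫ v
  let c : (Over.mk t : Over U) ⟶ Over.mk (ptBase y₁ p) :=
    Over.homMk (𝟙 W) ((Category.id_comp _).trans (ptBase_secPt y₁ v s₁ hs₁ g))
  have hlift2 : (AlgSt.SpQuotSt K₀ G aX).p.IsHomLift t (y₂.map (toId (Over.mk t))) := overMap_isHomLift y₂ (toId (Over.mk t))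
  have hspec := (exists_ptIso y₁ p).choose_spec.1
  have hc : (AlgSt.SpQuotSt K₀ G aX).p.IsHomLift (𝟙 W) (y₁.map c) := overMap_isHomLift y₁ c
  have h1 : (AlgSt.SpQuotSt K₀ G aX).p.IsHomLift t ((exists_ptIso y₁ p).choose.hom ≫ n) :=
    IsHomLift.comp_lift_id_left' _ W _ t n
  have h2 : (AlgSt.SpQuotSt K₀ G aX).p.IsHomLift t (y₁.map c ≫ (exists_ptIso y₁ p).choose.hom ≫ n) :=
    IsHomLift.comp_lift_id_left' _ W _ t _
  have := isSC (hp := isFibGrpd) t (y₂.map (toId (Over.mk t)))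
  let m := IsStronglyCartesian.map (AlgSt.SpQuotSt K₀ G aX).p t (y₂.map (toId (Over.mk t))) (Category.id_comp t).symm
    (y₁.map c ≫ (exists_ptIso y₁ p).choose.hom ≫ n)
  have hm : m ≫ y₂.map (toId (Over.mk t)) = y₁.map c ≫ (exists_ptIso y₁ p).choose.hom ≫ n :=
    IsStronglyCartesian.fac _ _ _ _ _
  let x : IsomSheaf.Pt y₁ y₂ W := ⟨t, m, inferInstance⟩
  have hcc : ∀ d : (Over.mk (ptBase y₁ p) : Over U) ⟶ Over.mk t, d.left = 𝟙 W → y₁.map d ≫ y₁.map c = 𝟙 _ := fun d hd => by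
    rw [← y₁.toFunctor.map_comp, ← y₁.toFunctor.map_id]
    exact congrArg y₁.map (Over.OverMorphism.ext ((congrArg (· ≫ 𝟙 W) hd).trans (Category.id_comp _)))
  have hx0 : toHom₂ y₁ y₂ v s₁ hs₁ g x rfl = n := by
    show (exists_ptIso y₁ p).choose.inv ≫ y₁.map _ ≫ m ≫ y₂.map (toId (Over.mk t)) = n
    refine (congrArg (fun r => _ ≫ _ ≫ r) hm).trans ?_
    refine (congrArg (_ ≫ ·) ((Category.assoc _ _ _).symm.trans ((congrArg (· ≫ _) (hcc _ rfl)).trans
      (Category.id_comp _)))).trans (Iso.inv_hom_id_assoc _ _)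
  refine ⟨x, rfl, ?_, fun x' hx' hq' => ?_⟩
  · show (secOfHom (toHom₂ y₁ y₂ v s₁ hs₁ g x rfl)).left = q
    rw [hx0, secOfHom_homOfSec]
    rfl
  · obtain ⟨t', m', hm'⟩ := x'
    obtain rfl : t' = t := hx'
    have e : toHom₂ y₁ y₂ v s₁ hs₁ g ⟨t, m', hm'⟩ rfl = toHom₂ y₁ y₂ v s₁ hs₁ g x rfl := by
      rw [hx0]
      refine hom_ext_sec ?_ (Over.OverMorphism.ext ?_)
      · have := toHom₂_lift y₁ y₂ v s₁ hs₁ g ⟨t, m', hm'⟩ rfl
        exact (IsHomLift.fac' (AlgSt.SpQuotSt K₀ G aX).p (g ≫ v) (toHom₂ y₁ y₂ v s₁ hs₁ g ⟨t, m', hm'⟩ rfl)).trans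
          (IsHomLift.fac' (AlgSt.SpQuotSt K₀ G aX).p (g ≫ v) n).symm
      · rw [secOfHom_homOfSec]
        exact hq'
    let d : (Over.mk (ptBase y₁ p) : Over U) ⟶ Over.mk t :=
      Over.homMk (𝟙 W) ((Category.id_comp _).trans (ptBase_secPt y₁ v s₁ hs₁ g).symm)
    have e' : y₁.map d ≫ m' ≫ y₂.map (toId (Over.mk t)) = y₁.map d ≫ m ≫ y₂.map (toId (Over.mk t)) := by
      have := congrArg ((exists_ptIso y₁ p).choose.hom ≫ ·) e
      simpa [toHom₂] using this
    have hdc : y₁.map c ≫ y₁.map d = 𝟙 _ := by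
      rw [← y₁.toFunctor.map_comp, ← y₁.toFunctor.map_id]
      exact congrArg y₁.map (Over.OverMorphism.ext (Category.id_comp _))
    have e'' := congrArg (y₁.map c ≫ ·) e'
    simp only [reassoc_of% hdc] at e''
    have : (AlgSt.SpQuotSt K₀ G aX).p.IsHomLift (𝟙 W) m' := hm'
    have : (AlgSt.SpQuotSt K₀ G aX).p.IsHomLift (𝟙 W) m := x.lift
    obtain rfl : m' = m := IsStronglyCartesian.ext (AlgSt.SpQuotSt K₀ G aX).p t (y₂.map (toId (Over.mk t))) (𝟙 W) e''
    rfl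

variable {v}

/-- The first map to the space acted on. -/
noncomputable abbrev mapA : pullback (torsπ y₂) ((yon S).map v) ⟶ X.left :=
  pullback.fst _ _ ≫ (tors y₂).φ.left

/-- The second map to the space acted on. -/
noncomputable abbrev mapB : pullback (torsπ y₂) ((yon S).map v) ⟶ X.left :=
  pullback.snd _ _ ≫ s₁ ≫ (tors y₁).φ.left

/-- The locus where the maps to the space acted on agree. -/
noncomputable abbrev locus : Sp S :=
  pullback (prod.lift (mapA (v := v) y₂) (mapB y₁ y₂ (v := v) s₁)) (Limits.diag X.left)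

theorem locus_eq {W : Over S} (r : (yon S).obj W ⟶ locus y₁ y₂ (v := v) s₁) :
    (r ≫ pullback.fst _ _) ≫ mapA (v := v) y₂ = (r ≫ pullback.fst _ _) ≫ mapB y₁ y₂ (v := v) s₁ := by
  have h := congrArg (r ≫ ·) (pullback.condition (f := prod.lift (mapA (v := v) y₂) (mapB y₁ y₂ (v := v) s₁))
    (g := Limits.diag X.left))
  have h1 := congrArg (· ≫ Limits.prod.fst) h
  have h2 := congrArg (· ≫ Limits.prod.snd) h
  simp only [Category.assoc, prod.lift_fst, prod.lift_snd, Category.comp_id] at h1 h2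
  rw [Category.assoc, Category.assoc, h1, h2]

theorem isAlgSpace_locus (hB : IsAlgSpace B) (hG : IsAlgSpace G.left) (hX : IsAlgSpace X.left) :
    IsAlgSpace (locus y₁ y₂ (v := v) s₁) :=
  isAlgSpace_pullback (isAlgSpace_pullback (isAlgSpace_torsor hB hG (tors y₂)) (IsAlgSpace.yon_obj V)
    (IsAlgSpace.yon_obj U) _ _) hX (isAlgSpace_prod hX hX) _ _

include hs₁ in
/-- After trivialising the first torsor, the sheaf of isomorphisms is the locus in the second torsor. -/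
theorem exists_isom_iso : ∃ e : pullback πI ((yon S).map v) ≅ locus y₁ y₂ (v := v) s₁,
    e.hom ≫ pullback.fst _ _ ≫ pullback.snd _ _ = pullback.snd _ _ := by
  let gOf : ∀ (W : Over S), ((yon S).obj W ⟶ pullback πI ((yon S).map v)) → (W ⟶ V) := fun W p =>
    (yon S).preimage (p ≫ pullback.snd _ _)
  let xOf : ∀ (W : Over S), ((yon S).obj W ⟶ pullback πI ((yon S).map v)) → IsomSheaf.Pt y₁ y₂ W := fun W p =>
    (J S).uliftYonedaEquiv (p ≫ pullback.fst _ _)
  have hπ : ∀ (W : Over S) (z : (yon S).obj W ⟶ I₁₂), z ≫ πI =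
      (yon S).map ((J S).uliftYonedaEquiv z : IsomSheaf.Pt y₁ y₂ W).t := fun W z => by
    apply (J S).uliftYonedaEquiv.injective
    rw [GrothendieckTopology.uliftYonedaEquiv_comp, GrothendieckTopology.uliftYonedaEquiv_uliftYoneda_map]
    rfl
  have hx : ∀ W p, (xOf W p).t = gOf W p ≫ v := fun W p => (yon S).map_injective (by
    rw [← hπ, Functor.map_comp, Functor.map_preimage, Category.assoc, Category.assoc, pullback.condition])
  let Φ₀ : ∀ W, ((yon S).obj W ⟶ pullback πI ((yon S).map v)) → ((yon S).obj W ⟶ pullback (torsπ y₂) ((yon S).map v)) :=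
    fun W p => pullback.lift (toPt₂ y₁ y₂ v s₁ hs₁ (gOf W p) (xOf W p) (hx W p)) (p ≫ pullback.snd _ _) (by
      rw [toPt₂_π, Functor.map_comp, Functor.map_preimage, Category.assoc])
  let Φ : ∀ W, ((yon S).obj W ⟶ pullback πI ((yon S).map v)) → ((yon S).obj W ⟶ locus y₁ y₂ (v := v) s₁) :=
    fun W p => pullback.lift (Φ₀ W p) (Φ₀ W p ≫ mapA (v := v) y₂) (by
      refine Limits.prod.hom_ext ?_ ?_
      · simp
      · simp only [Φ₀, Category.assoc, prod.lift_snd, Category.comp_id, mapA, mapB, pullback.lift_fst_assoc,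
          pullback.lift_snd_assoc]
        rw [toPt₂_φ]
        simp only [gOf, Functor.map_preimage, Category.assoc])
  have hcongr : ∀ {W : Over S} {g g' : W ⟶ V} (e : g = g') (x : IsomSheaf.Pt y₁ y₂ W) (h : x.t = g ≫ v) (h' : x.t = g' ≫ v),
      toPt₂ y₁ y₂ v s₁ hs₁ g x h = toPt₂ y₁ y₂ v s₁ hs₁ g' x h' := by
    rintro W g _ rfl x h h'; rfl
  have hnat : ∀ {W' W : Over S} (k : W' ⟶ W) (p : (yon S).obj W ⟶ pullback πI ((yon S).map v)),
      Φ₀ W' ((yon S).map k ≫ p) = (yon S).map k ≫ Φ₀ W p := fun {W' W} k p => by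
    refine pullback.hom_ext ?_ (by simp [Φ₀])
    simp only [Φ₀, Category.assoc, pullback.lift_fst]
    have hg : gOf W' ((yon S).map k ≫ p) = k ≫ gOf W p := (yon S).map_injective (by simp [gOf])
    have hr : IsomSheaf.IsRes k (xOf W' ((yon S).map k ≫ p)) (xOf W p) := by
      have e : IsomSheaf.res isPrestack_spQuot.1 k (xOf W p) = xOf W' ((yon S).map k ≫ p) := by
        show (IsomSheaf.isom y₁ y₂ isPrestack_spQuot).obj.map k.op ((J S).uliftYonedaEquiv _) = (J S).uliftYonedaEquiv _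
        rw [uliftYonedaEquiv_precomp, Category.assoc]
      rw [← e]; exact IsomSheaf.isRes_res _ _ _
    rw [hcongr hg _ _ (hg ▸ hx W' _), toPt₂_nat y₁ y₂ v s₁ hs₁ k (gOf W p) (xOf W p) (hx W p) _ _ hr]
  let cmp := SheafGlue.homOfPoints Φ fun W' W k p => by
    refine pullback.hom_ext ?_ ?_ <;> simp only [Φ, Category.assoc, pullback.lift_fst, pullback.lift_snd, hnat]
  have hcmp : ∀ W p, p ≫ cmp = Φ W p := fun W p => SheafGlue.comp_homOfPoints Φ _ p
  have : IsIso cmp := isIso_of_bijective_points cmp fun W r => by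
    let r₀ := r ≫ pullback.fst _ _
    obtain ⟨g, hg⟩ := (yon S).map_surjective (r₀ ≫ pullback.snd _ _)
    have hq : (r₀ ≫ pullback.fst _ _) ≫ torsπ y₂ = (yon S).map (g ≫ v) := by
      rw [Category.assoc, pullback.condition, ← Category.assoc, ← hg, Functor.map_comp]
    have hqφ : (r₀ ≫ pullback.fst _ _) ≫ (tors y₂).φ.left = ((yon S).map g ≫ s₁) ≫ (tors y₁).φ.left := by
      rw [hg]
      simpa [r₀, mapA, mapB] using locus_eq y₁ y₂ s₁ r
    obtain ⟨x, hxt, hxq, hxu⟩ := existsUnique_toPt₂ y₁ y₂ v s₁ hs₁ g (r₀ ≫ pullback.fst _ _) hq hqφ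
    let p : (yon S).obj W ⟶ pullback πI ((yon S).map v) :=
      pullback.lift ((J S).uliftYonedaEquiv.symm x) ((yon S).map g) (by
        rw [hπ, Equiv.apply_symm_apply, ← Functor.map_comp, hxt])
    have hgp : gOf W p = g := (yon S).map_injective (by simp [gOf, p])
    have hxp : xOf W p = x := by simp [xOf, p]
    have hsnd : ∀ (r : (yon S).obj W ⟶ locus y₁ y₂ (v := v) s₁),
        r ≫ pullback.snd _ _ = (r ≫ pullback.fst _ _) ≫ mapA (v := v) y₂ := fun r => by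
      have h := congrArg (fun t => r ≫ t ≫ Limits.prod.fst) (pullback.condition
        (f := prod.lift (mapA (v := v) y₂) (mapB y₁ y₂ (v := v) s₁)) (g := Limits.diag X.left))
      simp only [Category.assoc, prod.lift_fst, Category.comp_id] at h
      rw [Category.assoc, h]
    refine ⟨p, ?_, fun p' hp' => ?_⟩
    · show p ≫ cmp = r
      rw [hcmp]
      have e0 : Φ₀ W p = r₀ := by
        refine pullback.hom_ext ?_ (by simp [Φ₀, p, hg])
        rw [pullback.lift_fst, ← hxq, hcongr hgp _ _ (hgp ▸ hx W p)]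
        congr 1
      refine pullback.hom_ext ?_ ?_
      · rw [pullback.lift_fst, e0]
      · rw [pullback.lift_snd, e0, hsnd r]
    · change p' ≫ cmp = r at hp'
      rw [hcmp] at hp'
      have hp0 : Φ₀ W p' = r₀ := by simp only [r₀, ← hp', Φ, pullback.lift_fst]
      have hg' : gOf W p' = g := (yon S).map_injective (by
        rw [Functor.map_preimage, hg, ← hp0, pullback.lift_snd])
      refine pullback.hom_ext ?_ (by rw [pullback.lift_snd, hg, ← hp0, pullback.lift_snd])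
      rw [pullback.lift_fst]
      apply (J S).uliftYonedaEquiv.injective
      rw [Equiv.apply_symm_apply]
      refine hxu (xOf W p') ((hx W p').trans (congrArg (· ≫ v) hg')) ?_
      rw [← hcongr hg' _ (hx W p') _, ← hp0, pullback.lift_fst]
  exact ⟨asIso cmp, SheafGlue.hom_ext_points fun W p => by
    rw [← Category.assoc, asIso_hom, hcmp, pullback.lift_fst_assoc, pullback.lift_snd]⟩

end Trivialised

variable {y₁}

/-- A torsor over `U` has sections over an fppf covering of `U`. -/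
theorem exists_cover (hπ : AlgSt.HasSecLoc K₀ (tors y₁).π.left) :
    ∃ (I : Type u) (V : I → Over S) (v : ∀ i, V i ⟶ U) (s : ∀ i, (yon S).obj (V i) ⟶ (tors y₁).P.left),
      (∀ i, s i ≫ torsπ y₁ = (yon S).map (v i)) ∧
      IsFppfCover (fun i => (yon S).obj (V i)) (fun i => (yon S).map (v i)) := by
  obtain ⟨R, hR, hs⟩ := hπ
  obtain ⟨I, Z, g, rfl⟩ := Presieve.exists_eq_ofArrows R
  rw [mem_fppfPrecoverage_iff] at hR
  let e := y₁.w_obj (Over.mk (𝟙 U))
  choose idx hidx using hR.1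
  choose s hs using fun t => hs (g (idx t)) ⟨idx t⟩
  have : Function.Surjective (eqToHom e).left := fun x => ⟨(eqToHom e.symm).left x, by
    rw [← Scheme.Hom.comp_apply, ← Over.comp_left, eqToHom_trans, eqToHom_refl]; rfl⟩
  choose pre hpre using this
  refine ⟨_, fun x => Over.mk (g (idx (pre x)) ≫ (tors y₁).base.hom), fun x => Over.homMk (g (idx (pre x))) ≫ eqToHom e,
    fun x => s (pre x), fun x => ?_, isFppfCover_yon_map _ _ (fun x => ?_) (fun x => ?_) fun x => ?_⟩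
  · rw [torsπ, reassoc_of% (hs (pre x)), ← Functor.map_comp]
  · obtain ⟨_, _⟩ := hR.2 (idx (pre x))
    show Flat (g (idx (pre x)) ≫ (eqToHom e).left)
    infer_instance
  · obtain ⟨_, _⟩ := hR.2 (idx (pre x))
    show LocallyOfFinitePresentation (g (idx (pre x)) ≫ (eqToHom e).left)
    infer_instance
  · obtain ⟨z, hz⟩ := hidx (pre x)
    exact ⟨x, z, (congrArg (eqToHom e).left hz).trans (hpre x)⟩

variable (y₁)

/-- The sheaf of isomorphisms is an algebraic space. -/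
theorem isAlgSpace_isom (hB : IsAlgSpace B) (hG : IsAlgSpace G.left) (hX : IsAlgSpace X.left) :
    IsAlgSpace I₁₂ := by
  obtain ⟨I, V, v, s, hs, hcov⟩ := exists_cover (y₁ := y₁) (tors y₁).loc
  refine isAlgSpace_of_fppf_local (IsAlgSpace.yon_obj U) (fun i => IsAlgSpace.yon_obj (V i)) _ hcov πI fun i => ?_
  exact (isAlgSpace_locus y₁ y₂ (s i) hB hG hX).of_iso (exists_isom_iso y₁ y₂ (s i) (hs i)).choose.symm

/-- The diagonal of a quotient stack is representable by algebraic spaces. -/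
theorem repByAlgSp1_diag (hB : IsAlgSpace B) (hG : IsAlgSpace G.left) (hX : IsAlgSpace X.left) :
    AlgSt.RepByAlgSp1 (FibCat.diag (FibCat.toSelf (AlgSt.SpQuotSt K₀ G aX))) := fun U y =>
  ⟨⟨_, isAlgSpace_isom (IsomSheaf.fstC y) (IsomSheaf.sndC y) hB hG hX⟩, IsomSheaf.isomFun isPrestack_spQuot y,
    IsomSheaf.isomFun_isEquivOver isPrestack_spQuot y⟩

end Groth.Agent.FCov14.QuotDiag
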