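import Groth.Agent.FCov14.QuotDiag
import Groth.Agent.FCov14.BigEquiv

/-! Properties of the diagonal of a quotient stack. -/

set_option autoImplicit false
set_option backward.isDefEq.respectTransparency false
set_option backward.isDefEq.respectTransparency.types false

universe u

open CategoryTheory CategoryTheory.Limits MonoidalCategory Opposite AlgebraicGeometry AlgSp
open Groth.Agent.AlgSpLib Groth.Agent.FibBase Groth.Agent.AlgSpDec Groth.Agent.AlgStLib Groth.Agent.AlgStLib.SpQuot

namespace Groth.Agent.FCov14.QuotDiag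

variable {S : Scheme.{u}} {B : Sp S} {G : Over B} [GrpObj G] {X : Over B} {aX : GAction G X}

local notation "K₀" => Scheme.fppfPrecoverage

/-- The sheaf of isomorphisms has the properties of the group and of the diagonal. -/
theorem property_isom {U : Over S} (y₁ y₂ : FibCat.overCat U ⥤ᵇ AlgSt.SpQuotSt K₀ G aX)
    (hB : IsAlgSpace B) (hG : IsAlgSpace G.left) (hX : IsAlgSpace X.left) {P : MorphismProperty (Sp S)}
    (hPb : StableBC P) (hPc : StableComp P) (hloc : IsLocalOnBase IsFppfCover P) (hP : P G.hom)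
    (hΔ : P (Limits.diag X.left)) :
    P (IsomSheaf.isomπ y₁ y₂ isPrestack_spQuot) := by
  obtain ⟨I, V, v, s, hs, hcov⟩ := exists_cover (y₁ := y₁) (tors y₁).loc
  have hU := IsAlgSpace.yon_obj U
  have hV : ∀ i, IsAlgSpace ((yon S).obj (V i)) := fun i => IsAlgSpace.yon_obj (V i)
  have hT := isAlgSpace_torsor hB hG (tors y₂)
  have hI := isAlgSpace_isom y₁ y₂ hB hG hX
  refine (hloc _ _ hU hV hcov _ hI _ (fun i => pullback.snd _ _) (fun i => pullback.fst _ _)
    (fun i => isAlgSpace_pullback hI (hV i) hU _ _) (fun i => IsPullback.of_hasPullback _ _)).2 fun i => ?_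
  obtain ⟨e, he⟩ := exists_isom_iso y₁ y₂ (s i) (hs i)
  have hL := isAlgSpace_locus y₁ y₂ (v := v i) (s i) hB hG hX
  have hQ : IsAlgSpace (pullback (torsπ y₂) ((yon S).map (v i))) := isAlgSpace_pullback hT (hV i) hU _ _
  have hPi := isAlgSpace_pullback hI (hV i) hU (IsomSheaf.isomπ y₁ y₂ isPrestack_spQuot) ((yon S).map (v i))
  have hsnd : P (pullback.snd (torsπ y₂) ((yon S).map (v i))) :=
    hPb hT hU hQ (hV i) _ _ _ _ (IsPullback.of_hasPullback _ _)
      (hPb hT (IsAlgSpace.yon_obj _) hT hU _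
        ((yon S).map (eqToHom (y₂.w_obj (Over.mk (𝟙 U))).symm)) _ (𝟙 _)
        (IsPullback.of_horiz_isIso ⟨by
          rw [torsπ, Category.id_comp, Category.assoc, ← Functor.map_comp, eqToHom_trans, eqToHom_refl]
          exact (Category.comp_id _).symm.trans (congrArg (_ ≫ ·) ((yon S).map_id _).symm)⟩)
        (property_torsπ hB hG hPb hloc hP (tors y₂)))
  have h₁ : P (pullback.fst (prod.lift (mapA (v := v i) y₂) (mapB y₁ y₂ (v := v i) (s i))) (Limits.diag X.left)) :=
    hPb hX (isAlgSpace_prod hX hX) hL hQ _ _ _ _ (IsPullback.of_hasPullback _ _).flip hΔ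
  have h₂ := hPc hL hQ (hV i) _ _ h₁ hsnd
  exact hPb hL (hV i) hPi (hV i) _ (𝟙 _) _ e.hom (IsPullback.of_horiz_isIso ⟨by rw [Category.comp_id]; exact he⟩) h₂

/-- The diagonal of a quotient stack has the properties of the group and of the diagonal. -/
theorem repByAlgSpWith_diag (hB : IsAlgSpace B) (hG : IsAlgSpace G.left) (hX : IsAlgSpace X.left)
    {P : MorphismProperty (Sp S)} (hPb : StableBC P) (hPc : StableComp P) (hloc : IsLocalOnBase IsFppfCover P)
    (hP : P G.hom) (hΔ : P (Limits.diag X.left)) :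
    AlgSt.RepByAlgSpWith P (FibCat.diag (FibCat.toSelf (AlgSt.SpQuotSt K₀ G aX))) := fun U y =>
  ⟨⟨_, isAlgSpace_isom (IsomSheaf.fstC y) (IsomSheaf.sndC y) hB hG hX⟩, IsomSheaf.isomFun isPrestack_spQuot y,
    IsomSheaf.isomFun_isEquivOver isPrestack_spQuot y, by
      rw [IsomSheaf.spMapOfOver_isomFun]
      exact property_isom (IsomSheaf.fstC y) (IsomSheaf.sndC y) hB hG hX hPb hPc hloc hP hΔ⟩

end Groth.Agent.FCov14.QuotDiag
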