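import Groth.Agent.FCov14.QuotSch
import Groth.Agent.QuotLib.AtlasProps
import Groth.Agent.QuotLib.Descend
import Groth.Agent.AlgStLib.SmoothBootstrap
import Groth.Agent.AlgStLib.SmoothLocally
import Groth.Agent.AlgStLib.FppfSite
import Groth.Agent.SmoothSecLib.Basic
import Groth.Agent.AlgSpLib.AffineDescProps

/-! Quotient stacks by smooth affine groups for the etale topology. -/

set_option autoImplicit false
set_option backward.isDefEq.respectTransparency false
set_option backward.isDefEq.respectTransparency.types false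

universe u

open CategoryTheory CategoryTheory.Limits MonoidalCategory CartesianMonoidalCategory AlgebraicGeometry AlgSp
open Groth.Agent.AlgSpLib Groth.Agent.AlgStLib Groth.Agent.FibBase Groth.Agent.QuotLib

noncomputable section

namespace Groth.Agent.FCov14.QuotEt

variable {S : Scheme.{u}} {G : Over S} [GrpObj G] {X : Over S} {aX : AlgGrp.Action G X}

local notation "K₀" => Scheme.fppfPrecoverage
local notation "Ke" => Scheme.etalePrecoverage

theorem loc_fppf {X' : Scheme.{u}} {P : Over X'} (h : NonAbH1.IsLocallyTrivialFor Ke P) :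
    NonAbH1.IsLocallyTrivialFor K₀ P :=
  ⟨h.choose, Scheme.precoverage_mono (P := @Etale) (Q := @Flat ⊓ @LocallyOfFinitePresentation)
    (fun _ _ f (_ : Etale f) => ⟨inferInstanceAs (Flat f), inferInstanceAs (LocallyOfFinitePresentation f)⟩)
    X' h.choose_spec.1, h.choose_spec.2⟩

/-- An etale torsor as a flat torsor. -/
def toF (A : AlgSt.QuotObj Ke G aX) : AlgSt.QuotObj K₀ G aX :=
  ⟨A.base, A.P, A.act, A.π, A.cart, loc_fppf A.loc, A.φ, A.eqv⟩

variable [Smooth G.hom]

theorem smooth_π (A : AlgSt.QuotObj K₀ G aX) : Smooth A.π.left := by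
  have h := locP_π (R := @Smooth) (isLocalOnBase_fppf_of_fpqc isLocalOnBase_fpqc_locP) ‹_› A (U := A.base) rfl
  rw [eqToHom_refl, Category.comp_id] at h
  exact locP_left _ h

theorem loc_etale (A : AlgSt.QuotObj K₀ G aX) :
    NonAbH1.IsLocallyTrivialFor Ke (Over.mk A.π.left : Over A.base.left) := by
  have := smooth_π A
  have hsurj : Function.Surjective A.π.left := by
    have h := surjective_π A (U := A.base) rfl
    rw [eqToHom_refl, Category.comp_id] at h
    exact isSurjective_left_of_map _ h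
  choose p hp using hsurj
  choose S' g s' _ hg hgs t ht using fun x =>
    Groth.Agent.SmoothSecLib.exists_etale_section_scheme A.π.left (p x)
  refine ⟨Presieve.ofArrows S' g,
    (Scheme.ofArrows_mem_precoverage_iff (P := @Etale)).2 ⟨fun x => ⟨x, s' x, (hgs x).trans (hp x)⟩, hg⟩, ?_⟩
  rintro T f ⟨x⟩
  exact ⟨t x, ht x⟩

/-- A flat torsor under a smooth group as an etale torsor. -/
def ofF (A : AlgSt.QuotObj K₀ G aX) : AlgSt.QuotObj Ke G aX :=
  ⟨A.base, A.P, A.act, A.π, A.cart, loc_etale A, A.φ, A.eqv⟩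

/-- Etale torsors into flat torsors. -/
def toFFun : AlgSt.QuotSt Ke G aX ⥤ᵇ AlgSt.QuotSt K₀ G aX where
  toFunctor :=
    { obj := toF
      map := fun f => ⟨f.base, f.top, f.eqv, f.cart, f.wφ⟩ }
  w := rfl

/-- Flat torsors into etale torsors. -/
def ofFFun : AlgSt.QuotSt K₀ G aX ⥤ᵇ AlgSt.QuotSt Ke G aX where
  toFunctor :=
    { obj := ofF
      map := fun f => ⟨f.base, f.top, f.eqv, f.cart, f.wφ⟩ }
  w := rfl

theorem toFFun_isEquivOver : FibCat.IsEquivOver (toFFun (G := G) (aX := aX)) :=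
  ⟨ofFFun, ⟨eqToIso rfl⟩, ⟨eqToIso rfl⟩⟩

theorem isAlgStack [IsAffineHom G.hom] : AlgSt.IsAlgStack Ke (AlgSt.QuotSt Ke G aX) := by
  have h := Compare.isAlgStack_quotSt (G := G) aX
  exact (isAlgStack_iff_of_isEquivOver toFFun_isEquivOver).2
    ⟨isStack_etale_of_fppf h.isStack, h.diag, h.atlas⟩

theorem isAffineMor_π [IsAffineHom G.hom] (A : AlgSt.QuotObj K₀ G aX) {U : Over S} (eU : A.base = U) :
    IsAffineMor ((yon S).map (A.π ≫ eqToHom eU)) := by
  subst eU
  rw [eqToHom_refl, Category.comp_id]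
  obtain ⟨Rv, hR, hsec⟩ := A.loc
  have hcov : ∀ x : ↥A.base.left, ∃ (T' : Scheme.{u}) (f : T' ⟶ A.base.left), Rv f ∧ x ∈ Set.range f := fun x => by
    obtain ⟨Y, g, ⟨hg⟩, hx⟩ := hR.1 x
    exact ⟨_, _, hg, hx⟩
  choose T f hf hx using hcov
  choose s hs using fun x => hsec (f x) (hf x)
  have hs' : ∀ x, s x ≫ A.π.left = f x := hs
  let Ts : ↥A.base.left → Over S := fun x => Over.mk (f x ≫ A.base.hom)
  let b : ∀ x, Ts x ⟶ A.P := fun x => Over.homMk (s x) (by
    show s x ≫ A.P.hom = f x ≫ A.base.hom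
    rw [← Over.w A.π, ← Category.assoc, hs'])
  refine ((isLocalOnBase_fppf_of_fpqc isLocalOnBase_fpqc_isAffineMor) (fun x => (yon S).obj (Ts x))
    (fun x => (yon S).map (b x ≫ A.π)) (IsAlgSpace.yon_obj _) (fun x => IsAlgSpace.yon_obj _)
    (isFppfCover_yon_map Ts (fun x => b x ≫ A.π) (fun x => ?_) (fun x => ?_) (fun x => ⟨x, ?_⟩))
    ((yon S).map A.π) (IsAlgSpace.yon_obj _) (fun x => (yon S).obj (G ⊗ Ts x))
    (fun x => (yon S).map (snd G (Ts x))) (fun x => (yon S).map ((G ◁ b x) ≫ A.act.act))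
    (fun x => IsAlgSpace.yon_obj _)
    (fun x => ((AlgSt.isPullback_whiskerLeft (b x)).paste_horiz A.cart).map (yon S))).2
    fun x => Groth.Agent.AlgSpDec.isAffineMor_of_repWith le_rfl
      ((repWith_yon_map_iff _ _).2 (flat_snd (R := @IsAffineHom) ‹_› (Ts x)))
  · show Flat (s x ≫ A.π.left)
    rw [hs']; exact (hR.2 (hf x)).1
  · show LocallyOfFinitePresentation (s x ≫ A.π.left)
    rw [hs']; exact (hR.2 (hf x)).2
  · show x ∈ Set.range (s x ≫ A.π.left)
    rw [hs']; exact hx x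

theorem quotMap_props [IsAffineHom G.hom] :
    AlgSt.RepByAlgSpWith (LocP @Smooth) (quotOver Ke G aX) ∧
      AlgSt.RepByAlgSpWith IsSurjectiveMor (quotOver Ke G aX) ∧
        AlgSt.RepByAlgSpWith IsAffineMor (quotOver Ke G aX) :=
  ⟨repByAlgSpWith_quot _ fun A _ eU =>
      locP_π (isLocalOnBase_fppf_of_fpqc isLocalOnBase_fpqc_locP) ‹_› (toF A) eU,
    repByAlgSpWith_quot _ fun A _ eU => surjective_π (toF A) eU,
    repByAlgSpWith_quot _ fun A _ eU => isAffineMor_π (toF A) eU⟩

end Groth.Agent.FCov14.QuotEt
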