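import Groth.Agent.FCov14.QuotEt
import Groth.Agent.FCov14.QuotDiagProp
import Groth.Agent.AlgStLib.Small
import Groth.Agent.AlgStLib.RepDiag

/-! The diagonal of an etale quotient stack is affine. -/

set_option autoImplicit false
set_option backward.isDefEq.respectTransparency false
set_option backward.isDefEq.respectTransparency.types false

universe u

open CategoryTheory CategoryTheory.Limits MonoidalCategory AlgebraicGeometry AlgSp
open Groth.Agent.AlgSpLib Groth.Agent.AlgSpGrp Groth.Agent.AlgStLib Groth.Agent.FibBase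

namespace Groth.Agent.FCov14.QuotEt

variable {S : Scheme.{u}}

theorem repByAlgSpWith_diag_toSelf_iff {𝒳 𝒴 : AlgSt.Cat S} {e : 𝒳 ⥤ᵇ 𝒴} (he : FibCat.IsEquivOver e)
    {P : MorphismProperty (Sp S)} :
    AlgSt.RepByAlgSpWith P (FibCat.diag (FibCat.toSelf 𝒴)) ↔ AlgSt.RepByAlgSpWith P (FibCat.diag (FibCat.toSelf 𝒳)) := by
  have : (BasedFunctor.id (FibCat.selfOver (Over S) : AlgSt.Cat S)).toFunctor.Full := inferInstanceAs (𝟭 _).Full
  have : (BasedFunctor.id (FibCat.selfOver (Over S) : AlgSt.Cat S)).toFunctor.Faithful := inferInstanceAs (𝟭 _).Faithful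
  let i : BasedFunctor.comp e (FibCat.toSelf 𝒴) ≅ BasedFunctor.comp (FibCat.toSelf 𝒳) (BasedFunctor.id _) :=
    eqToIso ((comp_toSelf e).trans (eq_toSelf _).symm)
  exact repByAlgSpWith_iff_of_square (f := FibCat.diag (FibCat.toSelf 𝒴)) (f' := FibCat.diag (FibCat.toSelf 𝒳))
    (a := e) (b := fpMap (F := FibCat.toSelf 𝒴) (G := FibCat.toSelf 𝒴) (F' := FibCat.toSelf 𝒳)
      (G' := FibCat.toSelf 𝒳) i i.symm) he
    (fpMap_isEquivOver _ _ he he) (diagMapIso e (BasedFunctor.id _) i)

/-- Etale quotient stacks by smooth affine groups of schemes with affine diagonal have affine diagonal. -/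
theorem isAffineMor_diag (G : Over S) [GrpObj G] [Smooth G.hom] [IsAffineHom G.hom] (X : Over S)
    (aX : AlgGrp.Action G X) [IsAffineHom (pullback.diagonal X.hom)] :
    AlgSt.RepByAlgSpWith IsAffineMor (FibCat.diag (FibCat.toSelf (AlgSt.QuotSt Scheme.etalePrecoverage G aX))) := by
  refine (repByAlgSpWith_diag_toSelf_iff toFFun_isEquivOver).1 (Het.repByAlgSpWith_diag Compare.functor_isEquivOver ?_)
  obtain ⟨h, hh, e⟩ := Compare.hom_left_eq (G := G)
  refine QuotDiag.repByAlgSpWith_diag (IsAlgSpace.yon_obj _) (IsAlgSpace.yon_obj G) (IsAlgSpace.yon_obj X)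
    stableBC_isAffineMor stableComp_isAffineMor (isLocalOnBase_fppf_of_fpqc isLocalOnBase_fpqc_isAffineMor) ?_
    (Groth.Agent.AlgSpDec.isAffineMor_of_repWith le_rfl ((AlgSp.repWith_diag_yon_iff @IsAffineHom X).2 ‹_›))
  rw [← hh]
  refine Groth.Agent.AlgSpDec.isAffineMor_of_repWith le_rfl ((repWith_yon_map_iff (P := @IsAffineHom) h).2 ?_)
  rw [e]
  infer_instance

end Groth.Agent.FCov14.QuotEt
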