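import Groth.Agent.FCov14.QuotCompare
import Groth.Agent.FCov14.BigEquiv
import Groth.Agent.FCov14.QuotDiag

/-! Quotient stacks with scheme torsors are algebraic. -/

set_option autoImplicit false
set_option backward.isDefEq.respectTransparency false
set_option backward.isDefEq.respectTransparency.types false

universe u

open CategoryTheory CategoryTheory.Limits MonoidalCategory AlgebraicGeometry AlgSp
open Groth.Agent.AlgSpLib Groth.Agent.AlgSpPts Groth.Agent.AlgSpGrp Groth.Agent.AlgStLib

namespace Groth.Agent.FCov14.Compare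

variable {S : Scheme.{u}} {G : Over S} [GrpObj G]

theorem hom_left_eq : ∃ h : G ⟶ Over.mk (𝟙 S),
    (yon S).map h = ((yonB S).obj G).hom ∧ h.left = G.hom :=
  ⟨Over.mkIdTerminal.from G, (isTerminalYon S).hom_ext _ _,
    (Category.comp_id _).symm.trans (Over.w (Over.mkIdTerminal.from G))⟩

instance : IsEtLocal (@Flat ⊓ @LocallyOfFinitePresentation : MorphismProperty Scheme.{u}) where
  precomp f g hf hg := ⟨IsEtLocal.precomp f g hf hg.1, IsEtLocal.precomp f g hf hg.2⟩
  postcomp f g hf hg := ⟨IsEtLocal.postcomp f g hf.1 hg, IsEtLocal.postcomp f g hf.2 hg⟩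
  of_precomp f g h₁ h₂ h := ⟨IsEtLocal.of_precomp f g h₁ h₂ h.1, IsEtLocal.of_precomp f g h₁ h₂ h.2⟩

theorem locP_hom [Flat G.hom] [LocallyOfFinitePresentation G.hom] :
    LocP (@Flat ⊓ @LocallyOfFinitePresentation) ((yonB S).obj G).hom := by
  obtain ⟨h, hh, e⟩ := hom_left_eq (G := G)
  rw [← hh]
  refine locP_of_repWith ((repWith_yon_map_iff (@Flat ⊓ @LocallyOfFinitePresentation) h).2 ?_)
  rw [e]
  exact ⟨‹_›, ‹_›⟩

/-- Quotient stacks of schemes by flat affine group schemes are algebraic. -/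
theorem isAlgStack_quotSt [Flat G.hom] [LocallyOfFinitePresentation G.hom] [IsAffineHom G.hom] {X : Over S}
    (aX : AlgGrp.Action G X) :
    AlgSt.IsAlgStack Scheme.fppfPrecoverage (AlgSt.QuotSt Scheme.fppfPrecoverage G aX) :=
  have hB : IsAlgSpace (base S) := IsAlgSpace.yon_obj _
  have hG : IsAlgSpace ((yonB S).obj G).left := IsAlgSpace.yon_obj G
  have hX : IsAlgSpace ((yonB S).obj X).left := IsAlgSpace.yon_obj X
  Het.isAlgStack functor_isEquivOver
    (isAlgStack_spQuot hB hG locP_hom hX (mapAct aX) (QuotDiag.repByAlgSp1_diag hB hG hX))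

end Groth.Agent.FCov14.Compare
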