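import Groth.Agent.AlgSpPts.Sep
import Mathlib.AlgebraicGeometry.Morphisms.Flat
import Mathlib.AlgebraicGeometry.Morphisms.FinitePresentation

/-! Flatness and finite presentation pass to retracts. -/

set_option autoImplicit false
set_option backward.isDefEq.respectTransparency false
set_option backward.isDefEq.respectTransparency.types false

universe u

open CategoryTheory CategoryTheory.Limits AlgebraicGeometry

namespace Groth.Agent.FCov14

theorem flat_hom_of_retract {R A B : CommRingCat.{u}} (φ : R ⟶ A) (h : A ⟶ B) (g : B ⟶ A) (hg : h ≫ g = 𝟙 A)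
    (hB : (φ ≫ h).hom.Flat) : φ.hom.Flat := by
  letI : Algebra R A := φ.hom.toAlgebra
  letI : Algebra R B := (φ ≫ h).hom.toAlgebra
  have : Module.Flat R B := hB
  have e : ∀ x, g.hom (h.hom x) = x := fun x => by rw [← CommRingCat.comp_apply, hg]; rfl
  exact Module.Flat.of_retract (R := R) (M := B) (N := A)
    { toFun := h.hom, map_add' := map_add _, map_smul' := fun r a => map_mul h.hom _ _ }
    { toFun := g.hom, map_add' := map_add _, map_smul' := fun r b => by
        show g.hom (h.hom (φ.hom r) * b) = φ.hom r * g.hom b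
        rw [map_mul, e] }
    (LinearMap.ext e)

/-- A retract of a flat scheme is flat. -/
theorem flat_of_retract {Z Y S : Scheme.{u}} (σ : Y ⟶ Z) (r : Z ⟶ Y) (t : Y ⟶ S) (hσ : σ ≫ r = 𝟙 Y)
    [Flat (r ≫ t)] : Flat t := by
  rw [Flat.iff_flat_stalkMap]
  intro y
  have hy : r (σ y) = y := by rw [← Scheme.Hom.comp_apply, hσ]; rfl
  rw [← hy]
  have h₁ := Flat.stalkMap (r ≫ t) (σ y)
  rw [Scheme.Hom.stalkMap_comp] at h₁
  have hiso : IsIso ((σ ≫ r).stalkMap y) := by rw [hσ]; infer_instance
  rw [Scheme.Hom.stalkMap_comp] at hiso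
  refine flat_hom_of_retract _ (r.stalkMap (σ y)) (σ.stalkMap y ≫ inv (r.stalkMap (σ y) ≫ σ.stalkMap y)) ?_ h₁
  rw [← Category.assoc, IsIso.hom_inv_id]

/-- A retract of a scheme locally of finite presentation is locally of finite presentation. -/
theorem locallyOfFinitePresentation_of_retract {Z Y S : Scheme.{u}} (σ : Y ⟶ Z) (r : Z ⟶ Y) (t : Y ⟶ S)
    (hσ : σ ≫ r = 𝟙 Y) [LocallyOfFinitePresentation (r ≫ t)] : LocallyOfFinitePresentation t := by
  have : LocallyOfFiniteType r := locallyOfFiniteType_of_comp r t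
  have : LocallyOfFinitePresentation (σ ≫ r) := by rw [hσ]; infer_instance
  have : LocallyOfFinitePresentation σ := Groth.Agent.AlgSpPts.locallyOfFinitePresentation_of_comp σ r
  rw [show t = σ ≫ r ≫ t by rw [reassoc_of% hσ]]
  infer_instance

end Groth.Agent.FCov14
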