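import Groth.Agent.AlgSpLib.EtLocalInst
import Mathlib.AlgebraicGeometry.Morphisms.Smooth
import Mathlib.AlgebraicGeometry.Morphisms.UniversallyOpen

/-! The smooth locus along etale maps. -/

set_option autoImplicit false
set_option backward.isDefEq.respectTransparency false
set_option backward.isDefEq.respectTransparency.types false

universe u

open CategoryTheory AlgebraicGeometry Groth.Agent.AlgSpLib

namespace Groth.Agent.FCov14

variable {Q Y Z : Scheme.{u}}

/-- Smoothness at a point can be checked after an etale map. -/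
theorem mem_smoothLocus_comp_iff (g : Q ⟶ Y) (h : Y ⟶ Z) [Etale g] [LocallyOfFinitePresentation h] (y : Q) :
    y ∈ (g ≫ h).smoothLocus ↔ g y ∈ h.smoothLocus := by
  refine ⟨fun hy => ?_, fun hy => ?_⟩
  · let O := (g ≫ h).smoothLocus
    let N : Y.Opens := ⟨g '' (O : Set Q), g.isOpenMap _ O.2⟩
    have hsub : Set.range (O.ι ≫ g) ⊆ Set.range N.ι := by
      rintro _ ⟨q, rfl⟩
      rw [Scheme.Opens.range_ι]
      exact ⟨O.ι q, q.2, rfl⟩
    let g' : (O : Scheme.{u}) ⟶ N := IsOpenImmersion.lift N.ι (O.ι ≫ g) hsub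
    have hg' : g' ≫ N.ι = O.ι ≫ g := IsOpenImmersion.lift_fac _ _ _
    have he : Etale g' := IsEtLocal.cancel_right g' N.ι (P := @Etale)
      (by rw [hg']; infer_instance)
    have hs : Surjective g' := ⟨fun n => by
      obtain ⟨q, hq, hn⟩ := n.2
      refine ⟨⟨q, hq⟩, N.ι.isOpenEmbedding.injective ?_⟩
      rw [← Scheme.Hom.comp_apply, hg']
      exact hn⟩
    have hO : Smooth (O.ι ≫ g ≫ h) := by
      rw [← Scheme.Hom.smoothLocus_eq_top_iff, ← Scheme.Hom.preimage_smoothLocus_eq]
      exact Scheme.Opens.ι_preimage_self O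
    have hN : Smooth (N.ι ≫ h) := IsEtLocal.of_precomp (P := @Smooth) g' (N.ι ≫ h) he hs
      (by rw [← Category.assoc, hg', Category.assoc]; exact hO)
    have hgy : g y ∈ N := ⟨y, hy, rfl⟩
    have : (⟨g y, hgy⟩ : (N : Scheme.{u})) ∈ (N.ι ≫ h).smoothLocus := by
      rw [Scheme.Hom.smoothLocus_eq_top]; trivial
    rw [← Scheme.Hom.preimage_smoothLocus_eq] at this
    exact this
  · let N := h.smoothLocus
    let O : Q.Opens := g ⁻¹ᵁ N
    have hN : Smooth (N.ι ≫ h) := by
      rw [← Scheme.Hom.smoothLocus_eq_top_iff, ← Scheme.Hom.preimage_smoothLocus_eq]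
      exact Scheme.Opens.ι_preimage_self N
    have hO : Smooth (O.ι ≫ g ≫ h) := by
      rw [← Category.assoc, ← morphismRestrict_ι g N, Category.assoc]
      infer_instance
    have : (⟨y, hy⟩ : (O : Scheme.{u})) ∈ (O.ι ≫ g ≫ h).smoothLocus := by
      rw [Scheme.Hom.smoothLocus_eq_top]; trivial
    rw [← Scheme.Hom.preimage_smoothLocus_eq] at this
    exact this

/-- Smoothness at the image follows from smoothness of a composite with an etale map. -/
theorem mem_smoothLocus_of_eq {g : Q ⟶ Y} {h : Y ⟶ Z} {k : Q ⟶ Z} [Etale g] [LocallyOfFinitePresentation h]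
    [LocallyOfFinitePresentation k] (e : g ≫ h = k) (y : Q) : y ∈ k.smoothLocus ↔ g y ∈ h.smoothLocus := by
  subst e
  exact mem_smoothLocus_comp_iff g h y

end Groth.Agent.FCov14
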