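import Groth.Agent.FCov14.IsomBC
import Groth.Agent.FCov14.SmoothLoc
import Groth.Agent.S2155

/-! The smooth locus of a chart of isomorphisms is saturated. -/

set_option autoImplicit false
set_option backward.isDefEq.respectTransparency false
set_option backward.isDefEq.respectTransparency.types false

universe u

open CategoryTheory CategoryTheory.Limits Opposite AlgebraicGeometry AlgSp
open Groth.Agent.AlgSpLib Groth.Agent.AlgStLib

namespace Groth.Agent.FCov14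

variable {S : Scheme.{u}} {𝒳 : BasedCategory.{u + 1, u + 2} (Over S)} {U A W R₀ : Over S}
  (hX : Stk.IsPrestack (J S) 𝒳) {x : FibCat.overCat A ⥤ᵇ 𝒳} {f : FibCat.overCat U ⥤ᵇ 𝒳}

namespace Sat

variable (w : (yon S).obj W ⟶ isomP hX x f) (r : (yon S).obj R₀ ⟶ isomP hX f f)

/-- Two points of the chart differing by a point of the relation. -/
def Rel {T : Over S} (w₁ : T ⟶ W) (r₀ : T ⟶ R₀) (w₂ : T ⟶ W) : Prop :=
  ∃ h : ((arrPt hX).symm ((yon S).map w₁ ≫ w)).u₂ = ((arrPt hX).symm ((yon S).map r₀ ≫ r)).u₁,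
    Arr.comp ((arrPt hX).symm ((yon S).map w₁ ≫ w)) ((arrPt hX).symm ((yon S).map r₀ ≫ r)) h =
      (arrPt hX).symm ((yon S).map w₂ ≫ w)

variable {hX w r}

theorem res_pt {y₁ : FibCat.overCat A ⥤ᵇ 𝒳} {y₂ : FibCat.overCat U ⥤ᵇ 𝒳} {T T' : Over S} (k : T' ⟶ T)
    (p : (yon S).obj T ⟶ isomP hX y₁ y₂) :
    (arrPt hX).symm ((yon S).map k ≫ p) = Arr.res hX.1 k ((arrPt hX).symm p) := by
  apply (arrPt hX).injective
  rw [← map_arrPt, Equiv.apply_symm_apply, Equiv.apply_symm_apply]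

theorem res_ptR {T T' : Over S} (k : T' ⟶ T) (p : (yon S).obj T ⟶ isomP hX f f) :
    (arrPt hX).symm ((yon S).map k ≫ p) = Arr.res hX.1 k ((arrPt hX).symm p) := by
  apply (arrPt hX).injective
  rw [← map_arrPt, Equiv.apply_symm_apply, Equiv.apply_symm_apply]

theorem Rel.symm {T : Over S} {w₁ w₂ : T ⟶ W} {r₀ : T ⟶ R₀} (h : Rel hX w r w₁ r₀ w₂) :
    Rel hX w (r ≫ isomInv hX f f) w₂ r₀ w₁ := by
  obtain ⟨h, hc⟩ := h
  have e : (arrPt hX).symm ((yon S).map r₀ ≫ r ≫ isomInv hX f f) =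
      Arr.inv hX.1 ((arrPt hX).symm ((yon S).map r₀ ≫ r)) := by
    apply (arrPt hX).injective
    rw [← arrPt_isomInv, Equiv.apply_symm_apply, Equiv.apply_symm_apply, Category.assoc]
  have h' : ((arrPt hX).symm ((yon S).map w₂ ≫ w)).u₂ =
      (Arr.inv hX.1 ((arrPt hX).symm ((yon S).map r₀ ≫ r))).u₁ := by
    rw [← hc, Arr.comp_u₂, Arr.inv_u₁]
  refine ⟨by rw [e]; exact h', ?_⟩
  simp only [e, ← hc]
  rw [Arr.comp_assoc _ _ _ h rfl]
  refine Eq.trans ?_ (Arr.comp_id' ((arrPt hX).symm ((yon S).map w₁ ≫ w))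
    ((arrPt hX).symm ((yon S).map r₀ ≫ r)).u₁ h)
  congr 1
  exact Arr.comp_inv hX.1 _

theorem Rel.base {T : Over S} {w₁ w₂ : T ⟶ W} {r₀ : T ⟶ R₀} (h : Rel hX w r w₁ r₀ w₂) :
    (yon S).map w₁ ≫ w ≫ isomP₂ hX x f = (yon S).map r₀ ≫ r ≫ isomP₁ hX f f := by
  have h1 := congrArg ((yon S).map) h.choose
  rwa [← arrPt_snd hX, ← arrPt_fst hX, Equiv.apply_symm_apply, Equiv.apply_symm_apply, Category.assoc,
    Category.assoc] at h1

theorem arr_eq_ptW {T : Over S} {p : (yon S).obj T ⟶ isomP hX x f} : arrPt hX ((arrPt hX).symm p) = p :=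
  Equiv.apply_symm_apply _ _

theorem rel_of_eq {Y T : Over S} (w₁ : Y ⟶ W) (r₀ : Y ⟶ R₀)
    (h : ((arrPt hX).symm ((yon S).map w₁ ≫ w)).u₂ = ((arrPt hX).symm ((yon S).map r₀ ≫ r)).u₁)
    (k : T ⟶ Y) (w₂ : T ⟶ W)
    (e : (yon S).map k ≫ arrPt hX (Arr.comp ((arrPt hX).symm ((yon S).map w₁ ≫ w))
      ((arrPt hX).symm ((yon S).map r₀ ≫ r)) h) = (yon S).map w₂ ≫ w) :
    Rel hX w r (k ≫ w₁) (k ≫ r₀) w₂ := by
  rw [map_arrPt, Arr.res_comp, ← Equiv.eq_symm_apply (arrPt hX)] at e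
  have e1 : (arrPt hX).symm ((yon S).map (k ≫ w₁) ≫ w) = Arr.res hX.1 k ((arrPt hX).symm ((yon S).map w₁ ≫ w)) := by
    rw [Functor.map_comp, Category.assoc, res_pt]
  have e2 : (arrPt hX).symm ((yon S).map (k ≫ r₀) ≫ r) = Arr.res hX.1 k ((arrPt hX).symm ((yon S).map r₀ ≫ r)) := by
    rw [Functor.map_comp, Category.assoc, res_ptR]
  refine ⟨by rw [e1, e2, Arr.res_u₂, Arr.res_u₁, h], ?_⟩
  simp only [e1, e2]
  exact e

theorem eq_of_rel {Y T : Over S} (w₁ : Y ⟶ W) (r₀ : Y ⟶ R₀)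
    (h : ((arrPt hX).symm ((yon S).map w₁ ≫ w)).u₂ = ((arrPt hX).symm ((yon S).map r₀ ≫ r)).u₁)
    (k : T ⟶ Y) (w₂ : T ⟶ W) (e : Rel hX w r (k ≫ w₁) (k ≫ r₀) w₂) :
    (yon S).map k ≫ arrPt hX (Arr.comp ((arrPt hX).symm ((yon S).map w₁ ≫ w))
      ((arrPt hX).symm ((yon S).map r₀ ≫ r)) h) = (yon S).map w₂ ≫ w := by
  obtain ⟨h', hc⟩ := e
  rw [map_arrPt, Arr.res_comp, ← Equiv.eq_symm_apply (arrPt hX), ← hc]
  congr 1
  · simp only [Functor.map_comp, Category.assoc, res_pt]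
  · simp only [Functor.map_comp, Category.assoc, res_ptR]

/-- The smooth locus of the second projection of a chart is saturated along the first. -/
theorem smoothLocus_saturated (hw : RepWith @Etale w) (hr : RepWith @Etale r) (hrs : RepWith @Surjective r)
    {q : W ⟶ U} (hq : (yon S).map q = w ≫ isomP₂ hX x f) [LocallyOfFinitePresentation q.left]
    {p : W ⟶ A} (hp : (yon S).map p = w ≫ isomP₁ hX x f) {r₁ r₂ : R₀ ⟶ U}
    (h₁ : (yon S).map r₁ = r ≫ isomP₁ hX f f) (h₂ : (yon S).map r₂ = r ≫ isomP₂ hX f f)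
    [Flat r₁.left] [Flat r₂.left] (z z' : W.left) (hz : p.left z = p.left z')
    (hz' : z' ∈ q.left.smoothLocus) : z ∈ q.left.smoothLocus := by
  have hu₂ : ∀ {T : Over S} (k : T ⟶ W), ((arrPt hX).symm ((yon S).map k ≫ w)).u₂ = k ≫ q := fun k =>
    (yon S).map_injective (by rw [← arrPt_snd hX, arr_eq_ptW, Category.assoc, ← hq, Functor.map_comp])
  have hu₁ : ∀ {T : Over S} (k : T ⟶ W), ((arrPt hX).symm ((yon S).map k ≫ w)).u₁ = k ≫ p := fun k =>
    (yon S).map_injective (by rw [← arrPt_fst hX, arr_eq_ptW, Category.assoc, ← hp, Functor.map_comp])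
  let r' := r ≫ isomInv hX f f
  have h₂' : (yon S).map r₂ = r' ≫ isomP₁ hX f f := by rw [h₂, Category.assoc, isomInv_fst]
  have hv₁ : ∀ {T : Over S} (k : T ⟶ R₀), ((arrPt hX).symm ((yon S).map k ≫ r)).u₁ = k ≫ r₁ := fun k =>
    (yon S).map_injective (by rw [← arrPt_fst hX, Equiv.apply_symm_apply, Category.assoc, ← h₁, Functor.map_comp])
  have hv₂ : ∀ {T : Over S} (k : T ⟶ R₀), ((arrPt hX).symm ((yon S).map k ≫ r')).u₁ = k ≫ r₂ := fun k =>
    (yon S).map_injective (by rw [← arrPt_fst hX, Equiv.apply_symm_apply, Category.assoc, ← h₂', Functor.map_comp])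
  let a₁ : pullback q r₁ ⟶ W := pullback.fst q r₁
  let b₁ : pullback q r₁ ⟶ R₀ := pullback.snd q r₁
  let a₂ : pullback q r₂ ⟶ W := pullback.fst q r₂
  let b₂ : pullback q r₂ ⟶ R₀ := pullback.snd q r₂
  have hc₁ : ((arrPt hX).symm ((yon S).map a₁ ≫ w)).u₂ = ((arrPt hX).symm ((yon S).map b₁ ≫ r)).u₁ := by
    rw [hu₂, hv₁]; exact pullback.condition
  have hc₂ : ((arrPt hX).symm ((yon S).map a₂ ≫ w)).u₂ = ((arrPt hX).symm ((yon S).map b₂ ≫ r')).u₁ := by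
    rw [hu₂, hv₂]; exact pullback.condition
  let ν₁ := arrPt hX (Arr.comp _ _ hc₁)
  let ν₂ := arrPt hX (Arr.comp _ _ hc₂)
  let Q := hw.rep.pullback ν₁
  let t₂ : Q ⟶ W := hw.rep.fst' ν₁
  let s₁ : Q ⟶ pullback q r₁ := hw.rep.snd ν₁
  have hs₁ : Etale s₁.left := hw.property_snd ν₁
  have hQw : (yon S).map s₁ ≫ ν₁ = (yon S).map t₂ ≫ w := by
    rw [Functor.relativelyRepresentable.map_fst', hw.rep.w]
  let t₁ : Q ⟶ W := s₁ ≫ a₁
  let c : Q ⟶ R₀ := s₁ ≫ b₁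
  have hrel : Rel hX w r t₁ c t₂ := rel_of_eq a₁ b₁ hc₁ s₁ t₂ hQw
  have huniv : ∀ ⦃T : Over S⦄ (w₁ w₂ : T ⟶ W) (r₀ : T ⟶ R₀), Rel hX w r w₁ r₀ w₂ →
      ∃! l : T ⟶ Q, l ≫ t₁ = w₁ ∧ l ≫ t₂ = w₂ ∧ l ≫ c = r₀ := by
    intro T w₁ w₂ r₀ hR
    have hb : w₁ ≫ q = r₀ ≫ r₁ := (yon S).map_injective (by
      rw [Functor.map_comp, Functor.map_comp, hq, h₁]; exact hR.base)
    let y : T ⟶ pullback q r₁ := pullback.lift w₁ r₀ hb
    have hy : Rel hX w r (y ≫ a₁) (y ≫ b₁) w₂ := by rw [pullback.lift_fst, pullback.lift_snd]; exact hR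
    have e := eq_of_rel a₁ b₁ hc₁ y w₂ hy
    refine ⟨hw.rep.lift' w₂ y e.symm, ⟨?_, hw.rep.lift'_fst _ _ _, ?_⟩, ?_⟩
    · show hw.rep.lift' w₂ y e.symm ≫ hw.rep.snd ν₁ ≫ a₁ = w₁
      rw [← Category.assoc, hw.rep.lift'_snd, pullback.lift_fst]
    · show hw.rep.lift' w₂ y e.symm ≫ hw.rep.snd ν₁ ≫ b₁ = r₀
      rw [← Category.assoc, hw.rep.lift'_snd, pullback.lift_snd]
    · rintro l ⟨hl₁, hl₂, hl₃⟩
      refine hw.rep.hom_ext' ?_ ?_
      · rw [hw.rep.lift'_fst]; exact hl₂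
      · rw [hw.rep.lift'_snd]
        refine pullback.hom_ext ?_ ?_
        · rw [pullback.lift_fst, Category.assoc]; exact hl₁
        · rw [pullback.lift_snd, Category.assoc]; exact hl₃
  -- the other side
  have hrel' : Rel hX w r' t₂ c t₁ := hrel.symm
  have hb₂ : t₂ ≫ q = c ≫ r₂ := (yon S).map_injective (by
    rw [Functor.map_comp, Functor.map_comp, hq, h₂']; exact hrel'.base)
  let s₂ : Q ⟶ pullback q r₂ := pullback.lift t₂ c hb₂
  have hs₂ : Etale s₂.left := by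
    refine hw.property ν₂ ((yon S).map t₁) s₂ (Pushf.isPullback_of_points ?_ fun T a b hab => ?_)
    · have h0 : Rel hX w r' (s₂ ≫ a₂) (s₂ ≫ b₂) t₁ := by
        rw [pullback.lift_fst, pullback.lift_snd]; exact hrel'
      exact (eq_of_rel a₂ b₂ hc₂ s₂ t₁ h0).symm
    · obtain ⟨w₁, rfl⟩ := (yon S).map_surjective a
      obtain ⟨y, rfl⟩ := (yon S).map_surjective b
      have h0 : Rel hX w r' (y ≫ a₂) (y ≫ b₂) w₁ := rel_of_eq a₂ b₂ hc₂ y w₁ hab.symm
      have h3 := h0.symm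
      rw [show r' ≫ isomInv hX f f = r from (Category.assoc _ _ _).trans
        ((congrArg (r ≫ ·) (isomInvIso hX f f).hom_inv_id).trans (Category.comp_id r))] at h3
      obtain ⟨l, ⟨hl₁, hl₂, hl₃⟩, hlu⟩ := huniv w₁ (y ≫ a₂) (y ≫ b₂) h3
      refine ⟨(yon S).map l, ⟨by rw [← Functor.map_comp, hl₁], ?_⟩, ?_⟩
      · rw [← Functor.map_comp]
        refine congrArg _ (pullback.hom_ext ?_ ?_)
        · rw [Category.assoc, pullback.lift_fst, hl₂]
        · rw [Category.assoc, pullback.lift_snd, hl₃]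
      · rintro m ⟨hm₁, hm₂⟩
        obtain ⟨m, rfl⟩ := (yon S).map_surjective m
        rw [← Functor.map_comp] at hm₁ hm₂
        have hm₂' := (yon S).map_injective hm₂
        refine congrArg _ (hlu m ⟨(yon S).map_injective hm₁, ?_, ?_⟩)
        · rw [← hm₂', Category.assoc, pullback.lift_fst]
        · rw [← hm₂', Category.assoc, pullback.lift_snd]
  -- a point over the pair
  obtain ⟨y, hy₁, hy₂⟩ := Scheme.exists_preimage_of_isPullback
    ((IsPullback.of_hasPullback p p).map (Over.forget S)) z z' hz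
  let π₁ : pullback p p ⟶ W := pullback.fst p p
  let π₂ : pullback p p ⟶ W := pullback.snd p p
  let φ₁ := (arrPt hX).symm ((yon S).map π₁ ≫ w)
  let φ₂ := (arrPt hX).symm ((yon S).map π₂ ≫ w)
  have hφ : φ₁.u₁ = φ₂.u₁ := by rw [hu₁, hu₁]; exact pullback.condition
  let θ : Arr f f (pullback p p) := Arr.comp (Arr.inv hX.1 φ₁) φ₂ hφ
  let T := hr.rep.pullback (arrPt hX θ)
  let τ : T ⟶ pullback p p := hr.rep.snd (arrPt hX θ)
  let ρ : T ⟶ R₀ := hr.rep.fst' (arrPt hX θ)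
  have : Surjective τ.left := hrs.property _ _ _ (hr.rep.isPullback (arrPt hX θ))
  obtain ⟨y', hy'⟩ := τ.left.surjective y
  have hρ : (arrPt hX).symm ((yon S).map ρ ≫ r) = Arr.res hX.1 τ θ := by
    apply (arrPt hX).injective
    rw [← map_arrPt, Equiv.apply_symm_apply, Functor.relativelyRepresentable.map_fst', hr.rep.w]
  have hR : Rel hX w r (τ ≫ π₁) ρ (τ ≫ π₂) := by
    have e1 : (arrPt hX).symm ((yon S).map (τ ≫ π₁) ≫ w) = Arr.res hX.1 τ φ₁ := by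
      rw [Functor.map_comp, Category.assoc, res_pt]
    have e2 : (arrPt hX).symm ((yon S).map (τ ≫ π₂) ≫ w) = Arr.res hX.1 τ φ₂ := by
      rw [Functor.map_comp, Category.assoc, res_pt]
    have h0 : φ₁.u₂ = θ.u₁ := rfl
    refine ⟨by rw [e1, hρ, Arr.res_u₂, Arr.res_u₁, h0], ?_⟩
    simp only [e1, hρ, e2, ← Arr.res_comp hX.1 τ φ₁ θ h0]
    refine congrArg _ ?_
    show Arr.comp φ₁ (Arr.comp (Arr.inv hX.1 φ₁) φ₂ hφ) h0 = φ₂
    rw [← Arr.comp_assoc φ₁ (Arr.inv hX.1 φ₁) φ₂ rfl hφ]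
    refine Eq.trans ?_ (Arr.id_comp' φ₂ φ₁.u₁ hφ)
    congr 1
    exact Arr.comp_inv hX.1 _
  obtain ⟨l, ⟨hl₁, hl₂, -⟩, -⟩ := huniv _ _ _ hR
  let η : Q.left := l.left y'
  have hη₁ : t₁.left η = z := by
    rw [show t₁.left η = (l ≫ t₁).left y' from rfl, hl₁, ← hy₁, ← hy']
    rfl
  have hη₂ : t₂.left η = z' := by
    rw [show t₂.left η = (l ≫ t₂).left y' from rfl, hl₂, ← hy₂, ← hy']
    rfl
  -- transfer
  have sq₁ := (IsPullback.of_hasPullback q r₁).map (Over.forget S)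
  have sq₂ := (IsPullback.of_hasPullback q r₂).map (Over.forget S)
  have : LocallyOfFinitePresentation b₁.left := MorphismProperty.of_isPullback sq₁ ‹_›
  have : LocallyOfFinitePresentation b₂.left := MorphismProperty.of_isPullback sq₂ ‹_›
  have : LocallyOfFinitePresentation c.left := inferInstanceAs (LocallyOfFinitePresentation (s₁.left ≫ b₁.left))
  have m₁ := S2155.result q.left r₁.left b₁.left a₁.left sq₁ (Or.inr inferInstance)
  have m₂ := S2155.result q.left r₂.left b₂.left a₂.left sq₂ (Or.inr inferInstance)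
  have h2 : s₂.left η ∈ b₂.left.smoothLocus := by
    rw [m₂, Scheme.Hom.mem_preimage,
      show a₂.left (s₂.left η) = (s₂ ≫ a₂).left η from rfl, pullback.lift_fst, hη₂]
    exact hz'
  have h3 : η ∈ c.left.smoothLocus :=
    (mem_smoothLocus_of_eq (g := s₂.left) (h := b₂.left) (k := c.left)
      (congrArg (fun m : Q ⟶ R₀ => m.left) (pullback.lift_snd t₂ c hb₂)) η).2 h2
  have h4 : s₁.left η ∈ b₁.left.smoothLocus :=
    (mem_smoothLocus_of_eq (g := s₁.left) (h := b₁.left) (k := c.left) rfl η).1 h3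
  rw [m₁, Scheme.Hom.mem_preimage] at h4
  rwa [← hη₁]

end Sat

end Groth.Agent.FCov14
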