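import Groth.Agent.FCov14.Lift

/-! Lifting finite slices: the form with a geometric point. -/

universe u

set_option autoImplicit false
set_option backward.isDefEq.respectTransparency false
set_option backward.isDefEq.respectTransparency.types false

open IsLocalRing TensorProduct

namespace Groth.Agent.FCov14.Lift

section

variable {R C R' : Type u} [CommRing R] [CommRing C] [Algebra R C] [CommRing R'] [Algebra R R']

theorem aeval_map_eq {n : ℕ} (f : Fin n → C) (p : MvPolynomial (Fin n) R) :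
    (MvPolynomial.aeval (fun i => (1 : R') ⊗ₜ[R] f i) : MvPolynomial (Fin n) R' →ₐ[R'] R' ⊗[R] C)
      (MvPolynomial.map (algebraMap R R') p) = (1 : R') ⊗ₜ[R] MvPolynomial.aeval f p := by
  induction p using MvPolynomial.induction_on with
  | C r =>
    rw [MvPolynomial.map_C, MvPolynomial.aeval_C, MvPolynomial.aeval_C, ← Algebra.TensorProduct.tmul_one_eq_one_tmul]
    rfl
  | add p q hp hq => rw [map_add, map_add, map_add, hp, hq, TensorProduct.tmul_add]
  | mul_X p i hp =>
    rw [map_mul, map_mul, map_mul, hp, MvPolynomial.map_X, MvPolynomial.aeval_X, MvPolynomial.aeval_X,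
      Algebra.TensorProduct.tmul_mul_tmul, one_mul]

/-- A flat ring map has flat pushouts. -/
theorem flat_of_pushout_data {A C A' B : Type u} [CommRing A] [CommRing C] [CommRing A'] [CommRing B]
    [Algebra A C] [Algebra A A'] [Module.Flat A C] (a : A' →+* B) (c : C →+* B)
    (hcomm : ∀ x, a (algebraMap A A' x) = c (algebraMap A C x)) (ψ : B →+* A' ⊗[A] C)
    (hψa : ∀ q, ψ (a q) = q ⊗ₜ 1) (hψc : ∀ x, ψ (c x) = 1 ⊗ₜ x)
    (hext : ∀ f g : B →+* B, (∀ q, f (a q) = g (a q)) → (∀ x, f (c x) = g (c x)) → f = g) : a.Flat := by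
  letI : Algebra A' B := a.toAlgebra
  letI : Algebra A B := (a.comp (algebraMap A A')).toAlgebra
  haveI : IsScalarTower A A' B := IsScalarTower.of_algebraMap_eq fun _ => rfl
  let ι : C →ₐ[A] B := { toRingHom := c, commutes' := fun x => (hcomm x).symm }
  let θ : A' ⊗[A] C →ₐ[A'] B := Algebra.TensorProduct.lift (Algebra.ofId A' B) ι fun _ _ => Commute.all _ _
  have hθ : ∀ q x, θ (q ⊗ₜ x) = a q * c x := fun q x => Algebra.TensorProduct.lift_tmul _ _ _ q x
  have h1 : ∀ z, ψ (θ z) = z := fun z => by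
    induction z using TensorProduct.induction_on with
    | zero => simp
    | tmul q x => rw [hθ, map_mul, hψa, hψc, Algebra.TensorProduct.tmul_mul_tmul, mul_one, one_mul]
    | add x y hx hy => rw [map_add, map_add, hx, hy]
  have h2 : ((θ : A' ⊗[A] C →+* B).comp ψ) = RingHom.id B :=
    hext _ _ (fun q => by
      show θ (ψ (a q)) = a q
      rw [hψa, hθ, map_one, mul_one]) (fun x => by
      show θ (ψ (c x)) = c x
      rw [hψc, hθ, map_one, one_mul])
  let e : A' ⊗[A] C ≃ₗ[A'] B :=
    LinearEquiv.ofBijective θ.toLinearMap ⟨Function.LeftInverse.injective h1, fun w => ⟨ψ w, DFunLike.congr_fun h2 w⟩⟩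
  show Module.Flat A' B
  exact Module.Flat.of_linearEquiv e.symm

/-- Flatness of a polynomial map survives base change. -/
theorem flat_aeval_baseChange {n : ℕ} {f : Fin n → C}
    (hf : (MvPolynomial.aeval f : MvPolynomial (Fin n) R →ₐ[R] C).toRingHom.Flat) :
    (MvPolynomial.aeval (fun i => (1 : R') ⊗ₜ[R] f i) :
      MvPolynomial (Fin n) R' →ₐ[R'] R' ⊗[R] C).toRingHom.Flat := by
  letI : Algebra (MvPolynomial (Fin n) R) C := (MvPolynomial.aeval f).toRingHom.toAlgebra
  haveI : Module.Flat (MvPolynomial (Fin n) R) C := RingHom.flat_algebraMap_iff.1 hf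
  letI : Algebra (MvPolynomial (Fin n) R) (MvPolynomial (Fin n) R') := (MvPolynomial.map (algebraMap R R')).toAlgebra
  let a := (MvPolynomial.aeval (fun i => (1 : R') ⊗ₜ[R] f i) : MvPolynomial (Fin n) R' →ₐ[R'] R' ⊗[R] C).toRingHom
  let D := MvPolynomial (Fin n) R' ⊗[MvPolynomial (Fin n) R] C
  let j₁ : R' →+* D := Algebra.TensorProduct.includeLeftRingHom.comp MvPolynomial.C
  let j₂ : C →+* D := Algebra.TensorProduct.includeRight.toRingHom
  have hj : ∀ r : R, j₂ (algebraMap R C r) = j₁ (algebraMap R R' r) := fun r => by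
    show (1 : MvPolynomial (Fin n) R') ⊗ₜ[MvPolynomial (Fin n) R] algebraMap R C r =
      MvPolynomial.C (algebraMap R R' r) ⊗ₜ (1 : C)
    rw [← MvPolynomial.aeval_C f r, ← MvPolynomial.map_C (σ := Fin n) (algebraMap R R') r]
    exact (Algebra.TensorProduct.tmul_one_eq_one_tmul _).symm
  let ψ : R' ⊗[R] C →ₐ[R] D :=
    Algebra.TensorProduct.lift ⟨j₁, fun _ => rfl⟩ ⟨j₂, hj⟩ fun _ _ => Commute.all _ _
  have hψ : ∀ r c, ψ (r ⊗ₜ c) = j₁ r * j₂ c := fun r c => Algebra.TensorProduct.lift_tmul _ _ _ r c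
  refine flat_of_pushout_data a Algebra.TensorProduct.includeRight.toRingHom (fun p => aeval_map_eq f p) ψ.toRingHom
    (fun q => ?_) (fun x => ?_) fun g g' hg hc => ?_
  · show ψ (a q) = _
    induction q using MvPolynomial.induction_on with
    | C r =>
      rw [show a (MvPolynomial.C r) = r ⊗ₜ[R] 1 from MvPolynomial.aeval_C _ r, hψ, map_one, mul_one]
      rfl
    | add p q hp hq => rw [map_add, map_add, hp, hq, TensorProduct.add_tmul]
    | mul_X p i hp =>
      rw [map_mul, map_mul, hp, show a (MvPolynomial.X i) = 1 ⊗ₜ[R] f i from MvPolynomial.aeval_X _ i, hψ, map_one, one_mul]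
      show p ⊗ₜ[MvPolynomial (Fin n) R] (1 : C) * ((1 : MvPolynomial (Fin n) R') ⊗ₜ[MvPolynomial (Fin n) R] f i) = _
      rw [← MvPolynomial.map_X (algebraMap R R') i, ← MvPolynomial.aeval_X (R := R) f i]
      exact (congrArg (fun z => p ⊗ₜ[MvPolynomial (Fin n) R] (1 : C) * z)
        (Algebra.TensorProduct.tmul_one_eq_one_tmul (A := MvPolynomial (Fin n) R') (B := C) (MvPolynomial.X i)).symm).trans
          (by rw [Algebra.TensorProduct.tmul_mul_tmul, mul_one]; rfl)
  · show ψ (1 ⊗ₜ x) = _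
    rw [hψ, map_one, one_mul]
    rfl
  · refine RingHom.ext fun w => ?_
    induction w using TensorProduct.induction_on with
    | zero => rw [map_zero, map_zero]
    | tmul r x =>
      rw [show (r ⊗ₜ[R] x : R' ⊗[R] C) = a (MvPolynomial.C r) * Algebra.TensorProduct.includeRight x by
          rw [show a (MvPolynomial.C r) = r ⊗ₜ[R] 1 from MvPolynomial.aeval_C _ r]; simp,
        map_mul, map_mul]
      exact congrArg₂ (· * ·) (hg _) (hc x)
    | add x y hx hy => rw [map_add, map_add, hx, hy]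

end

section Point

variable {R C : Type u} [CommRing R] [CommRing C] [Algebra R C]

/-- The extension of an ideal of a fibre to a bigger field contracts to the ideal. -/
theorem mem_of_mem_map_field {κ k : Type u} [Field κ] [Field k] [Algebra R κ] [Algebra R k] [Algebra κ k]
    [IsScalarTower R κ k] (J : Ideal (κ ⊗[R] C)) (x : κ ⊗[R] C)
    (hx : Algebra.TensorProduct.map (IsScalarTower.toAlgHom R κ k) (AlgHom.id R C) x ∈
      J.map (Algebra.TensorProduct.map (IsScalarTower.toAlgHom R κ k) (AlgHom.id R C))) : x ∈ J := by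
  let B := κ ⊗[R] C
  let D := B ⊗[κ] k
  haveI : Module.FaithfullyFlat B D := inferInstance
  let j₁ : k →+* D := Algebra.TensorProduct.includeRight.toRingHom
  let j₂ : C →+* D := (algebraMap B D).comp Algebra.TensorProduct.includeRight.toRingHom
  have hcκ : ∀ a : κ, algebraMap B D (a ⊗ₜ[R] 1) = j₁ (algebraMap κ k a) := fun a => by
    show (a ⊗ₜ[R] (1 : C)) ⊗ₜ[κ] (1 : k) = (1 : B) ⊗ₜ[κ] algebraMap κ k a
    exact Algebra.TensorProduct.tmul_one_eq_one_tmul (R := κ) (A := B) (B := k) a
  have hj : ∀ r : R, j₂ (algebraMap R C r) = j₁ (algebraMap R k r) := fun r => by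
    rw [IsScalarTower.algebraMap_apply R κ k, ← hcκ]
    show algebraMap B D ((1 : κ) ⊗ₜ[R] algebraMap R C r) = _
    rw [← Algebra.TensorProduct.tmul_one_eq_one_tmul]
  have hR : ∀ r : R, algebraMap R D r = j₁ (algebraMap R k r) := fun r => by
    rw [IsScalarTower.algebraMap_apply R κ k, ← hcκ]
    rfl
  let Θ : k ⊗[R] C →ₐ[R] D :=
    Algebra.TensorProduct.lift ⟨j₁, fun r => (hR r).symm⟩ ⟨j₂, fun r => (hj r).trans (hR r).symm⟩
      fun _ _ => Commute.all _ _
  have hΘ : (Θ.toRingHom).comp (Algebra.TensorProduct.map (IsScalarTower.toAlgHom R κ k) (AlgHom.id R C)).toRingHom =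
      algebraMap B D := by
    refine RingHom.ext fun b => ?_
    induction b using TensorProduct.induction_on with
    | zero => rw [map_zero, map_zero]
    | tmul a c =>
      show Θ (algebraMap κ k a ⊗ₜ[R] c) = _
      rw [Algebra.TensorProduct.lift_tmul]
      show j₁ (algebraMap κ k a) * algebraMap B D ((1 : κ) ⊗ₜ c) = _
      rw [← hcκ, ← map_mul, Algebra.TensorProduct.tmul_mul_tmul, mul_one, one_mul]
    | add y z hy hz => rw [map_add, map_add, hy, hz]
  have h := Ideal.mem_map_of_mem Θ.toRingHom hx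
  rw [← Ideal.map_coe (Algebra.TensorProduct.map (IsScalarTower.toAlgHom R κ k) (AlgHom.id R C)), Ideal.map_map] at h
  rw [← Ideal.comap_map_eq_self_of_faithfullyFlat (B := D) J, Ideal.mem_comap, ← hΘ]
  exact h

variable [Algebra.FinitePresentation R C] [Module.Flat R C] {n d : ℕ} {f : Fin n → C}

/-- A finite slice through a geometric point lifts through a square zero thickening of a local ring. -/
theorem exists_lift_of_point (hf : (MvPolynomial.aeval f : MvPolynomial (Fin n) R →ₐ[R] C).toRingHom.Flat)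
    {R' : Type u} [CommRing R'] [IsLocalRing R'] [Algebra R R'] (I : Ideal R') (hI : I ^ 2 = ⊥)
    {A₀ : Type u} [CommRing A₀] [Algebra R' A₀] [Algebra (R' ⧸ I) A₀] [IsScalarTower R' (R' ⧸ I) A₀]
    (e₀ : Module.Basis (Fin d) (R' ⧸ I) A₀) (φ : C →+* A₀)
    (hφR : ∀ r, φ (algebraMap R C r) = algebraMap R' A₀ (algebraMap R R' r))
    {k : Type u} [Field k] [Algebra R' k] [IsLocalHom (algebraMap R' k)] [Algebra R k] [IsScalarTower R R' k]
    {Ak : Type u} [CommRing Ak] [Algebra k Ak] (ek : Module.Basis (Fin d) k Ak) (hd : 0 < d)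
    (σ : A₀ →+* Ak) (hσ : ∀ r, σ (algebraMap R' A₀ r) = algebraMap k Ak (algebraMap R' k r))
    (he : ∀ i, σ (e₀ i) = ek i) (φk : k ⊗[R] C →ₐ[k] Ak) (hφk : ∀ c, φk (1 ⊗ₜ c) = σ (φ c))
    (hφks : Function.Surjective φk) (t : Fin n → k)
    (hker : RingHom.ker φk = Ideal.span (Set.range fun i => (1 : k) ⊗ₜ[R] f i - t i ⊗ₜ[R] 1)) :
    ∃ (A : Type u) (_ : CommRing A) (_ : Algebra R' A) (e : Module.Basis (Fin d) R' A) (φ' : R' ⊗[R] C →ₐ[R'] A)
      (π : A →ₐ[R'] A₀), (∀ i, π (e i) = e₀ i) ∧ ∀ c, π (φ' (1 ⊗ₜ c)) = φ c := by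
  classical
  set m := maximalIdeal R' with hm
  have hψ : ∀ r, algebraMap R' k r = 0 ↔ r ∈ m := fun r => by
    refine ⟨fun h0 hu => ?_, fun hr => ?_⟩
    · exact not_isUnit_zero (h0 ▸ hu.map (algebraMap R' k))
    · by_contra h0
      exact hr (isUnit_of_map_unit (algebraMap R' k) r (isUnit_iff_ne_zero.2 h0))
  -- coordinates
  choose rep hrep using fun (x : A₀) (i : Fin d) => Ideal.Quotient.mk_surjective (e₀.repr x i)
  have hsum : ∀ x, x = ∑ i, rep x i • e₀ i := fun x => by
    conv_lhs => rw [← e₀.sum_repr x]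
    exact Finset.sum_congr rfl fun i _ => by rw [← hrep, ← Ideal.Quotient.algebraMap_eq, algebraMap_smul]
  have hσsum : ∀ x, σ x = ∑ i, algebraMap R' k (rep x i) • ek i := fun x => by
    conv_lhs => rw [hsum x]
    rw [map_sum]
    exact Finset.sum_congr rfl fun i _ => by rw [Algebra.smul_def, map_mul, hσ, he, Algebra.smul_def]
  have hσ0 : ∀ x, σ x = 0 ↔ x ∈ m.map (algebraMap R' A₀) := fun x => by
    refine ⟨fun h0 => ?_, fun hx => ?_⟩
    · rw [hsum x]
      rw [hσsum] at h0
      refine Ideal.sum_mem _ fun i _ => ?_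
      rw [Algebra.smul_def]
      exact Ideal.mul_mem_right _ _ (Ideal.mem_map_of_mem _ ((hψ _).1 (Fintype.linearIndependent_iff.1 ek.linearIndependent _ h0 i)))
    · refine (Ideal.map_le_iff_le_comap.2 (fun r hr => ?_) : m.map (algebraMap R' A₀) ≤ RingHom.ker σ) hx
      show σ (algebraMap R' A₀ r) = 0
      rw [hσ, (hψ r).2 hr, map_zero]
  -- the slice over the local ring
  let C' := R' ⊗[R] C
  letI : Algebra R A₀ := ((algebraMap R' A₀).comp (algebraMap R R')).toAlgebra
  haveI : IsScalarTower R R' A₀ := IsScalarTower.of_algebraMap_eq fun _ => rfl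
  let φ₁ : C' →ₐ[R'] A₀ := Algebra.TensorProduct.lift (Algebra.ofId R' A₀)
    { toRingHom := φ, commutes' := hφR } fun _ _ => Commute.all _ _
  have hφ₁ : ∀ c, φ₁ (1 ⊗ₜ c) = φ c := fun c => by
    rw [Algebra.TensorProduct.lift_tmul, map_one, one_mul]
    rfl
  let Φ : C' →ₐ[R] k ⊗[R] C := Algebra.TensorProduct.map (IsScalarTower.toAlgHom R R' k) (AlgHom.id R C)
  have hΦ : ∀ z, φk (Φ z) = σ (φ₁ z) := fun z => by
    induction z using TensorProduct.induction_on with
    | zero => simp
    | tmul r c =>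
      rw [show Φ (r ⊗ₜ c) = algebraMap R' k r • ((1 : k) ⊗ₜ[R] c) by
          rw [TensorProduct.smul_tmul', smul_eq_mul, mul_one]; rfl,
        map_smul, hφk, Algebra.smul_def, Algebra.TensorProduct.lift_tmul, map_mul]
      exact congrArg₂ (· * ·) (hσ r).symm rfl
    | add x y hx hy => simp only [map_add, hx, hy]
  have hsurj : ∀ a, ∃ z, φ₁ z - a ∈ m.map (algebraMap R' A₀) := by
    let κ := ResidueField R'
    letI : Algebra κ k := (ResidueField.lift (algebraMap R' k)).toAlgebra
    let cd : A₀ → Fin d → κ := fun x i => residue R' (rep x i)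
    have hcd : ∀ x i, algebraMap κ k (cd x i) = ek.equivFun (σ x) i := fun x i => by
      rw [hσsum, map_sum, Finset.sum_apply]
      simp only [map_smul, Pi.smul_apply, ek.equivFun_self, smul_eq_mul]
      rw [Finset.sum_eq_single i (fun j _ hj => by simp [hj]) (by simp)]
      simp only [if_true, mul_one]
      rfl
    let V : Submodule κ (Fin d → κ) := Submodule.span κ (Set.range fun z => cd (φ₁ z))
    have hV : V = ⊤ := by
      by_contra hne
      obtain ⟨lam, hlam0, hlam⟩ := Submodule.exists_dual_map_eq_bot_of_lt_top (lt_top_iff_ne_top.2 hne) inferInstance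
      let L : (Fin d → k) →ₗ[k] k := Fintype.linearCombination k fun i => algebraMap κ k (lam (Pi.single i 1))
      have hL : ∀ v : Fin d → κ, L (fun i => algebraMap κ k (v i)) = algebraMap κ k (lam v) := fun v => by
        conv_rhs => rw [pi_eq_sum_univ' v]
        simp [L, Fintype.linearCombination_apply, map_sum, map_smul, map_mul, Pi.single_apply]
      have hL0 : ∀ y, L (ek.equivFun (φk y)) = 0 := fun y => by
        induction y using TensorProduct.induction_on with
        | zero => simp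
        | tmul a c =>
          rw [show (a ⊗ₜ[R] c : k ⊗[R] C) = a • Φ (1 ⊗ₜ c) by
              show _ = a • (algebraMap R' k 1 ⊗ₜ[R] c)
              rw [map_one, TensorProduct.smul_tmul', smul_eq_mul, mul_one],
            map_smul, map_smul, map_smul, hΦ,
            show ek.equivFun (σ (φ₁ (1 ⊗ₜ c))) = fun i => algebraMap κ k (cd (φ₁ (1 ⊗ₜ c)) i) from
              funext fun i => (hcd _ i).symm,
            hL, (Submodule.eq_bot_iff _).1 hlam _ (Submodule.mem_map_of_mem (Submodule.subset_span ⟨_, rfl⟩)),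
            map_zero, smul_zero]
        | add x y hx hy => simp only [map_add, hx, hy, add_zero]
      refine hlam0 (LinearMap.ext fun v => ?_)
      obtain ⟨y, hy⟩ := hφks (ek.equivFun.symm fun i => algebraMap κ k (v i))
      have := hL0 y
      rw [hy, LinearEquiv.apply_symm_apply, hL, map_eq_zero] at this
      exact this
    intro a
    have ha : cd a ∈ V := hV ▸ Submodule.mem_top
    obtain ⟨l, hl⟩ := Finsupp.mem_span_range_iff_exists_finsupp.1 ha
    choose ρ hρ using residue_surjective (R := R')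
    refine ⟨l.sum fun z c => ρ c • z, (hσ0 _).1 ?_⟩
    rw [map_sub, sub_eq_zero]
    refine ek.equivFun.injective (funext fun i => ?_)
    rw [← hcd a i, ← hl, ← hΦ, map_finsuppSum, map_finsuppSum, map_finsuppSum, Finsupp.sum_apply', Finsupp.sum_apply',
      map_finsuppSum]
    refine Finsupp.sum_congr fun z _ => ?_
    rw [hΦ, map_smul, Algebra.smul_def, map_mul, hσ, ← Algebra.smul_def, map_smul, Pi.smul_apply, ← hcd,
      Pi.smul_apply, smul_eq_mul, smul_eq_mul, map_mul]
    exact congrArg (fun x => x * _) ((congrArg (algebraMap κ k) (hρ _)).symm.trans rfl).symm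
  -- the parameters
  have hone : ∃ j, IsUnit (rep 1 j) := by
    by_contra hno
    push_neg at hno
    have h1 : σ 1 = 0 := by
      rw [hσsum]
      exact Finset.sum_eq_zero fun i _ => by rw [(hψ _).2 (hno i), zero_smul]
    rw [map_one] at h1
    have := congrArg (fun x => ek.repr (x * ek ⟨0, hd⟩) ⟨0, hd⟩) h1
    simp at this
  obtain ⟨j, ⟨u, hu⟩⟩ := hone
  let t' : Fin n → R' := fun i => rep (φ (f i)) j * ↑u⁻¹
  have ht : ∀ i, algebraMap R' k (t' i) = t i := fun i => by
    have h0 : φk ((1 : k) ⊗ₜ[R] f i - t i ⊗ₜ[R] 1) = 0 := by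
      rw [← RingHom.mem_ker, hker]; exact Ideal.subset_span ⟨i, rfl⟩
    rw [map_sub, hφk, sub_eq_zero, show (t i ⊗ₜ[R] (1 : C) : k ⊗[R] C) = t i • 1 by
      rw [Algebra.TensorProduct.one_def, TensorProduct.smul_tmul', smul_eq_mul, mul_one], map_smul, map_one, ← map_one σ,
      hσsum, hσsum, Finset.smul_sum] at h0
    have := congrArg (fun x => ek.equivFun x j) h0
    simp only [map_sum, map_smul, Finset.sum_apply, Pi.smul_apply, ek.equivFun_self, smul_eq_mul, mul_ite, mul_one,
      mul_zero, Finset.sum_ite_eq', Finset.mem_univ, if_true] at this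
    rw [map_mul, this, ← hu, mul_assoc, ← map_mul, Units.mul_inv, map_one, mul_one]
  have hΦh : ∀ i, Φ ((1 : R') ⊗ₜ[R] f i - algebraMap R' C' (t' i)) = (1 : k) ⊗ₜ[R] f i - t i ⊗ₜ[R] 1 := fun i => by
    rw [map_sub, ← ht i]
    show (algebraMap R' k 1 ⊗ₜ[R] f i) - (algebraMap R' k (t' i) ⊗ₜ[R] (1 : C)) = _
    rw [map_one]
  -- the hypotheses of the lifting lemma
  refine exists_lift (flat_aeval_baseChange hf) t' I hI e₀ φ₁ hsurj (fun i => (hσ0 _).1 ?_) (fun z hz => ?_) |>.imp
    fun A hA => ?_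
  · rw [← hΦ, hΦh, ← RingHom.mem_ker, hker]
    exact Ideal.subset_span ⟨i, rfl⟩
  · let κ := ResidueField R'
    letI : Algebra κ k := (ResidueField.lift (algebraMap R' k)).toAlgebra
    haveI : IsScalarTower R κ k := IsScalarTower.of_algebraMap_eq fun r => by
      rw [IsScalarTower.algebraMap_apply R R' k, IsScalarTower.algebraMap_apply R R' κ]
      rfl
    let q : C' →ₐ[R] κ ⊗[R] C := Algebra.TensorProduct.map (IsScalarTower.toAlgHom R R' κ) (AlgHom.id R C)
    let χ := Algebra.TensorProduct.map (IsScalarTower.toAlgHom R κ k) (AlgHom.id R C)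
    have hχq : ∀ z, χ (q z) = Φ z := fun z => by
      induction z using TensorProduct.induction_on with
      | zero => simp
      | tmul r c => rfl
      | add x y hx hy => simp only [map_add, hx, hy]
    let hset : Fin n → C' := fun i => (1 : R') ⊗ₜ[R] f i - algebraMap R' C' (t' i)
    have h1 : q z ∈ (Ideal.span (Set.range hset)).map q := by
      refine mem_of_mem_map_field (k := k) _ _ ?_
      show χ (q z) ∈ ((Ideal.span (Set.range hset)).map q).map χ
      rw [hχq, ← Ideal.map_coe q, ← Ideal.map_coe χ, Ideal.map_map,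
        show (χ : κ ⊗[R] C →+* k ⊗[R] C).comp (q : C' →+* κ ⊗[R] C) = (Φ : C' →+* k ⊗[R] C) from RingHom.ext hχq,
        Ideal.map_span, ← Set.range_comp,
        show ⇑(Φ : C' →+* k ⊗[R] C) ∘ hset = fun i => (1 : k) ⊗ₜ[R] f i - t i ⊗ₜ[R] 1 from funext hΦh, ← hker,
        RingHom.mem_ker, hΦ, (hσ0 _).2 hz]
    have hqs : Function.Surjective q := fun y => by
      induction y using TensorProduct.induction_on with
      | zero => exact ⟨0, map_zero _⟩
      | tmul a c =>
        obtain ⟨r, rfl⟩ := residue_surjective a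
        exact ⟨r ⊗ₜ c, rfl⟩
      | add x y hx hy =>
        obtain ⟨a, rfl⟩ := hx
        obtain ⟨b, rfl⟩ := hy
        exact ⟨a + b, map_add _ _ _⟩
    obtain ⟨a, ha, hza⟩ := (Ideal.mem_map_iff_of_surjective q hqs).1 h1
    refine Submodule.mem_sup.2 ⟨a, ha, z - a, ?_, add_sub_cancel _ _⟩
    let mC := m.map (algebraMap R' C')
    let θ : κ ⊗[R] C →ₐ[R] C' ⧸ mC := Algebra.TensorProduct.lift
      ((Ideal.Quotient.liftₐ m ((Ideal.Quotient.mkₐ R' mC).comp (Algebra.ofId R' C')) fun r hr =>
        Ideal.Quotient.eq_zero_iff_mem.2 (Ideal.mem_map_of_mem _ hr)).restrictScalars R)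
      ((Ideal.Quotient.mkₐ R mC).comp Algebra.TensorProduct.includeRight) fun _ _ => Commute.all _ _
    have hθ : ∀ y, θ (q y) = Ideal.Quotient.mk mC y := fun y => by
      induction y using TensorProduct.induction_on with
      | zero => simp
      | tmul r c =>
        show θ (residue R' r ⊗ₜ[R] c) = _
        rw [Algebra.TensorProduct.lift_tmul]
        show Ideal.Quotient.mk mC (r ⊗ₜ 1) * Ideal.Quotient.mk mC (1 ⊗ₜ c) = _
        rw [← map_mul, Algebra.TensorProduct.tmul_mul_tmul, mul_one, one_mul]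
      | add x y hx hy => simp only [map_add, hx, hy]
    rw [← Ideal.Quotient.eq_zero_iff_mem, map_sub, ← hθ, ← hθ, hza, sub_self]
  · obtain ⟨i₁, i₂, e, φ', π, h1, h2⟩ := hA
    exact ⟨i₁, i₂, e, φ', π, h1, fun c => (DFunLike.congr_fun h2 _).trans (hφ₁ c)⟩

end Point

end Groth.Agent.FCov14.Lift
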