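import Groth.Agent.FCov14.StackRatLift
import Groth.Agent.FCov14.Coprod
import Groth.Agent.AlgStLib.SpaceCalc
import Groth.Agent.AlgSpDec.HensLift

/-!
# Points of algebraic stacks with values in henselian local rings
-/

set_option autoImplicit false
set_option backward.isDefEq.respectTransparency false
set_option backward.isDefEq.respectTransparency.types false

noncomputable section

universe u

open CategoryTheory CategoryTheory.Functor CategoryTheory.Limits Opposite AlgebraicGeometry AlgSp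
open Groth.Agent.AlgSpLib Groth.Agent.AlgStLib Groth.Agent.AlgSpDec Groth.Agent.FibBase
open Groth.Agent.AlgSpDec.HensLift (resPt res quotPt)

namespace Groth.Agent.FCov14.HensLift

variable {S : Scheme.{u}} {𝒵 : AlgSt.Cat S}

theorem spMapOfOver_toOverCat_overMap {U V : Over S} (c : U ⟶ V) :
    AlgSt.spMapOfOver (BasedFunctor.comp (AlgSt.toOverCat U) (AlgSt.overMap c)) = (yon S).map c := by
  apply ObjectProperty.hom_ext
  ext W x
  refine ULift.ext _ _ ?_
  show eqToHom _ ≫ (_ ≫ c) = _ ≫ c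
  simp
  rfl

/-- Composition of maps of sheaves. -/
def ofSpMapComp {F G H : Sp S} (a : F ⟶ G) (b : G ⟶ H) :
    BasedFunctor.comp (AlgSt.ofSpMap a) (AlgSt.ofSpMap b) ≅ AlgSt.ofSpMap (a ≫ b) :=
  isoOfSpMap _ ≪≫ eqToIso (congrArg (fun m => AlgSt.ofSpMap m) (by rw [spHom_comp, spHom_ofSpMap, spHom_ofSpMap]))

/-- Hensel lifting for smooth functors from algebraic spaces. -/
theorem exists_lift_ofSp {Z : Sp S} (f : AlgSt.ofSp Z ⥤ᵇ 𝒵)
    (hf : AlgSt.RepByAlgSpWith (LocP @Smooth) f) (R : Type u) [CommRing R] [HenselianLocalRing R]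
    (str : Spec (CommRingCat.of R) ⟶ S) (z : FibCat.overCat (Over.mk str) ⥤ᵇ 𝒵)
    (z₀ : (yon S).obj (resPt R str) ⟶ Z)
    (w : Nonempty (BasedFunctor.comp (BasedFunctor.comp (AlgSt.ofOverCat _) (AlgSt.ofSpMap z₀)) f ≅
      BasedFunctor.comp (AlgSt.overMap (res R str)) z)) :
    ∃ z' : (yon S).obj (Over.mk str) ⟶ Z, (yon S).map (res R str) ≫ z' = z₀ ∧
      Nonempty (BasedFunctor.comp (BasedFunctor.comp (AlgSt.ofOverCat (Over.mk str)) (AlgSt.ofSpMap z')) f ≅ z) := by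
  obtain ⟨w⟩ := w
  obtain ⟨F, e, he, ha⟩ := hf (Over.mk str) z
  obtain ⟨g, -, -, ⟨ge⟩⟩ := isEquivOver_inv he
  let a : F.obj ⟶ (yon S).obj (Over.mk str) := AlgSt.spMapOfOver (BasedFunctor.comp e (FibCat.fpFst z f))
  let b : F.obj ⟶ Z := spHom (BasedFunctor.comp e (FibCat.fpSnd z f))
  let L₀ : FibCat.overCat (resPt R str) ⥤ᵇ FibCat.fp z f :=
    FibCat.fpLift (AlgSt.overMap (res R str)) (overOfMap z₀) w.symm
  let p₀ : (yon S).obj (resPt R str) ⟶ F.obj := mapOfOver (BasedFunctor.comp L₀ g)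
  let T := BasedFunctor.comp (AlgSt.toOverCat (resPt R str)) (BasedFunctor.comp L₀ g)
  let j : BasedFunctor.comp T e ≅ BasedFunctor.comp (AlgSt.toOverCat (resPt R str)) L₀ :=
    whiskerLeftIso (BasedFunctor.comp (AlgSt.toOverCat (resPt R str)) L₀) ge
  have hpa : p₀ ≫ a = (yon S).map (res R str) ≫ 𝟙 _ := by
    rw [Category.comp_id]
    refine (spMapOfOver_comp T (BasedFunctor.comp e (FibCat.fpFst z f))).symm.trans ?_
    exact (spMapOfOver_congr (whiskerRightIso j (FibCat.fpFst z f))).trans (spMapOfOver_toOverCat_overMap _)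
  have hpb : p₀ ≫ b = z₀ := by
    refine (spHom_comp T (BasedFunctor.comp e (FibCat.fpSnd z f))).symm.trans ?_
    exact (spHom_congr (whiskerRightIso j (FibCat.fpSnd z f))).trans (mapOfOver_overOfMap z₀)
  obtain ⟨p', hp'₁, hp'₂⟩ := AlgSpDec.HensLift.exists_smooth_lift F.property (IsAlgSpace.yon_obj _) a ha R str
    (𝟙 _) p₀ hpa
  refine ⟨p' ≫ b, by rw [reassoc_of% hp'₂, hpb], ?_⟩
  let P : FibCat.overCat (Over.mk str) ⥤ᵇ FibCat.fp z f := BasedFunctor.comp (overOfMap p') e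
  let i₂ : BasedFunctor.comp P (FibCat.fpSnd z f) ≅ overOfMap (p' ≫ b) :=
    whiskerLeftIso (overOfMap p') (isoOfSpMap (BasedFunctor.comp e (FibCat.fpSnd z f))) ≪≫
      whiskerLeftIso (AlgSt.ofOverCat (Over.mk str)) (ofSpMapComp p' b)
  let i₁ : BasedFunctor.comp P (FibCat.fpFst z f) ≅ BasedFunctor.id _ :=
    whiskerLeftIso (overOfMap p') (isoSpMapOfOver (BasedFunctor.comp e (FibCat.fpFst z f))) ≪≫
      overIso _ _ (fun x => by
        show 𝟙 x.left ≫ x.hom = ((p' ≫ a).hom.app (op x.left) ⟨x.hom⟩).down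
        rw [Category.id_comp, hp'₁]
        rfl)
  exact ⟨whiskerRightIso i₂.symm f ≪≫ (whiskerLeftIso P (FibCat.fpIso z f)).symm ≪≫ whiskerRightIso i₁ z⟩

/-- Hensel lifting for smooth charts. -/
theorem exists_lift_chart {V : Over S} (p : FibCat.overCat V ⥤ᵇ 𝒵)
    (hp : AlgSt.RepByAlgSpWith (LocP @Smooth) p) (R : Type u) [CommRing R] [HenselianLocalRing R]
    (str : Spec (CommRingCat.of R) ⟶ S) (z : FibCat.overCat (Over.mk str) ⥤ᵇ 𝒵) (g₀ : resPt R str ⟶ V)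
    (w : Nonempty (BasedFunctor.comp (AlgSt.overMap g₀) p ≅ BasedFunctor.comp (AlgSt.overMap (res R str)) z)) :
    ∃ g : Over.mk str ⟶ V, res R str ≫ g = g₀ ∧ Nonempty (BasedFunctor.comp (AlgSt.overMap g) p ≅ z) := by
  obtain ⟨w⟩ := w
  have key : ∀ {U : Over S} (g : U ⟶ V), Nonempty (BasedFunctor.comp (BasedFunctor.comp (AlgSt.ofOverCat U)
      (AlgSt.ofSpMap ((yon S).map g))) (AlgSt.toOverCat V) ≅ AlgSt.overMap g) := fun {U} g =>
    ⟨overIso _ _ fun x => by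
      show 𝟙 x.left ≫ (x.hom ≫ g) = x.hom ≫ g
      simp⟩
  obtain ⟨k₀⟩ := key g₀
  obtain ⟨z', hz'₁, ⟨hz'₂⟩⟩ := exists_lift_ofSp (BasedFunctor.comp (AlgSt.toOverCat V) p)
    (repByAlgSpWith_precomp (isEquivOver_toOverCat V) hp) R str z ((yon S).map g₀) ⟨whiskerRightIso k₀ p ≪≫ w⟩
  obtain ⟨g, rfl⟩ := (yon S).map_surjective z'
  obtain ⟨k⟩ := key g
  exact ⟨g, (yon S).map_injective ((yon S).map_comp _ _ |>.trans hz'₁),
    ⟨(whiskerRightIso k p).symm ≪≫ hz'₂⟩⟩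

end Groth.Agent.FCov14.HensLift
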