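import Groth.Agent.FCov14.StackSigma
import Groth.Agent.FCov14.StackHensLift
import Groth.Agent.AlgStLib.LocQ
import Groth.Agent.SrcDescent.LocalAtSource

/-!
# Smooth charts of algebraic stacks catching points with values in henselian local rings
-/

set_option autoImplicit false
set_option linter.style.haveILetI false
set_option backward.isDefEq.respectTransparency false
set_option backward.isDefEq.respectTransparency.types false

noncomputable section

universe u

open CategoryTheory CategoryTheory.Functor CategoryTheory.Limits Opposite AlgebraicGeometry AlgSp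
open Groth.Agent.AlgSpLib Groth.Agent.AlgStLib Groth.Agent.AlgSpDec Groth.Agent.FibBase
open Groth.Agent.AlgSpDec.HensLift (resPt res quotPt)

attribute [local instance] uliftCategory

namespace Groth.Agent.FCov14.HensLift

variable {S : Scheme.{u}} {𝒵 : AlgSt.Cat S}

/-- A small family of affine smooth charts catches all points over a field. -/
theorem exists_family_up (h : AlgSt.IsAlgStack Scheme.fppfPrecoverage 𝒵) {k : Type u} [Field k]
    (s : Spec (CommRingCat.of k) ⟶ S) :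
    ∃ (ι : Type u) (V : ι → Over S) (x : ∀ i, FibCat.overCat (V i) ⥤ᵇ upCat 𝒵) (g : ∀ i, Over.mk s ⟶ V i),
      (∀ i, IsAffine (V i).left) ∧ (∀ i, AlgSt.RepByAlgSpWith (LocP @Smooth) (x i)) ∧
      ∀ y : FibCat.overCat (Over.mk s) ⥤ᵇ 𝒵, ∃ i, Nonempty
        (BasedFunctor.comp (AlgSt.overMap (g i)) (BasedFunctor.comp (x i) (downFun 𝒵)) ≅ y) := by
  obtain ⟨U, f, hf, hf'⟩ := h.atlas
  obtain ⟨ι, V, x, g, hV, hx, hg⟩ := Chart.exists_small_charts (isStack_up h.isStack)
    (repByAlgSp1_diag_up h.diag) (BasedFunctor.comp f (upFun 𝒵))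
    (Het.repByAlgSpWith_postcomp (upFun_isEquivOver 𝒵) hf') (Het.repByAlgSpWith_postcomp (upFun_isEquivOver 𝒵) hf) s
  refine ⟨ι, V, x, g, hV, hx, fun y => ?_⟩
  obtain ⟨i, ⟨e⟩⟩ := hg (BasedFunctor.comp y (upFun 𝒵))
  exact ⟨i, ⟨whiskerRightIso e (downFun 𝒵)⟩⟩

variable (R : Type u) [CommRing R] [HenselianLocalRing R]

/-- Points with values in henselian local rings lift to affine smooth charts. -/
theorem exists_affine_chart_lift (h : AlgSt.IsAlgStack Scheme.fppfPrecoverage 𝒵)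
    (str : Spec (CommRingCat.of R) ⟶ S) (z : FibCat.overCat (Over.mk str) ⥤ᵇ 𝒵) :
    ∃ (V : Over S) (p : FibCat.overCat V ⥤ᵇ 𝒵) (g : Over.mk str ⟶ V),
      IsAffine V.left ∧ AlgSt.RepByAlgSpWith (LocP @Smooth) p ∧
        Nonempty (BasedFunctor.comp (AlgSt.overMap g) p ≅ z) := by
  obtain ⟨ι, V, x, g, hV, hx, hg⟩ := exists_family_up h
    (Spec.map (CommRingCat.ofHom (IsLocalRing.residue R)) ≫ str)
  obtain ⟨i, hi⟩ := hg (BasedFunctor.comp (AlgSt.overMap (res R str)) z)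
  have hp := Het.repByAlgSpWith_postcomp (downFun_isEquivOver 𝒵) (hx i)
  obtain ⟨g', -, hg'⟩ := exists_lift_chart (BasedFunctor.comp (x i) (downFun 𝒵)) hp R str z (g i) hi
  exact ⟨V i, _, g', hV i, hp, hg'⟩

/-- A separated scheme smooth over the stack catches all points of quotient rings. -/
theorem exists_chart_all (h : AlgSt.IsAlgStack Scheme.fppfPrecoverage 𝒵) (str : Spec (CommRingCat.of R) ⟶ S) :
    ∃ (Z : Over S) (p : FibCat.overCat Z ⥤ᵇ 𝒵), IsSeparated Z.hom ∧ AlgSt.RepByAlgSpWith (LocP @Smooth) p ∧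
      ∀ (a : Ideal R) (x : FibCat.overCat (quotPt R str a) ⥤ᵇ 𝒵),
        ∃ g : quotPt R str a ⟶ Z, Nonempty (BasedFunctor.comp (AlgSt.overMap g) p ≅ x) := by
  obtain ⟨ι, V, x, g₀, hV, hx, hall⟩ := exists_family_up h
    (Spec.map (CommRingCat.ofHom (IsLocalRing.residue R)) ≫ str)
  obtain ⟨P, hP⟩ := exists_obj_sigma' (isStack_up h.isStack) V x
  haveI := hV
  haveI : (sigmaOver V).left.IsSeparated := FpqcSpace13.isSeparated_sigma fun i => (V i).left
  refine ⟨sigmaOver V, BasedFunctor.comp P (downFun 𝒵), inferInstance,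
    Het.repByAlgSpWith_postcomp (downFun_isEquivOver 𝒵)
      (repByAlgSpWith_smooth_sigma (isPrestack (isStack_up h.isStack)) (repByAlgSp1_diag_up h.diag) V P
        fun i => repByAlgSpWith_congr_iso (hP i).some.symm (hx i)), fun a y => ?_⟩
  by_cases ha : a = ⊤
  · haveI : Subsingleton (R ⧸ a) := Ideal.Quotient.subsingleton_iff.2 ha
    haveI hW : IsEmpty ↥(quotPt R str a).left := inferInstanceAs (IsEmpty (PrimeSpectrum (R ⧸ a)))
    let g : quotPt R str a ⟶ sigmaOver V := Over.homMk ((isInitialOfIsEmpty (X := (quotPt R str a).left)).to _)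
      ((isInitialOfIsEmpty (X := (quotPt R str a).left)).hom_ext _ _)
    let A := BasedFunctor.comp (AlgSt.overMap g) (BasedFunctor.comp P (downFun 𝒵))
    obtain ⟨φ, hφ, -⟩ := existsUnique_hom_of_isEmpty h.isStack hW (A.obj (Over.mk (𝟙 _)))
      (y.obj (Over.mk (𝟙 _))) (A.w_obj _) (y.w_obj _)
    exact ⟨g, exists_iso_of_eval h.isStack.1 A y φ hφ⟩
  haveI := IsoNatLib.henselianLocalRing_quotient a ha
  haveI : IsLocalHom (Ideal.Quotient.mk a) := .of_surjective _ Ideal.Quotient.mk_surjective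
  let str' : Spec (CommRingCat.of (R ⧸ a)) ⟶ S := Spec.map (CommRingCat.ofHom (Ideal.Quotient.mk a)) ≫ str
  let χ : IsLocalRing.ResidueField R →+* IsLocalRing.ResidueField (R ⧸ a) :=
    IsLocalRing.ResidueField.map (Ideal.Quotient.mk a)
  let d : resPt (R ⧸ a) str' ⟶ resPt R str := Over.homMk (Spec.map (CommRingCat.ofHom χ)) (by
    show Spec.map _ ≫ Spec.map _ ≫ str = Spec.map _ ≫ Spec.map _ ≫ str
    rw [← Spec.map_comp_assoc, ← Spec.map_comp_assoc]
    rfl)
  let c : resPt R str ⟶ quotPt R str a := Over.homMk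
    (Spec.map (CommRingCat.ofHom (Ideal.Quotient.factor (IsLocalRing.le_maximalIdeal ha)))) (by
    show Spec.map _ ≫ Spec.map _ ≫ str = Spec.map _ ≫ str
    rw [← Spec.map_comp_assoc]
    rfl)
  have hdc : d ≫ c = res (R ⧸ a) str' := by
    refine Over.OverMorphism.ext ?_
    show Spec.map _ ≫ Spec.map _ = Spec.map _
    rw [← Spec.map_comp]
    congr 1
    ext r
    rfl
  obtain ⟨i, ⟨hi⟩⟩ := hall (BasedFunctor.comp (AlgSt.overMap c) y)
  obtain ⟨g, -, ⟨hg⟩⟩ := exists_lift_chart (BasedFunctor.comp (x i) (downFun 𝒵))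
    (Het.repByAlgSpWith_postcomp (downFun_isEquivOver 𝒵) (hx i)) (R ⧸ a) str' y (d ≫ g₀ i)
    ⟨whiskerRightIso (overMapCompIso d (g₀ i)).symm _ ≪≫ whiskerLeftIso (AlgSt.overMap d) hi ≪≫
      whiskerRightIso (overMapCompIso d c ≪≫ eqToIso (congrArg AlgSt.overMap hdc)) y⟩
  obtain ⟨k⟩ := hP i
  exact ⟨g ≫ sigmaι V i, ⟨whiskerRightIso (overMapCompIso g (sigmaι V i)).symm _ ≪≫
    whiskerLeftIso (AlgSt.overMap g) (whiskerRightIso k (downFun 𝒵)) ≪≫ hg⟩⟩

theorem toSelf_base_isEquivOver :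
    FibCat.IsEquivOver (FibCat.toSelf (FibCat.overCat (Over.mk (𝟙 S)) : AlgSt.Cat S)) :=
  isEquivOver_of_exists_iso _ ⟨fun {_ _} g => ⟨Over.homMk g (Over.mkIdTerminal.hom_ext _ _), rfl⟩⟩
    ⟨fun h => Over.OverMorphism.ext h⟩
    fun w => ⟨Over.mk (Over.mkIdTerminal.from w), Iso.refl _, IsHomLift.id rfl⟩

/-- Smooth charts of stacks smooth over the base are smooth over the base. -/
theorem smooth_hom_of_chart (h : AlgSt.IsAlgStack Scheme.fppfPrecoverage 𝒵)
    (hsm : AlgSt.LocQ (LocP @Smooth) (FibCat.toSelf 𝒵)) {V : Over S} (x : FibCat.overCat V ⥤ᵇ 𝒵)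
    (hx : AlgSt.RepByAlgSpWith (LocP @Smooth) x) : Smooth V.hom := by
  let B : Over S := Over.mk (𝟙 S)
  let y := FibCat.toSelf (FibCat.overCat B : AlgSt.Cat S)
  have e : BasedFunctor.comp x (FibCat.toSelf 𝒵) =
      BasedFunctor.comp (AlgSt.overMap (Over.mkIdTerminal.from V)) y := (eq_toSelf _).trans (eq_toSelf _).symm
  let c := FibCat.fpLift x (AlgSt.overMap (Over.mkIdTerminal.from V)) (eqToIso e)
  have hy : FibCat.IsEquivOver y := toSelf_base_isEquivOver
  let m := fpMap (F := FibCat.toSelf 𝒵) (G := BasedFunctor.id (FibCat.selfOver (Over S)))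
    (F' := FibCat.toSelf 𝒵) (G' := y) (a := BasedFunctor.id _) (b := y)
    (c := BasedFunctor.id _) (Iso.refl _) (Iso.refl _)
  have hq : FibCat.IsEquivOver (FibCat.fpFst (FibCat.toSelf 𝒵) y) :=
    isEquivOver_of_iso (Iso.refl (BasedFunctor.comp m (FibCat.fpFst _ _)))
      (isEquivOver_comp (fpMap_isEquivOver _ _ isEquivOver_id hy) (fpFst_id_isEquivOver _))
  obtain ⟨g, hg, ⟨i⟩, -⟩ := isEquivOver_inv hq
  have hc : AlgSt.RepByAlgSpWith (LocP @Smooth) c :=
    repByAlgSpWith_of_iso (whiskerLeftIso c i) (repByAlgSpWith_postcomp hg hx)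
  have hs := locQS_of_locQ isSmoothLocalST_smooth h.isStack.1 isFibGrpd_selfOver hsm
  have key : Smooth (Over.mkIdTerminal.from V).left := locP_yon_map
    (hs.scheme c (repByAlgSpWith_smooth_of_isEquivOver hy) hc
      (h := Over.mkIdTerminal.from V) (Iso.refl _))
  have hw := Over.w (Over.mkIdTerminal.from V)
  rw [show (Over.mkIdTerminal.from V).left = V.hom from (Category.comp_id _).symm.trans hw] at key
  exact key

/-- Points of quotient rings lift through an algebraic stack smooth over a henselian local ring. -/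
theorem exists_lift_quotient {𝒳 : AlgSt.Cat (Spec (CommRingCat.of R))}
    (h : AlgSt.IsAlgStack Scheme.fppfPrecoverage 𝒳)
    (hsm : AlgSt.LocQ (LocP @Smooth) (FibCat.toSelf 𝒳)) (a : Ideal R) (ha : a ≠ ⊤)
    (z₀ : FibCat.overCat (Over.mk (Spec.map (CommRingCat.ofHom (Ideal.Quotient.mk a)))) ⥤ᵇ 𝒳) :
    ∃ z : FibCat.overCat (Over.mk (𝟙 (Spec (CommRingCat.of R)))) ⥤ᵇ 𝒳,
      Nonempty (BasedFunctor.comp (AlgSt.overMap (Over.homMk (Spec.map (CommRingCat.ofHom (Ideal.Quotient.mk a)))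
        (Category.comp_id _) : Over.mk (Spec.map (CommRingCat.ofHom (Ideal.Quotient.mk a))) ⟶ Over.mk (𝟙 _))) z ≅ z₀) := by
  haveI := IsoNatLib.henselianLocalRing_quotient a ha
  obtain ⟨V, p, g, hV, hp, ⟨hg⟩⟩ := exists_affine_chart_lift (R ⧸ a) h
    (Spec.map (CommRingCat.ofHom (Ideal.Quotient.mk a))) z₀
  haveI : Smooth V.hom := smooth_hom_of_chart h hsm p hp
  haveI := hV
  obtain ⟨φ, hφ⟩ := Spec.map_surjective (V.left.isoSpec.inv ≫ V.hom)
  obtain ⟨χ, hχ⟩ := Spec.map_surjective (g.left ≫ V.left.isoSpec.hom)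
  letI : Algebra R Γ(V.left, ⊤) := φ.hom.toAlgebra
  haveI : Smooth (Spec.map φ) := by rw [hφ]; infer_instance
  haveI : Algebra.Smooth R Γ(V.left, ⊤) := (HasRingHomProperty.Spec_iff (P := @Smooth)).mp this
  have hcomp : φ ≫ χ = CommRingCat.ofHom (Ideal.Quotient.mk a) := by
    apply Spec.map_injective
    rw [Spec.map_comp, hφ, hχ, Category.assoc, Iso.hom_inv_id_assoc, Over.w g]
    rfl
  let σ : Γ(V.left, ⊤) →ₐ[R] R ⧸ a :=
    { χ.hom with commutes' := fun r => congr(($hcomp).hom r) }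
  haveI : HenselianRing R a := Hensel.henselianRing_of_le (IsLocalRing.le_maximalIdeal ha)
  obtain ⟨τ, hτ⟩ := Hensel.exists_smooth_lift (I := a) σ
  let x' : Over.mk (𝟙 (Spec (CommRingCat.of R))) ⟶ V :=
    Over.homMk (Spec.map (CommRingCat.ofHom τ.toRingHom) ≫ V.left.isoSpec.inv) (by
      show (Spec.map _ ≫ V.left.isoSpec.inv) ≫ V.hom = 𝟙 _
      rw [Category.assoc, ← hφ, ← Spec.map_comp]
      have : φ ≫ CommRingCat.ofHom τ.toRingHom = 𝟙 _ := by ext r; exact τ.commutes r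
      rw [this, Spec.map_id])
  let j : Over.mk (Spec.map (CommRingCat.ofHom (Ideal.Quotient.mk a))) ⟶ Over.mk (𝟙 (Spec (CommRingCat.of R))) :=
    Over.homMk (Spec.map (CommRingCat.ofHom (Ideal.Quotient.mk a))) (Category.comp_id _)
  have hj : j ≫ x' = g := by
    refine Over.OverMorphism.ext ?_
    show Spec.map _ ≫ Spec.map _ ≫ V.left.isoSpec.inv = g.left
    rw [← Category.assoc, ← Spec.map_comp]
    have : CommRingCat.ofHom τ.toRingHom ≫ CommRingCat.ofHom (Ideal.Quotient.mk a) = χ := by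
      ext b; exact congr($hτ b)
    rw [this, hχ, Category.assoc, Iso.hom_inv_id, Category.comp_id]
  exact ⟨BasedFunctor.comp (AlgSt.overMap x') p,
    ⟨whiskerRightIso (overMapCompIso j x' ≪≫ eqToIso (congrArg AlgSt.overMap hj)) p ≪≫ hg⟩⟩

end Groth.Agent.FCov14.HensLift
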