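import Groth.Agent.FCov14.Atlas
import Groth.Agent.FCov14.Small
import Groth.Agent.FCov14.PushfSmooth
import Groth.Agent.FCov14.PolyParam
import Groth.Agent.AlgSpDec.RatLift
import Groth.Agent.SmoothSecLib.Basic
import Mathlib.FieldTheory.PrimitiveElement

/-!
# Points of algebraic stacks over a field lift to affine smooth charts

A point lifts to an atlas over a finite separable extension `k[t]/(p)`; the objects with a lift to the atlas along
the universal root algebra of monic polynomials of that degree form a space smooth over the stack with a rational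
point.
-/

set_option autoImplicit false
set_option linter.style.haveILetI false
set_option backward.isDefEq.respectTransparency false
set_option backward.isDefEq.respectTransparency.types false

universe u

open CategoryTheory CategoryTheory.Limits Opposite AlgebraicGeometry AlgSp
open Groth.Agent.AlgSpLib Groth.Agent.AlgStLib Groth.Agent.AlgSpDec Groth.Agent.FCov14.Pushf

namespace Groth.Agent.FCov14.Chart

theorem arr_move {C : Type*} [Category C] {𝒴 : BasedCategory C} {U₁ U₂ U₃ : C} {x : FibCat.overCat U₁ ⥤ᵇ 𝒴}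
    {g : FibCat.overCat U₂ ⥤ᵇ 𝒴} {y : FibCat.overCat U₃ ⥤ᵇ 𝒴} (hY : FibCat.IsFibGrpd 𝒴.p) {W : C}
    (α₁ α₂ : Arr x g W) (θ : Arr g g W) (β₁ β₂ : Arr y g W) (h : α₁.u₂ = θ.u₁) (hc : Arr.comp α₁ θ h = α₂)
    {hb : (Arr.inv hY β₁).u₂ = β₂.u₁} (hθ : θ = Arr.comp (Arr.inv hY β₁) β₂ hb)
    (p : α₁.u₂ = (Arr.inv hY β₁).u₁) (q : α₂.u₂ = (Arr.inv hY β₂).u₁) (_hu : True) :
    Arr.comp α₁ (Arr.inv hY β₁) p = Arr.comp α₂ (Arr.inv hY β₂) q := by
  subst hc hθ
  have hY' := hY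
  obtain ⟨a₁, a₂, am, hal⟩ := α₁
  obtain ⟨b₁, b₂, bm, hbl⟩ := β₁
  obtain ⟨c₁, c₂, cm, hcl⟩ := β₂
  obtain rfl : b₁ = c₁ := hb
  obtain rfl : a₂ = b₂ := p
  have : IsIso bm := Groth.Agent.FibBase.isIso_of_lift (hp := hY') (𝟙 W) bm
  have : IsIso cm := Groth.Agent.FibBase.isIso_of_lift (hp := hY') (𝟙 W) cm
  refine Arr.ext' rfl rfl ?_
  simp [Arr.comp, Arr.inv, castM_rfl]

variable {S : Scheme.{u}} {𝒳 : BasedCategory.{u + 1, u + 2} (Over S)} {U : Over S}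
  {hX : Stk.IsPrestack (J S) 𝒳} {f : FibCat.overCat U ⥤ᵇ 𝒳} {B Z A : Over S} {pz : Z ⟶ B}
  {y : FibCat.overCat A ⥤ᵇ 𝒳} {b : A ⟶ B}

/-- Local lifts of an object form a point of the space of descent data, and objects over charts through that
point are isomorphic to the object. -/
theorem exists_pt_of_lifts [IsFinite pz.left] [Flat pz.left] [LocallyOfFinitePresentation pz.left] [Surjective pz.left]
    (β : ∀ ⦃V : Over S⦄ (w : V ⟶ A) (z : V ⟶ Z), w ≫ b = z ≫ pz → Arr y f V)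
    (hβ₁ : ∀ ⦃V : Over S⦄ (w : V ⟶ A) (z : V ⟶ Z) (e : w ≫ b = z ≫ pz), (β w z e).u₁ = w)
    (hβn : ∀ ⦃V' V : Over S⦄ (g : V' ⟶ V) (w : V ⟶ A) (z : V ⟶ Z) (e : w ≫ b = z ≫ pz)
      (e' : (g ≫ w) ≫ b = (g ≫ z) ≫ pz), β (g ≫ w) (g ≫ z) e' = Arr.res hX.1 g (β w z e)) :
    ∃ p : (yon S).obj A ⟶ M hX f pz, ∀ {A₀ : Over S} {a : (yon S).obj A₀ ⟶ M hX f pz} (O : ObjData hX a)
      (g₀ : A ⟶ A₀), (yon S).map g₀ ≫ a = p →
      Nonempty (BasedFunctor.comp (AlgSt.overMap g₀) O.x ≅ y) := by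
  let D : Datum hX.1 f pz b :=
    { θ := fun V w z₁ z₂ e₁ e₂ => Arr.comp (Arr.inv hX.1 (β w z₁ e₁)) (β w z₂ e₂)
        (by rw [Arr.inv_u₂, hβ₁, hβ₁])
      nat := fun V' V g w z₁ z₂ e₁ e₂ e₁' e₂' => by
        rw [Arr.res_comp]
        congr 1
        · rw [Arr.res_inv, hβn g w z₁ e₁ e₁']
        · exact hβn g w z₂ e₂ e₂'
      cocycle := fun V w z₁ z₂ z₃ e₁ e₂ e₃ => by
        refine ⟨rfl, ?_⟩
        rw [Arr.comp_assoc]
        congr 1
        rw [← Arr.comp_assoc (β w z₂ e₂) (Arr.inv hX.1 (β w z₂ e₂)) (β w z₃ e₃) rfl (by rw [Arr.inv_u₂, hβ₁, hβ₁])]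
        refine Eq.trans ?_ (Arr.id_comp' (β w z₃ e₃) (β w z₂ e₂).u₁ (by rw [hβ₁, hβ₁]))
        congr 1
        exact Arr.comp_inv hX.1 _ }
  obtain ⟨p, hpb, hpθ⟩ := exists_pt hX D
  refine ⟨p, fun {A₀ a} O g₀ hg => ?_⟩
  have hbA : g₀ ≫ bA hX a = b := by
    rw [← hpb, ← hg, sec₂_map]; rfl
  have e₀ : ∀ {V : Over S} (w : V ⟶ A) (z : V ⟶ Z), w ≫ b = z ≫ pz → (w ≫ g₀) ≫ bA hX a = z ≫ pz :=
    fun w z e => by rw [Category.assoc, hbA, e]
  have hval : ∀ {V : Over S} (w : V ⟶ A) (z₁ z₂ : V ⟶ Z) (e₁ : w ≫ b = z₁ ≫ pz) (e₂ : w ≫ b = z₂ ≫ pz),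
      val₂ hX (sec₂ hX a) (w ≫ g₀) z₁ z₂ (e₀ w z₁ e₁) (e₀ w z₂ e₂) = D.θ w z₁ z₂ e₁ e₂ := by
    intro V w z₁ z₂ e₁ e₂
    refine Eq.trans ?_ (hpθ w z₁ z₂ e₁ e₂)
    simp only [← hg, sec₂_map]
    exact (val₂_res hX _ g₀ w z₁ z₂ _ _ _ _).symm
  have hu₂ : ∀ {V : Over S} (w : V ⟶ A) (z : V ⟶ Z) (e : w ≫ b = z ≫ pz),
      (O.α (w ≫ g₀) z (e₀ w z e)).u₂ = (Arr.inv hX.1 (β w z e)).u₁ := fun w z e => by
    rw [α_u₂ O, hval w z z e e]
    rfl
  let φ : ∀ {V : Over S} (w : V ⟶ A) (z : V ⟶ Z), w ≫ b = z ≫ pz → Arr O.x y V := fun w z e =>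
    Arr.comp (O.α (w ≫ g₀) z (e₀ w z e)) (Arr.inv hX.1 (β w z e)) (hu₂ w z e)
  have hφ : ∀ {V : Over S} (w : V ⟶ A) (z₁ z₂ : V ⟶ Z) (e₁ : w ≫ b = z₁ ≫ pz) (e₂ : w ≫ b = z₂ ≫ pz),
      φ w z₁ e₁ = φ w z₂ e₂ := fun {V} w z₁ z₂ e₁ e₂ => by
    obtain ⟨h, hc⟩ := O.α_θ (w ≫ g₀) z₁ z₂ (e₀ w z₁ e₁) (e₀ w z₂ e₂)
    refine arr_move hX.1 (O.α (w ≫ g₀) z₁ (e₀ w z₁ e₁)) (O.α (w ≫ g₀) z₂ (e₀ w z₂ e₂)) _ (β w z₁ e₁) (β w z₂ e₂)
      h hc (hval w z₁ z₂ e₁ e₂) _ _ trivial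
  obtain ⟨φ₀, hφ₀⟩ := arr_glue (hX := hX) (y₁ := O.x) (y₂ := y) (liftSieve_mem b)
    (fun V w hw => φ w hw.choose hw.choose_spec) fun V' V g k hk => by
      rw [hφ (g ≫ k) _ (g ≫ hk.choose) _ ((Category.assoc _ _ _).trans ((congrArg (g ≫ ·) hk.choose_spec).trans (Category.assoc _ _ _).symm))]
      show Arr.comp _ _ _ = _
      rw [Arr.res_comp]
      congr 1
      · refine Eq.trans ?_ (O.α_nat g (k ≫ g₀) _ (e₀ k _ hk.choose_spec)
          (by rw [Category.assoc, e₀ k _ hk.choose_spec, Category.assoc]))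
        congr 1
      · rw [Arr.res_inv, hβn g k _ hk.choose_spec]
  have h₁ : φ₀.u₁ = g₀ := (yon S).map_injective (hom_ext_of_covering _ _ (liftSieve_mem b) fun V w hw => by
    rw [← Functor.map_comp, ← Functor.map_comp, ← Arr.res_u₁ hX.1 w φ₀, hφ₀ w hw]
    exact congrArg _ (O.α_u₁ _ _ _))
  have h₂ : φ₀.u₂ = 𝟙 A := (yon S).map_injective (hom_ext_of_covering _ _ (liftSieve_mem b) fun V w hw => by
    rw [← Functor.map_comp, ← Functor.map_comp, ← Arr.res_u₂ hX.1 w φ₀, hφ₀ w hw, Category.comp_id]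
    exact congrArg _ (hβ₁ _ _ _))
  let ψ := Arr.recast φ₀ ((Category.id_comp g₀).trans h₁.symm) h₂
  exact exists_iso_of_eval hX.1 _ y ψ.m ψ.lift

/-- A small family of affine smooth charts catches all points with a lift to a smooth cover over a monogenic
algebra of given degree. -/
theorem exists_family_monogenic (hst : Stk.IsStack (J S) 𝒳)
    (hd : AlgSt.RepByAlgSp1 (FibCat.diag (FibCat.toSelf 𝒳))) (f : FibCat.overCat U ⥤ᵇ 𝒳)
    (hf : AlgSt.RepByAlgSpWith CoverP f) (hfs : AlgSt.RepByAlgSpWith (LocP @Smooth) f)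
    {k : Type u} [Field k] (s : Spec (CommRingCat.of k) ⟶ S) (d : ℕ) (hd0 : 0 < d) :
    ∃ (ι : Type u) (V : ι → Over S) (x : ∀ i, FibCat.overCat (V i) ⥤ᵇ 𝒳) (g : ∀ i, Over.mk s ⟶ V i),
      (∀ i, IsAffine (V i).left) ∧ (∀ i, AlgSt.RepByAlgSpWith (LocP @Smooth) (x i)) ∧
      ∀ (y : FibCat.overCat (Over.mk s) ⥤ᵇ 𝒳) (p : Polynomial k), p.Monic → p.natDegree = d →
        ∀ a₀ : Arr y f (Over.mk (Spec.map (CommRingCat.ofHom (AdjoinRoot.of p)) ≫ s)),
          a₀.u₁ = Over.homMk (Spec.map (CommRingCat.ofHom (AdjoinRoot.of p))) rfl →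
          ∃ i, Nonempty (BasedFunctor.comp (AlgSt.overMap (g i)) (x i) ≅ y) := by
  let hX := isPrestack hst
  let pz := PolyParam.pz d S
  obtain ⟨_, _, _, _⟩ := PolyParam.property_pz d S hd0
  obtain ⟨ι, V, a, g, hV, ha, hg⟩ := RatLift.exists_small_lifts (isAlgSpace_M hX f pz hd) s
  choose O _ using fun i => (⟨(exists_objData (hX := hX) (a := a i) hst).some, trivial⟩ :
    ∃ O : ObjData hX (a i), True)
  refine ⟨ι, V, fun i => (O i).x, g, hV, fun i => ?_, fun y p hp hpd a₀ ha₀ => ?_⟩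
  swap
  · obtain ⟨b, ζ, sqK⟩ := PolyParam.exists_point d p hp hpd s
    let τ : ∀ {V : Over S} (w : V ⟶ Over.mk s) (z : V ⟶ PolyParam.Z d S), w ≫ b = z ≫ pz →
        (V ⟶ Over.mk (Spec.map (CommRingCat.ofHom (AdjoinRoot.of p)) ≫ s)) := fun w z e => sqK.lift w z e
    obtain ⟨p₀, hp₀⟩ := exists_pt_of_lifts (hX := hX) (f := f) (pz := pz) (y := y) (b := b)
      (fun V w z e => Arr.res hX.1 (τ w z e) a₀)
      (fun V w z e => by rw [Arr.res_u₁, ha₀]; exact sqK.lift_fst _ _ _)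
      (fun V' V g w z e e' => by
        rw [Arr.res_res]
        congr 1
        exact sqK.hom_ext (by rw [sqK.lift_fst, Category.assoc, sqK.lift_fst])
          (by rw [sqK.lift_snd, Category.assoc, sqK.lift_snd]))
    obtain ⟨i, hi⟩ := hg p₀
    exact ⟨i, hp₀ (O i) (g i) hi⟩
  let B' : Over S := pullback (CategoryTheory.Over.homMk (PolyParam.B d S).hom (Category.comp_id _) :
      PolyParam.B d S ⟶ Over.mk (𝟙 S))
    (CategoryTheory.Over.homMk U.hom (Category.comp_id _) : U ⟶ Over.mk (𝟙 S))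
  let prB : B' ⟶ PolyParam.B d S := pullback.fst _ _
  let prU : B' ⟶ U := pullback.snd _ _
  have hB : IsProd prB prU := fun {W} q r => by
    refine ⟨pullback.lift q r (Over.mkIdTerminal.hom_ext _ _), ⟨pullback.lift_fst _ _ _, pullback.lift_snd _ _ _⟩,
      fun r' h => pullback.hom_ext (h.1.trans (pullback.lift_fst _ _ _).symm) (h.2.trans (pullback.lift_snd _ _ _).symm)⟩
  haveI : Smooth prU.left := MorphismProperty.of_isPullback
    ((IsPullback.of_hasPullback _ _).map (Over.forget S)) (PolyParam.smooth_hom d S)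
  have hM := isAlgSpace_M' hX f pz prB prU hd
  obtain ⟨_, _, _⟩ := isFinite_base pz prB
  have hR : IsAlgSpace (isomP hX f f) := isAlgSpace_isomP hX hd
  have hF : IsAlgSpace (F' hX f pz prB prU) :=
    isAlgSpace_pullback hR (IsAlgSpace.yon_obj _) (IsAlgSpace.yon_obj U) _ _
  have h2 : LocP @Smooth (isomP₂ hX f f) := by
    rw [← isomInv_fst hX]
    exact locP_comp hR hR (IsAlgSpace.yon_obj U) (locP_mono (fun _ _ e (_ : Etale e) => inferInstanceAs (Smooth e))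
      (locP_of_repWith (repWith_of_isIso @Etale (isomInvIso hX f f).hom)))
      (property_isomP₁ hX stableBC_locP hfs).2
  have hπ : LocP @Smooth (π' hX f pz prB prU) :=
    Groth.Agent.AlgSpLib.locP_of_isPullback (IsPullback.of_hasPullback _ _) hR (IsAlgSpace.yon_obj U)
      (IsAlgSpace.yon_obj _) h2
  have hx : LocP @Smooth (isomP₂ hX (O i).x f) := by
    rw [← chartFrame_projU hX (O i) hB]
    refine locP_comp (isAlgSpace_isomP hX hd) hM (IsAlgSpace.yon_obj U)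
      (locP_mono (fun _ _ e (_ : Etale e) => inferInstanceAs (Smooth e))
        (locP_of_repWith (repWith_chartFrame (O i) hB (ha i)))) ?_
    exact locP_comp hM (IsAlgSpace.yon_obj _) (IsAlgSpace.yon_obj U) (locP_proj_smooth _ _ hF hπ)
      (locP_of_repWith ((repWith_yon_map_iff _ _).2 ‹Smooth prU.left›))
  exact repByAlgSpWith_of_cover hX stableBC_locP (isLocalOnBase_fppf_locP @Smooth) hd hf _
    (isomP₁_of_snd hX stableBC_locP hd _ hx)

theorem coverP_of_smooth {F G : Sp S} {g : F ⟶ G} (h₁ : IsSurjectiveMor g) (h₂ : LocP @Smooth g) : CoverP g :=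
  ⟨⟨h₁, locP_mono (fun _ _ e (_ : Smooth e) => inferInstanceAs (Flat e)) h₂⟩,
    locP_mono (fun _ _ e (_ : Smooth e) => inferInstanceAs (LocallyOfFinitePresentation e)) h₂⟩

/-- A small family of affine smooth charts catches all points over a field. -/
theorem exists_small_charts (hst : Stk.IsStack (J S) 𝒳)
    (hd : AlgSt.RepByAlgSp1 (FibCat.diag (FibCat.toSelf 𝒳))) (f : FibCat.overCat U ⥤ᵇ 𝒳)
    (hf : AlgSt.RepByAlgSpWith IsSurjectiveMor f) (hfs : AlgSt.RepByAlgSpWith (LocP @Smooth) f)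
    {k : Type u} [Field k] (s : Spec (CommRingCat.of k) ⟶ S) :
    ∃ (ι : Type u) (V : ι → Over S) (x : ∀ i, FibCat.overCat (V i) ⥤ᵇ 𝒳) (g : ∀ i, Over.mk s ⟶ V i),
      (∀ i, IsAffine (V i).left) ∧ (∀ i, AlgSt.RepByAlgSpWith (LocP @Smooth) (x i)) ∧
      ∀ y : FibCat.overCat (Over.mk s) ⥤ᵇ 𝒳,
        ∃ i, Nonempty (BasedFunctor.comp (AlgSt.overMap (g i)) (x i) ≅ y) := by
  let hX := isPrestack hst
  have hfc : AlgSt.RepByAlgSpWith CoverP f := repByAlgSpWith_of_isomP hX fun W z => by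
    obtain ⟨hN, h₁⟩ := property_isomP₁ hX (y₁ := z) stableBC_isSurjectiveMor hf
    exact ⟨hN, coverP_of_smooth h₁ (property_isomP₁ hX stableBC_locP hfs).2⟩
  choose ι V x g hV hx hg using fun d : ULift.{u} ℕ =>
    exists_family_monogenic hst hd f hfc hfs s (d.down + 1) (Nat.succ_pos _)
  refine ⟨Σ d, ι d, fun i => V i.1 i.2, fun i => x i.1 i.2, fun i => g i.1 i.2, fun i => hV _ _, fun i => hx _ _,
    fun y => ?_⟩
  obtain ⟨hN, hN₁⟩ := property_isomP₁ hX (y₁ := y) stableBC_isSurjectiveMor hf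
  obtain ⟨-, hN₂⟩ := property_isomP₁ hX (y₁ := y) stableBC_locP hfs
  obtain ⟨Q, c, hc, hcs⟩ := hN.atlas
  let κ : Arr y f Q := (arrPt hX).symm c
  have hκ : (yon S).map κ.u₁ = c ≫ isomP₁ hX y f := by rw [← arrPt_fst hX, Equiv.apply_symm_apply]
  haveI : Smooth κ.u₁.left := hN₂ c (𝟙 _) κ.u₁ hc (repWith_id _ _) (by rw [Category.comp_id, hκ])
  obtain ⟨n, -⟩ := hN₁ (Points.schemeHomeo (Over.mk s) (IsLocalRing.closedPoint k))
  obtain ⟨q, -⟩ := surjective_map_of_repWith hcs n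
  let q₀ : Q.left := (Points.schemeHomeo Q).symm q
  obtain ⟨k', _, _, _, _, t, ht, -⟩ :=
    SmoothSecLib.exists_separable_point (k := k) κ.u₁.left ⊤ (x := q₀) trivial
  obtain ⟨α, hα⟩ := Field.exists_primitive_element k k'
  let p := minpoly k α
  have hint : IsIntegral k α := .of_finite k α
  let e : AdjoinRoot p →+* k' := AdjoinRoot.lift (algebraMap k k') α (minpoly.aeval k α)
  haveI : Fact (Irreducible p) := ⟨minpoly.irreducible hint⟩
  have he : Function.Bijective e := by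
    refine ⟨e.injective, fun z => ?_⟩
    have hz : z ∈ IntermediateField.adjoin k {α} := by rw [hα]; trivial
    have hz' : z ∈ Algebra.adjoin k {α} := by
      rw [← IntermediateField.adjoin_simple_toSubalgebra_of_isAlgebraic hint.isAlgebraic]; exact hz
    rw [Algebra.adjoin_singleton_eq_range_aeval] at hz'
    obtain ⟨F, rfl⟩ := hz'
    exact ⟨AdjoinRoot.mk p F, AdjoinRoot.lift_mk _ F⟩
  let ei := (RingEquiv.ofBijective e he).symm.toRingHom
  have hei : (ei.comp (algebraMap k k')) = AdjoinRoot.of p := by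
    refine RingHom.ext fun z => ?_
    refine (RingEquiv.ofBijective e he).injective ?_
    show RingEquiv.ofBijective e he ((RingEquiv.ofBijective e he).symm _) = e (AdjoinRoot.of p z)
    rw [RingEquiv.apply_symm_apply]
    exact (AdjoinRoot.lift_of _).symm
  let T₁ : Over S := Over.mk (Spec.map (CommRingCat.ofHom (AdjoinRoot.of p)) ≫ s)
  have ht' : (Spec.map (CommRingCat.ofHom ei) ≫ t) ≫ κ.u₁.left = Spec.map (CommRingCat.ofHom (AdjoinRoot.of p)) := by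
    rw [Category.assoc, ht, ← Spec.map_comp, ← CommRingCat.ofHom_comp, hei]
  let j : T₁ ⟶ Q := CategoryTheory.Over.homMk (Spec.map (CommRingCat.ofHom ei) ≫ t) (by
    show (Spec.map (CommRingCat.ofHom ei) ≫ t) ≫ Q.hom = Spec.map _ ≫ s
    rw [← Over.w κ.u₁, ← Category.assoc, ht']
    rfl)
  obtain ⟨d, hd'⟩ := Nat.exists_eq_succ_of_ne_zero (minpoly.natDegree_pos hint).ne'
  obtain ⟨i, hi⟩ := hg ⟨d⟩ y p (minpoly.monic hint) hd' (Arr.res hX.1 j κ)
    (by rw [Arr.res_u₁]; exact Over.OverMorphism.ext ht')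
  exact ⟨⟨⟨d⟩, i⟩, hi⟩

end Groth.Agent.FCov14.Chart
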