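import Groth.Agent.FCov14.Coprod
import Groth.Agent.FCov14.Atlas
import Groth.Agent.FCov14.BigEquiv

/-!
# Charts of stacks over disjoint unions
-/

set_option autoImplicit false
set_option linter.style.haveILetI false
set_option backward.isDefEq.respectTransparency false
set_option backward.isDefEq.respectTransparency.types false

universe v₂ u₂ u

open CategoryTheory CategoryTheory.Functor CategoryTheory.Limits Opposite AlgebraicGeometry AlgSp
open Groth.Agent.AlgSpLib Groth.Agent.AlgSpDec Groth.Agent.AlgStLib Groth.Agent.FibBase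

namespace Groth.Agent.FCov14

variable {S : Scheme.{u}}

section
variable {𝒳 : BasedCategory.{v₂, u₂} (Over S)}

/-- Objects over the summands give an object over the disjoint union restricting to them. -/
theorem exists_obj_sigma' (h : Stk.IsStack (J S) 𝒳) {ι : Type u} (V : ι → Over S)
    (G : ∀ i, FibCat.overCat (V i) ⥤ᵇ 𝒳) :
    ∃ P : FibCat.overCat (sigmaOver V) ⥤ᵇ 𝒳,
      ∀ i, Nonempty (BasedFunctor.comp (AlgSt.overMap (sigmaι V i)) P ≅ G i) := by
  have : (Stk.resSieve (sigmaSieve V) 𝒳).IsEquivalence := h.2 _ (sigmaSieve_mem V)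
  let P := (Stk.resSieve (sigmaSieve V) 𝒳).objPreimage (sigmaFun G h)
  let ε : (Stk.resSieve (sigmaSieve V) 𝒳).obj P ≅ sigmaFun G h := Functor.objObjPreimageIso _ _
  refine ⟨P, fun i => ?_⟩
  let A := BasedFunctor.comp (AlgSt.overMap (sigmaι V i)) P
  rcases isEmpty_or_nonempty (V i).left with hE | ⟨⟨z⟩⟩
  · obtain ⟨φ, hφ, -⟩ := existsUnique_hom_of_isEmpty h hE (A.obj (Over.mk (𝟙 _))) ((G i).obj (Over.mk (𝟙 _)))
      (A.w_obj _) ((G i).w_obj _)
    exact exists_iso_of_eval h.1 A (G i) φ hφ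
  · let t : (Stk.sieveCat (sigmaSieve V)).obj := ⟨Over.mk (sigmaι V i), i, 𝟙 _, Category.id_comp _⟩
    let p := pairOf V t
    have hp : pairObj G p = (G i).obj (Over.mk (𝟙 (V i))) := by
      have hi : p.i = i := pair_index V z p ⟨i, 𝟙 _, Category.id_comp _⟩
      have hw : p.l ≫ sigmaι V p.i = sigmaι V i := p.w
      revert hi hw
      generalize p = q
      obtain ⟨j, l, hl⟩ := q
      intro hi hw
      obtain rfl : j = i := hi
      have := mono_sigmaι V j
      obtain rfl : l = 𝟙 _ := (cancel_mono (sigmaι V j)).1 (hw.trans (Category.id_comp _).symm)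
      rfl
    have hA : A.obj (Over.mk (𝟙 (V i))) = P.obj (Over.mk (sigmaι V i)) := by
      show P.obj (Over.mk (𝟙 _ ≫ sigmaι V i)) = _
      rw [Category.id_comp]
    let m : P.obj (Over.mk (sigmaι V i)) ⟶ pairObj G p := ε.hom.toNatTrans.app t
    have hm : 𝒳.p.IsHomLift (𝟙 (V i)) m := BasedNatTrans.isHomLift ε.hom rfl
    exact exists_iso_of_eval h.1 A (G i) (eqToHom hA ≫ m ≫ eqToHom hp) inferInstance

end

variable {𝒳 : BasedCategory.{u + 1, u + 2} (Over S)} (hX : Stk.IsPrestack (J S) 𝒳)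

/-- Isomorphic objects have the same properties. -/
theorem repByAlgSpWith_congr_iso {Q : MorphismProperty (Sp S)} {U : Over S}
    {x x' : FibCat.overCat U ⥤ᵇ 𝒳} (i : x ≅ x') (hx : AlgSt.RepByAlgSpWith Q x) : AlgSt.RepByAlgSpWith Q x' := by
  have : (BasedFunctor.id 𝒳).toFunctor.Full := inferInstanceAs (𝟭 _).Full
  have : (BasedFunctor.id 𝒳).toFunctor.Faithful := inferInstanceAs (𝟭 _).Faithful
  intro V y
  obtain ⟨F, e, he, hP⟩ := hx V y
  let m := Het.fpMapH (F := y) (G := x') (F' := y) (G' := x) (a := BasedFunctor.id _) (b := BasedFunctor.id _)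
    (c := BasedFunctor.id _) (Iso.refl _) i
  exact ⟨F, BasedFunctor.comp e m,
    Groth.Agent.FibBase.isEquivOver_comp' he (Het.fpMapH_isEquivOver _ _ isEquivOver_id isEquivOver_id), hP⟩

include hX in
/-- An object over a disjoint union is smooth if its restrictions to the summands are. -/
theorem repByAlgSpWith_smooth_sigma (hd : AlgSt.RepByAlgSp1 (FibCat.diag (FibCat.toSelf 𝒳))) {ι : Type u}
    (V : ι → Over S) (p : FibCat.overCat (sigmaOver V) ⥤ᵇ 𝒳)
    (hp : ∀ i, AlgSt.RepByAlgSpWith (LocP @Smooth) (BasedFunctor.comp (AlgSt.overMap (sigmaι V i)) p)) :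
    AlgSt.RepByAlgSpWith (LocP @Smooth) p := by
  refine repByAlgSpWith_of_isomP hX fun T y => ⟨isAlgSpace_isomP hX hd, ?_⟩
  rw [← isomInv_snd hX]
  refine (stableComp_locP (R := @Smooth)) (isAlgSpace_isomP hX hd) (isAlgSpace_isomP hX hd) (IsAlgSpace.yon_obj T)
    _ _ (locP_smooth_of_isIso (isomInvIso hX y p).hom) ?_
  intro W V' a b h ha hb hab
  let κ : Arr p y W := (arrPt hX).symm a
  have hκ : a ≫ isomP₁ hX p y = (yon S).map κ.u₁ := by rw [← arrPt_fst hX, Equiv.apply_symm_apply]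
  let 𝒰 := (sigmaOpenCover fun i => (V i).left).pullback₁ κ.u₁.left
  refine (IsZariskiLocalAtSource.iff_of_openCover (P := @Smooth) 𝒰).2 fun i => ?_
  let Wi : Over S := Over.mk (pullback.fst κ.u₁.left (sigmaι V i).left ≫ W.hom)
  let q : Wi ⟶ W := Over.homMk (pullback.fst _ _) rfl
  let r₀ : Wi ⟶ V i := Over.homMk (pullback.snd κ.u₁.left (sigmaι V i).left) (by
    show pullback.snd _ _ ≫ (V i).hom = pullback.fst _ _ ≫ W.hom
    rw [← Over.w (sigmaι V i), ← pullback.condition_assoc, Over.w κ.u₁])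
  have sq₀ : IsPullback q r₀ κ.u₁ (sigmaι V i) :=
    IsPullback.of_map (Over.forget S) (Over.OverMorphism.ext pullback.condition) (IsPullback.of_hasPullback _ _)
  have sqI := isPullback_isomPre hX (y₁ := p) (y₂ := y) (sigmaι V i)
  let r := sqI.lift ((yon S).map q ≫ a) ((yon S).map r₀) (by
    rw [Category.assoc, hκ, ← Functor.map_comp, ← Functor.map_comp, sq₀.w])
  have sqB : IsPullback ((yon S).map q) ((yon S).map r₀) (a ≫ isomP₁ hX p y) ((yon S).map (sigmaι V i)) := by
    rw [hκ]; exact sq₀.map (yon S)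
  have sqR : IsPullback ((yon S).map q) r a (isomPre hX p y (sigmaι V i)) :=
    IsPullback.of_bot (by rw [sqI.lift_snd]; exact sqB) (sqI.lift_fst _ _ _).symm sqI
  obtain ⟨-, hi⟩ := property_isomP₁ hX (y₁ := y) stableBC_locP (hp i)
  have hi₂ : LocP @Smooth (isomP₂ hX (BasedFunctor.comp (AlgSt.overMap (sigmaι V i)) p) y) := by
    rw [← isomInv_fst hX]
    exact (stableComp_locP (R := @Smooth)) (isAlgSpace_isomP hX hd) (isAlgSpace_isomP hX hd)
      (IsAlgSpace.yon_obj T) _ _ (locP_smooth_of_isIso (isomInvIso hX _ y).hom) hi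
  exact hi₂ r b (q ≫ h) (repWith_of_isPullback sqR ha) hb (by
    rw [← isomPre_snd, ← Category.assoc, sqI.lift_fst, Category.assoc, hab, ← Functor.map_comp_assoc])

end Groth.Agent.FCov14
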