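import Groth.Agent.HilbDLib.AffChart
import Groth.Agent.GrpSchLib.WeilAlgFree

/-! The universal algebra with a given finite basis, as a universal object. -/

universe u

set_option autoImplicit false
set_option backward.isDefEq.respectTransparency false
set_option backward.isDefEq.respectTransparency.types false

open TensorProduct

namespace Groth.Agent.FCov14

open Groth.Agent.HilbDLib

section Univ

variable (d : ℕ)

/-- The integers. -/
def Zu : Type u := ULift.{u} ℤ

instance : CommRing Zu.{u} := inferInstanceAs (CommRing (ULift.{u} ℤ))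

/-- The integers are the integers. -/
def zEquiv : ℤ ≃+* Zu.{u} := ULift.ringEquiv.symm

theorem zHom_ext {R : Type u} [CommRing R] (f g : Zu.{u} →+* R) : f = g :=
  RingHom.ext fun x => by
    obtain ⟨n, rfl⟩ := zEquiv.surjective x
    exact DFunLike.congr_fun (RingHom.ext_int (f.comp zEquiv.toRingHom) (g.comp zEquiv.toRingHom)) n

/-- The map from the integers. -/
def zHom (R : Type u) [CommRing R] : Zu.{u} →+* R := (Int.castRingHom R).comp zEquiv.symm.toRingHom

/-- Polynomials in the basis vectors. -/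
abbrev Bz : Type u := MvPolynomial (Fin d) Zu.{u}

/-- The basis vectors. -/
noncomputable abbrev bX : Fin d → Bz.{u} d := MvPolynomial.X

/-- The parameter ring of algebras with a basis of cardinality `d`. -/
abbrev PU : Type u := AffChart.ChartRing Zu.{u} (bX.{u} d)

/-- The universal coordinates. -/
noncomputable abbrev cU : AffChart.Coord Zu.{u} (PU.{u} d) (bX.{u} d) := AffChart.univCoord Zu.{u} (bX.{u} d)

section Abstract

variable {Z B : Type u} [CommRing Z] [CommRing B] [Algebra Z B] {P : Type u} [CommRing P] [Algebra Z P] {d : ℕ}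
  {b : Fin d → B} (c : AffChart.Coord Z P b)

/-- The kernel of the algebra given by coordinates. -/
noncomputable def kerC : Ideal (P ⊗[Z] B) where
  carrier := {x | c.ρ x = 0}
  add_mem' ha hb := by simp only [Set.mem_setOf_eq, map_add] at ha hb ⊢; rw [ha, hb, add_zero]
  zero_mem' := map_zero _
  smul_mem' z x hx := by
    simp only [Set.mem_setOf_eq, smul_eq_mul] at hx ⊢
    induction z using TensorProduct.induction_on with
    | zero => rw [show (0 : P ⊗[Z] B) * x = 0 from MulZeroClass.zero_mul x, map_zero]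
    | tmul a v =>
      have : (a ⊗ₜ[Z] v : P ⊗[Z] B) = a • ((1 : P) ⊗ₜ[Z] v) := by
        rw [TensorProduct.smul_tmul', smul_eq_mul, mul_one]
      rw [this, smul_mul_assoc, map_smul, c.ρ_mul, hx, map_zero, smul_zero]
    | add y z hy hz => rw [add_mul, map_add, hy, hz, add_zero]

theorem mem_kerC {x : P ⊗[Z] B} : x ∈ kerC c ↔ c.ρ x = 0 := Iff.rfl

/-- The algebra given by coordinates. -/
def LC : Type u := (P ⊗[Z] B) ⧸ kerC c

noncomputable instance : CommRing (LC c) := inferInstanceAs (CommRing ((P ⊗[Z] B) ⧸ kerC c))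

noncomputable instance : Algebra P (LC c) := inferInstanceAs (Algebra P ((P ⊗[Z] B) ⧸ kerC c))

/-- The quotient map. -/
noncomputable def mkC : P ⊗[Z] B →ₐ[P] LC c := Ideal.Quotient.mkₐ _ (kerC c)

theorem mkC_surjective : Function.Surjective (mkC c) := Ideal.Quotient.mkₐ_surjective _ (kerC c)

theorem mkC_eq_iff {x y : P ⊗[Z] B} : mkC c x = mkC c y ↔ c.ρ x = c.ρ y := by
  refine (Ideal.Quotient.eq (I := kerC c) (x := x) (y := y)).trans ?_
  rw [mem_kerC, map_sub, sub_eq_zero]

/-- Coordinates in the algebra. -/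
noncomputable def coordC : LC c ≃ₗ[P] (Fin d → P) := by
  refine LinearEquiv.symm (LinearEquiv.ofBijective ((mkC c).toLinearMap.comp (AffChart.sect b)) ⟨?_, ?_⟩)
  · intro y y' h
    have := (mkC_eq_iff c).1 h
    rwa [c.ρ_sect, c.ρ_sect] at this
  · intro z
    obtain ⟨x, rfl⟩ := mkC_surjective c z
    exact ⟨c.ρ x, (mkC_eq_iff c).2 (c.ρ_sect _)⟩

/-- The basis. -/
noncomputable def eC : Module.Basis (Fin d) P (LC c) := Module.Basis.ofEquivFun (coordC c)

theorem eC_apply (i : Fin d) : eC c i = mkC c ((1 : P) ⊗ₜ[Z] b i) := by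
  rw [eC, Module.Basis.coe_ofEquivFun]
  show mkC c (AffChart.sect b (Pi.single i (1 : P))) = _
  rw [AffChart.sect_single]

theorem mkC_one_tmul (w : B) : mkC c ((1 : P) ⊗ₜ[Z] w) = ∑ i, c.c w i • eC c i := by
  have h : mkC c ((1 : P) ⊗ₜ[Z] w) = mkC c (AffChart.sect b (c.c w)) := by
    rw [mkC_eq_iff, c.ρ_sect, c.ρ_tmul, one_smul]
  rw [h, AffChart.sect_apply, map_sum]
  exact Finset.sum_congr rfl fun i _ => by rw [map_smul, eC_apply]

theorem lift_exists {A : Type u} [CommRing A] (θ₀ : P ⊗[Z] B →+* A) (h : ∀ x, c.ρ x = 0 → θ₀ x = 0) :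
    ∃ θ : LC c →+* A, ∀ x, θ (mkC c x) = θ₀ x :=
  ⟨Ideal.Quotient.lift (kerC c) θ₀ h, fun _ => rfl⟩

end Abstract

/-- The universal algebra with a basis of cardinality `d`. -/
abbrev LU : Type u := LC (cU.{u} d)

/-- The universal basis. -/
noncomputable abbrev eU : Module.Basis (Fin d) (PU.{u} d) (LU.{u} d) := eC (cU.{u} d)

variable {R A : Type u} [CommRing R] [CommRing A] [Algebra R A] (e : Module.Basis (Fin d) R A)

/-- Coordinates of an algebra with a basis are points of the parameter ring. -/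
theorem exists_classify : ∃ (χ : PU.{u} d →+* R) (θ : LU.{u} d →+* A),
    θ.comp (algebraMap (PU.{u} d) (LU.{u} d)) = (algebraMap R A).comp χ ∧ ∀ i, θ (eU d i) = e i := by
  letI : Algebra Zu.{u} R := (zHom R).toAlgebra
  letI : Algebra Zu.{u} A := ((algebraMap R A).comp (algebraMap Zu.{u} R)).toAlgebra
  haveI : IsScalarTower Zu.{u} R A := IsScalarTower.of_algebraMap_eq fun _ => rfl
  let ψ : Bz.{u} d →ₐ[Zu.{u}] A := MvPolynomial.aeval fun i => e i
  let c : AffChart.Coord Zu.{u} R (bX.{u} d) :=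
    { c := (e.equivFun.toLinearMap.restrictScalars Zu.{u}).comp ψ.toLinearMap
      c_base := fun i => by
        show e.equivFun (ψ (MvPolynomial.X i)) = _
        rw [MvPolynomial.aeval_X]
        funext j
        rw [e.equivFun_self, Pi.single_apply]
        exact if_congr eq_comm rfl rfl
      c_mul := fun v w => by
        show e.equivFun (ψ (v * w)) = ∑ i, e.equivFun (ψ w) i • e.equivFun (ψ (v * MvPolynomial.X i))
        rw [map_mul]
        conv_lhs => rw [← e.sum_equivFun (ψ w), Finset.mul_sum, map_sum]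
        exact Finset.sum_congr rfl fun i _ => by
          rw [mul_smul_comm, map_smul]
          exact congrArg (fun z => e.equivFun (ψ w) i • e.equivFun z) (by rw [map_mul, MvPolynomial.aeval_X]) }
  obtain ⟨χ, hχ, -⟩ := AffChart.existsUnique_coord c
  let θ₀ : PU.{u} d ⊗[Zu.{u}] Bz.{u} d →ₐ[Zu.{u}] A :=
    Algebra.TensorProduct.lift ((IsScalarTower.toAlgHom Zu.{u} R A).comp χ) ψ fun _ _ => Commute.all _ _
  have hθ₀ : ∀ x, θ₀ x = ∑ i, χ ((cU d).ρ x i) • e i := fun x => by
    induction x using TensorProduct.induction_on with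
    | zero => simp
    | tmul a w =>
      rw [(cU d).ρ_tmul, Algebra.TensorProduct.lift_tmul]
      have : ∀ i, χ ((cU d).c w i) = e.equivFun (ψ w) i := fun i =>
        congrArg (fun t : AffChart.Coord Zu.{u} R (bX.{u} d) => t.c w i) hχ
      simp only [Pi.smul_apply, smul_eq_mul, map_mul, this, mul_smul, ← Finset.smul_sum, e.sum_equivFun]
      rw [Algebra.smul_def]
      rfl
    | add x y hx hy => simp only [map_add, hx, hy, Pi.add_apply, add_smul, Finset.sum_add_distrib]
  obtain ⟨θ, hθ⟩ := lift_exists (cU.{u} d) θ₀.toRingHom fun x hx => by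
    show θ₀ x = 0
    rw [hθ₀, hx]
    simp
  refine ⟨χ.toRingHom, θ, RingHom.ext fun a => ?_, fun i => ?_⟩
  · show θ (algebraMap _ _ a) = algebraMap R A (χ a)
    rw [← (mkC (cU.{u} d)).commutes a, hθ]
    show θ₀ (a ⊗ₜ[Zu.{u}] 1) = algebraMap R A (χ a)
    rw [Algebra.TensorProduct.lift_tmul, map_one, mul_one]
    rfl
  · rw [eC_apply, hθ]
    show θ₀ ((1 : PU.{u} d) ⊗ₜ[Zu.{u}] MvPolynomial.X i) = e i
    rw [Algebra.TensorProduct.lift_tmul, map_one, one_mul, MvPolynomial.aeval_X]

/-- The point of the parameter ring of an algebra with a basis is unique. -/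
theorem classify_unique {χ χ' : PU.{u} d →+* R} {θ θ' : LU.{u} d →+* A}
    (hθ : θ.comp (algebraMap (PU.{u} d) (LU.{u} d)) = (algebraMap R A).comp χ) (he : ∀ i, θ (eU d i) = e i)
    (hθ' : θ'.comp (algebraMap (PU.{u} d) (LU.{u} d)) = (algebraMap R A).comp χ') (he' : ∀ i, θ' (eU d i) = e i) :
    χ = χ' ∧ θ = θ' := by
  have hlin : ∀ (χ : PU.{u} d →+* R) (θ : LU.{u} d →+* A),
      θ.comp (algebraMap (PU.{u} d) (LU.{u} d)) = (algebraMap R A).comp χ → (∀ i, θ (eU d i) = e i) →
      ∀ y : Fin d → PU.{u} d, θ (∑ i, y i • eU d i) = ∑ i, χ (y i) • e i := fun χ θ hθ he y => by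
    rw [map_sum]
    refine Finset.sum_congr rfl fun i _ => ?_
    rw [Algebra.smul_def, map_mul, he, ← RingHom.comp_apply, hθ, RingHom.comp_apply, Algebra.smul_def]
  let u : Bz.{u} d →+* LU.{u} d := (mkC (cU.{u} d)).toRingHom.comp Algebra.TensorProduct.includeRight.toRingHom
  have hu : θ.comp u = θ'.comp u := by
    refine MvPolynomial.ringHom_ext (fun r => ?_) fun i => ?_
    · exact DFunLike.congr_fun (zHom_ext ((θ.comp u).comp MvPolynomial.C) ((θ'.comp u).comp MvPolynomial.C)) r
    · show θ (mkC (cU.{u} d) ((1 : PU.{u} d) ⊗ₜ MvPolynomial.X i)) = θ' (mkC (cU.{u} d) ((1 : PU.{u} d) ⊗ₜ MvPolynomial.X i))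
      rw [← eC_apply, he, he']
  have hc : ∀ w i, χ ((cU d).c w i) = χ' ((cU d).c w i) := fun w i => by
    have h : θ (mkC (cU.{u} d) ((1 : PU.{u} d) ⊗ₜ w)) = θ' (mkC (cU.{u} d) ((1 : PU.{u} d) ⊗ₜ w)) := DFunLike.congr_fun hu w
    rw [mkC_one_tmul, hlin χ θ hθ he, hlin χ' θ' hθ' he'] at h
    have := congrArg (fun z => e.equivFun z i) h
    simpa [Finsupp.single_apply] using this
  have hχ : χ = χ' := Ideal.Quotient.ringHom_ext (MvPolynomial.ringHom_ext (fun r =>
    DFunLike.congr_fun (zHom_ext ((χ.comp (Ideal.Quotient.mk _)).comp MvPolynomial.C)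
      ((χ'.comp (Ideal.Quotient.mk _)).comp MvPolynomial.C)) r)
    fun p => hc p.1 p.2)
  refine ⟨hχ, RingHom.ext fun z => ?_⟩
  rw [← (eU d).sum_equivFun z, hlin χ θ hθ he, hlin χ' θ' hθ' he', hχ]

instance : IsNoetherianRing Zu.{u} := isNoetherianRing_of_ringEquiv ℤ zEquiv

instance finitePresentation_PU : Algebra.FinitePresentation Zu.{u} (PU.{u} d) := by
  classical
  let t : Finset (PU.{u} d) := Finset.univ.image (fun p : (Fin d ⊕ (Fin d × Fin d)) × Fin d =>
    (cU d).c (Sum.elim (fun _ => (1 : Bz.{u} d)) (fun q => MvPolynomial.X q.1 * MvPolynomial.X q.2) p.1) p.2)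
  let S := Algebra.adjoin Zu.{u} (t : Set (PU.{u} d))
  have h2 : ∀ a i j, (cU d).c (MvPolynomial.X a * MvPolynomial.X i) j ∈ S := fun a i j =>
    Algebra.subset_adjoin (Finset.mem_image.2 ⟨(Sum.inr (a, i), j), Finset.mem_univ _, rfl⟩)
  have h1 : ∀ j, (cU.{u} d).c 1 j ∈ S := fun j =>
    Algebra.subset_adjoin (Finset.mem_image.2 ⟨(Sum.inl j, j), Finset.mem_univ _, rfl⟩)
  have hall : ∀ w j, (cU.{u} d).c w j ∈ S := fun w => by
    induction w using MvPolynomial.induction_on with
    | C r =>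
      intro j
      rw [show (MvPolynomial.C r : Bz.{u} d) = r • 1 by rw [Algebra.smul_def, mul_one]; rfl, map_smul]
      exact S.smul_mem (h1 j) r
    | add p q hp hq => intro j; rw [map_add]; exact S.add_mem (hp j) (hq j)
    | mul_X p a hp =>
      intro j
      rw [mul_comm, (cU d).c_mul, Finset.sum_apply]
      exact S.sum_mem fun i _ => by
        rw [Pi.smul_apply, smul_eq_mul]; exact S.mul_mem (hp i) (h2 a i j)
  refine Algebra.FinitePresentation.of_finiteType.1 ⟨⟨t, top_le_iff.1 ?_⟩⟩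
  rintro z -
  obtain ⟨p, rfl⟩ := Ideal.Quotient.mk_surjective z
  induction p using MvPolynomial.induction_on with
  | C c => exact S.algebraMap_mem c
  | add p q hp hq => rw [map_add]; exact S.add_mem hp hq
  | mul_X p q hp => rw [map_mul]; exact S.mul_mem hp (hall q.1 q.2)

end Univ

end Groth.Agent.FCov14
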